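import Mathlib
import Groth.Prelude.Def_ProEtS
import Groth.Prelude.Def_PBC
import Groth.Agent.Et18.ProEtPoints
import Groth.Agent.SchMor12.WeaklyEtale

/-!
# Weakly contractible objects of the small pro-étale site
-/

set_option autoImplicit false
set_option linter.all false
set_option backward.isDefEq.respectTransparency.types false
set_option backward.isDefEq.respectTransparency false

universe u

open CategoryTheory Limits AlgebraicGeometry Opposite MorphismProperty

namespace Groth.Agent.ProEtWC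

variable {X : Scheme.{u}}

/-- The morphisms of the site are weakly étale. -/
theorem weaklyEtale_left {U V : X.ProEt} (f : U ⟶ V) : WeaklyEtale f.left := by
  have : WeaklyEtale (f.left ≫ V.hom) := by rw [CategoryTheory.Over.w f.hom]; exact U.prop
  exact MorphismProperty.of_postcomp (W := @WeaklyEtale) (W' := @WeaklyEtale) f.left V.hom V.prop this

/-- Covering sieves are jointly surjective. -/
theorem exists_mem_of_covering {U : X.ProEt} {R : Sieve U} (hR : R ∈ Scheme.ProEt.topology X U)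
    (x : U.left) : ∃ (V : X.ProEt) (g : V ⟶ U), R g ∧ x ∈ Set.range g.left := by
  change (Scheme.ProEt.precoverage X).Saturate U R at hR
  induction hR with
  | of Z R hR =>
    rw [Scheme.ProEt.precoverage, Precoverage.mem_comap_iff,
      Scheme.proetalePrecoverage, Scheme.mem_propQCPrecoverage_iff_exists_quasiCompactCover] at hR
    obtain ⟨𝒰, -, hR⟩ := hR
    obtain ⟨i, y, hy⟩ : ∃ i y, 𝒰.f i y = x := ⟨_, 𝒰.covers x⟩
    have hmem : (R.map (Scheme.ProEt.forget X ⋙ CategoryTheory.Over.forget X)) (𝒰.f i) := by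
      rw [hR]; exact ⟨_⟩
    obtain ⟨V, p, e, hp, he⟩ := Et18.exists_of_map_mem hmem
    let e' : 𝒰.X i ⟶ V.left := e
    have he' : e' ≫ p.left = 𝒰.f i := he
    refine ⟨V, p, ⟨_, 𝟙 _, _, hp, Category.id_comp _⟩, e' y, ?_⟩
    show (e' ≫ p.left) y = x
    rw [he']
    exact hy
  | top Z => exact ⟨Z, 𝟙 Z, trivial, x, rfl⟩
  | pullback Z R _ Y f ih =>
    obtain ⟨V, g, hg, v, hv⟩ := ih (f.left x)
    have hsq := (IsPullback.of_hasPullback g f).map (Scheme.ProEt.forget X ⋙ CategoryTheory.Over.forget X)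
    let P : X.ProEt := pullback g f
    obtain ⟨w, -, hw⟩ := Scheme.exists_preimage_of_isPullback hsq v x (show g.left v = f.left x from hv)
    refine ⟨P, pullback.snd g f, ?_, w, hw⟩
    show R (pullback.snd g f ≫ f)
    rw [← pullback.condition]
    exact R.downward_closed hg _
  | transitive Z R T _ _ ih₁ ih₂ =>
    obtain ⟨V, g, hg, v, hv⟩ := ih₁ x
    obtain ⟨V', g', hg', v', hv'⟩ := ih₂ hg v
    refine ⟨V', g' ≫ g, hg', v', ?_⟩
    show g.left (g'.left v') = x
    rw [hv', hv]

/-- Affine morphisms in the site give weakly étale algebras. -/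
theorem weaklyEtale_appTop {Y U : Scheme.{u}} [IsAffine Y] [IsAffine U] (f : Y ⟶ U) [WeaklyEtale f] :
    letI := f.appTop.hom.toAlgebra
    Algebra.WeaklyEtale Γ(U, ⊤) Γ(Y, ⊤) := by
  letI := f.appTop.hom.toAlgebra
  rw [← SchMor12.weaklyEtale_SpecMap_iff]
  have h : f.appTop = CommRingCat.ofHom (algebraMap Γ(U, ⊤) Γ(Y, ⊤)) := rfl
  rw [← h]
  exact (MorphismProperty.arrow_mk_iso_iff (P := @WeaklyEtale) (arrowIsoSpecΓOfIsAffine f)).1 ‹_›

/-- A surjective weakly étale map to a w-contractible affine scheme has a section. -/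
theorem exists_section {U Y : X.ProEt} [IsAffine U.left] [IsAffine Y.left]
    (hU : EtPBC.IsWContractible Γ(U.left, ⊤)) (g : Y ⟶ U) (hg : Function.Surjective g.left) :
    ∃ σ : U ⟶ Y, σ ≫ g = 𝟙 U := by
  haveI := weaklyEtale_left g
  letI := g.left.appTop.hom.toAlgebra
  haveI := weaklyEtale_appTop g.left
  have hsurj : Function.Surjective (PrimeSpectrum.comap (algebraMap Γ(U.left, ⊤) Γ(Y.left, ⊤))) := by
    haveI : Surjective g.left := ⟨hg⟩
    exact ((MorphismProperty.arrow_mk_iso_iff (P := @Surjective) (arrowIsoSpecΓOfIsAffine g.left)).1 ‹_›).surj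
  obtain ⟨t⟩ := hU Γ(Y.left, ⊤) (Module.FaithfullyFlat.of_comap_surjective hsurj) inferInstance
  let r : U.left ⟶ Y.left := U.left.isoSpec.hom ≫ Spec.map (CommRingCat.ofHom t.toRingHom) ≫ Y.left.isoSpec.inv
  have hr : r ≫ g.left = 𝟙 _ := by
    show (U.left.isoSpec.hom ≫ Spec.map _ ≫ Y.left.isoSpec.inv) ≫ g.left = _
    rw [Category.assoc, Category.assoc, ← Scheme.isoSpec_inv_naturality, ← Spec.map_comp_assoc]
    have h1 : g.left.appTop ≫ CommRingCat.ofHom t.toRingHom = 𝟙 _ :=
      CommRingCat.hom_ext (RingHom.ext t.commutes)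
    rw [h1, Spec.map_id, Category.id_comp, Iso.hom_inv_id]
  refine ⟨MorphismProperty.Over.homMk r ?_ trivial, ?_⟩
  · show r ≫ Y.hom = U.hom
    have hw : g.left ≫ U.hom = Y.hom := CategoryTheory.Over.w g.hom
    rw [← hw, ← Category.assoc, hr, Category.id_comp]
  · exact (Scheme.ProEt.forget X ⋙ CategoryTheory.Over.forget X).map_injective hr

/-- An open subscheme as an object of the site. -/
noncomputable abbrev openObj (U : X.ProEt) (W : U.left.Opens) : X.ProEt := Scheme.ProEt.mk (W.ι ≫ U.hom)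

/-- The inclusion of an open subscheme. -/
noncomputable abbrev openIncl (U : X.ProEt) (W : U.left.Opens) : openObj U W ⟶ U :=
  MorphismProperty.Over.homMk W.ι

/-- Every covering sieve contains the pieces of a finite clopen decomposition. -/
def ClopenRefined (U : X.ProEt) : Prop :=
  ∀ R ∈ Scheme.ProEt.topology X U, ∃ (n : ℕ) (W : Fin n → U.left.Opens),
    (∀ k, IsClopen ((W k : Set ↥U.left))) ∧
    Pairwise (fun k l => Disjoint (W k : Set ↥U.left) (W l)) ∧ (⋃ k, (W k : Set ↥U.left)) = Set.univ ∧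
    ∀ k, R.arrows (openIncl U (W k))

theorem clopenRefined_of_wContractible {U : X.ProEt} [IsAffine U.left]
    (hU : EtPBC.IsWContractible Γ(U.left, ⊤)) : ClopenRefined U := by
  intro R hR
  have hfin := Et18.saturate_hasFiniteAffine hR U (𝟙 U) ‹IsAffine U.left›
  rw [Sieve.pullback_id] at hfin
  obtain ⟨n, Yc, f, hY, hf, hcov⟩ := hfin
  haveI : ∀ k, IsAffine (Yc k).left := hY
  haveI : ∀ k, WeaklyEtale (f k).left := fun k => weaklyEtale_left (f k)
  let d : (∐ fun k => (Yc k).left) ⟶ U.left := Sigma.desc fun k => (f k).left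
  haveI : WeaklyEtale d := IsZariskiLocalAtSource.sigmaDesc fun k => weaklyEtale_left (f k)
  let T : X.ProEt := Scheme.ProEt.mk (d ≫ U.hom)
  haveI : IsAffine T.left := inferInstanceAs (IsAffine (∐ fun k => (Yc k).left))
  let g : T ⟶ U := MorphismProperty.Over.homMk d rfl trivial
  have hd : Function.Surjective g.left := fun x => by
    obtain ⟨V, h, ⟨V', c, p, ⟨k⟩, rfl⟩, v, rfl⟩ := exists_mem_of_covering hcov x
    refine ⟨Sigma.ι (fun k => (Yc k).left) k (c.left v), ?_⟩
    show d (Sigma.ι (fun k => (Yc k).left) k (c.left v)) = (f k).left (c.left v)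
    rw [← Scheme.Hom.comp_apply, Sigma.ι_desc]
  obtain ⟨σ, hσ⟩ := exists_section hU g hd
  let ι := fun k => Sigma.ι (fun k => (Yc k).left) k
  let W : Fin n → U.left.Opens := fun k => σ.left ⁻¹ᵁ (ι k).opensRange
  have hdisj : Pairwise (fun k l => Disjoint (W k : Set ↥U.left) (W l)) := fun k l hkl => by
    refine Set.disjoint_left.2 fun x hk hl => ?_
    have h := disjoint_opensRange_sigmaι (fun k => (Yc k).left) k l hkl
    have hx : σ.left x ∈ (ι k).opensRange ⊓ (ι l).opensRange := ⟨hk, hl⟩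
    rw [h.eq_bot] at hx
    exact hx
  have hcover : (⋃ k, (W k : Set ↥U.left)) = Set.univ := Set.eq_univ_of_forall fun x => by
    obtain ⟨k, y, hy⟩ : ∃ k y, ι k y = σ.left x :=
      ⟨_, (sigmaOpenCover (fun k => (Yc k).left)).covers (σ.left x)⟩
    exact Set.mem_iUnion.2 ⟨k, y, hy⟩
  have hcl : ∀ k, IsClopen ((W k : Set ↥U.left)) := fun k => by
    refine ⟨?_, (W k).isOpen⟩
    have : (W k : Set ↥U.left) = (⋃ l ∈ {l | l ≠ k}, (W l : Set ↥U.left))ᶜ := by
      ext x
      simp only [Set.mem_compl_iff, Set.mem_iUnion, Set.mem_setOf_eq, not_exists]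
      refine ⟨fun hx l hl hxl => Set.disjoint_left.1 (hdisj hl) hxl hx, fun h => ?_⟩
      obtain ⟨l, hl⟩ := Set.mem_iUnion.1 (hcover.ge (Set.mem_univ x))
      by_cases hlk : l = k
      · exact hlk ▸ hl
      · exact absurd hl (h l hlk)
    rw [this, isClosed_compl_iff]
    exact isOpen_biUnion fun l _ => (W l).isOpen
  refine ⟨n, W, hcl, hdisj, hcover, fun k => ?_⟩
  have hrange : Set.range ((W k).ι ≫ σ.left) ⊆ Set.range (ι k) := by
    rintro _ ⟨y, rfl⟩
    exact y.2
  let q : (W k).toScheme ⟶ (Yc k).left := IsOpenImmersion.lift (ι k) ((W k).ι ≫ σ.left) hrange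
  have hq : q ≫ (f k).left = (W k).ι := by
    have h1 : ι k ≫ d = (f k).left := Sigma.ι_desc _ _
    have h2 : σ.left ≫ d = 𝟙 _ := congrArg (fun φ => φ.left) hσ
    rw [← h1, ← Category.assoc, IsOpenImmersion.lift_fac, Category.assoc, h2, Category.comp_id]
  let qq : openObj U (W k) ⟶ Yc k := MorphismProperty.Over.homMk q (by
    show q ≫ (Yc k).hom = (W k).ι ≫ U.hom
    have hw : (f k).left ≫ U.hom = (Yc k).hom := CategoryTheory.Over.w (f k).hom
    rw [← hw, ← Category.assoc, hq]) trivial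
  have : qq ≫ f k = openIncl U (W k) :=
    (Scheme.ProEt.forget X ⋙ CategoryTheory.Over.forget X).map_injective hq
  rw [← this]
  exact R.downward_closed (hf k) qq

theorem subsingleton_of_isEmpty (F : Sheaf (Scheme.ProEt.topology X) (Type (u + 1))) (Z : X.ProEt)
    [IsEmpty Z.left] (a b : F.obj.obj (op Z)) : a = b := by
  have h := ((isSheaf_iff_isSheaf_of_type _ _).1 F.property).isSeparated _
    (Scheme.ProEt.bot_mem_topology Z)
  exact h (fun _ _ h => h.elim) a b (fun _ _ h => h.elim) (fun _ _ h => h.elim)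

theorem isWC_of_clopenRefined {U : X.ProEt} (hU : ClopenRefined U) : ProEtS.IsWC U := by
  intro F G φ hφ s
  haveI : Sheaf.IsLocallySurjective φ := (Sheaf.isLocallySurjective_iff_epi' (Type (u + 1)) φ).2 hφ
  obtain ⟨n, W, -, hdisj, hcover, hW⟩ := hU _ (Presheaf.imageSieve_mem _ φ.hom s)
  choose t ht using fun k => hW k
  have hcov : Presieve.ofArrows (fun k => openObj U (W k)) (fun k => openIncl U (W k)) ∈
      Scheme.ProEt.precoverage X U := by
    rw [Scheme.ProEt.precoverage, Precoverage.mem_comap_iff, Presieve.map_ofArrows]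
    refine Scheme.zariskiPrecoverage_le_propQCPrecoverage _ ?_
    let E : PreZeroHypercover.{0} U.left := ⟨Fin n, fun k => (W k).toScheme, fun k => (W k).ι⟩
    refine (Scheme.presieve₀_mem_precoverage_iff E).2 ⟨fun x => ?_, fun k => ?_⟩
    · obtain ⟨k, hk⟩ := Set.mem_iUnion.1 (hcover.ge (Set.mem_univ x))
      exact ⟨k, ⟨x, hk⟩, rfl⟩
    · exact inferInstanceAs (IsOpenImmersion (W k).ι)
  have hsheaf : ∀ H : Sheaf (Scheme.ProEt.topology X) (Type (u + 1)),
      Presieve.IsSheafFor H.obj (Presieve.ofArrows (fun k => openObj U (W k)) (fun k => openIncl U (W k))) :=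
    fun H => by
      rw [Presieve.isSheafFor_iff_generate]
      exact (isSheaf_iff_isSheaf_of_type _ _).1 H.property _ (Precoverage.generate_mem_toGrothendieck hcov)
  have hcompat : Presieve.Arrows.Compatible F.obj (fun k => openIncl U (W k)) t := by
    intro i j Z gi gj h
    by_cases hij : i = j
    · subst hij
      have : gi = gj := (Scheme.ProEt.forget X ⋙ CategoryTheory.Over.forget X).map_injective
        ((cancel_mono (W i).ι).1 (congrArg (fun φ => φ.left) h))
      rw [this]
    · haveI : IsEmpty Z.left := ⟨fun z => by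
        have h1 : (W i).ι (gi.left z) = (W j).ι (gj.left z) := by
          have := congrArg (fun φ => φ.left z) h
          exact this
        exact Set.disjoint_left.1 (hdisj hij) (gi.left z).2 (show (gi.left z).1 ∈ (W j : Set ↥U.left) by
            rw [show (gi.left z).1 = (gj.left z).1 from h1]; exact (gj.left z).2)⟩
      exact subsingleton_of_isEmpty F Z _ _
  obtain ⟨a, ha, -⟩ := (Presieve.isSheafFor_arrows_iff _ _).1 (hsheaf F) t hcompat
  refine ⟨a, (hsheaf G).isSeparatedFor.ext ?_⟩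
  rintro _ _ ⟨k⟩
  exact ((φ.hom.naturality_apply (openIncl U (W k)).op a).symm.trans
    (congrArg _ (ha k))).trans (ht k)

theorem wContractible_of_isWC {U : X.ProEt} [IsAffine U.left] (hU : ProEtS.IsWC U) :
    EtPBC.IsWContractible Γ(U.left, ⊤) := by
  intro B _ _ hff hwe
  let a : Γ(U.left, ⊤) ⟶ CommRingCat.of B := CommRingCat.ofHom (algebraMap Γ(U.left, ⊤) B)
  haveI : WeaklyEtale (Spec.map a) := (SchMor12.weaklyEtale_SpecMap_iff Γ(U.left, ⊤) B).2 hwe
  let p : Spec (CommRingCat.of B) ⟶ U.left := Spec.map a ≫ U.left.isoSpec.inv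
  let Y : X.ProEt := Scheme.ProEt.mk (p ≫ U.hom)
  let g : Y ⟶ U := MorphismProperty.Over.homMk p rfl trivial
  haveI : IsAffine Y.left := inferInstanceAs (IsAffine (Spec (CommRingCat.of B)))
  have hcov : Sieve.ofArrows (fun _ : PUnit.{1} => Y) (fun _ => g) ∈ Scheme.ProEt.topology X U := by
    refine Et18.mem_topology_of_finite _ _ fun x => ⟨⟨⟩, ?_⟩
    obtain ⟨q, hq⟩ := PrimeSpectrum.comap_surjective_of_faithfullyFlat (A := Γ(U.left, ⊤)) (B := B)
      (U.left.isoSpec.hom x)
    refine ⟨q, ?_⟩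
    show U.left.isoSpec.inv (Spec.map a q) = x
    have h1 : Spec.map a q = U.left.isoSpec.hom x := hq
    rw [h1, ← Scheme.Hom.comp_apply, Iso.hom_inv_id]
    rfl
  let φ := (Scheme.ProEt.topology X).uliftYoneda.{u + 1}.map g
  haveI : Sheaf.IsLocallySurjective φ := ⟨fun {V} h => by
    refine (Scheme.ProEt.topology X).superset_covering ?_
      ((Scheme.ProEt.topology X).pullback_stable h.down hcov)
    rintro V' e ⟨_, c, _, ⟨⟩, hc⟩
    exact ⟨⟨c⟩, ULift.ext _ _ hc⟩⟩
  obtain ⟨⟨σ⟩, hσ⟩ := hU _ _ φ inferInstance ⟨𝟙 U⟩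
  have hσ' : σ ≫ g = 𝟙 U := congrArg ULift.down hσ
  have hl : σ.left ≫ p = 𝟙 _ := congrArg (fun φ => φ.left) hσ'
  let r : CommRingCat.of B ⟶ Γ(U.left, ⊤) := (Scheme.ΓSpecIso (CommRingCat.of B)).inv ≫ σ.left.appTop
  have har : a ≫ r = 𝟙 _ := by
    have h1 : (σ.left ≫ Spec.map a).appTop = U.left.isoSpec.hom.appTop := by
      congr 1
      rw [← cancel_mono U.left.isoSpec.inv, Category.assoc, Iso.hom_inv_id]
      exact hl
    rw [Scheme.Hom.comp_appTop] at h1
    show a ≫ (Scheme.ΓSpecIso (CommRingCat.of B)).inv ≫ σ.left.appTop = _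
    rw [← Category.assoc, Scheme.ΓSpecIso_inv_naturality, Category.assoc, h1]
    show _ ≫ U.left.toSpecΓ.appTop = _
    rw [Scheme.toSpecΓ_appTop, Iso.inv_hom_id]
  exact ⟨{ r.hom with commutes' := fun x => ConcreteCategory.congr_hom har x }⟩

theorem wContractible_iff_isWC (U : X.ProEt) [IsAffine U.left] :
    EtPBC.IsWContractible Γ(U.left, ⊤) ↔ ProEtS.IsWC U :=
  ⟨fun h => isWC_of_clopenRefined (clopenRefined_of_wContractible h), wContractible_of_isWC⟩

theorem wContractible_iff_clopenRefined (U : X.ProEt) [IsAffine U.left] :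
    EtPBC.IsWContractible Γ(U.left, ⊤) ↔ ClopenRefined U :=
  ⟨clopenRefined_of_wContractible, fun h => wContractible_of_isWC (isWC_of_clopenRefined h)⟩

end Groth.Agent.ProEtWC

namespace Groth.Agent.ProEtWC

/-- w-contractibility is invariant under ring isomorphisms. -/
theorem wContractible_of_ringEquiv {A A' : Type u} [CommRing A] [CommRing A'] (e : A ≃+* A')
    (h : EtPBC.IsWContractible A) : EtPBC.IsWContractible A' := by
  intro C _ _ hff hwe
  letI : Algebra A A' := e.toRingHom.toAlgebra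
  let e' : A ≃ₐ[A] A' := { e with commutes' := fun _ => rfl }
  haveI : Module.FaithfullyFlat A A' := Module.FaithfullyFlat.of_linearEquiv A A e'.toLinearEquiv.symm
  haveI : Algebra.Etale A A' := Algebra.Etale.of_equiv e'
  letI : Algebra A C := ((algebraMap A' C).comp e.toRingHom).toAlgebra
  haveI : IsScalarTower A A' C := IsScalarTower.of_algebraMap_eq' rfl
  haveI := hff
  haveI := hwe
  obtain ⟨t⟩ := h C (Module.FaithfullyFlat.trans A A' C) (Algebra.WeaklyEtale.trans A A' C)
  refine ⟨{ e.toRingHom.comp t.toRingHom with commutes' := fun x => ?_ }⟩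
  obtain ⟨y, rfl⟩ := e.surjective x
  exact congrArg e (t.commutes y)

end Groth.Agent.ProEtWC
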