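import Mathlib
import Groth.Agent.ProEtWC.Basic
import Groth.Agent.HenselLib.IndEtale
import Groth.Agent.HenselLib.WContrCover

/-!
# Covers of objects of the pro-étale site by affine w-contractible objects
-/

set_option autoImplicit false
set_option linter.all false
set_option backward.isDefEq.respectTransparency.types false
set_option backward.isDefEq.respectTransparency false

universe u

open CategoryTheory Limits AlgebraicGeometry Opposite MorphismProperty

namespace Groth.Agent.ProEtWC

variable {X : Scheme.{u}}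

theorem exists_affine_wContractible_over {U : X.ProEt} [IsAffine U.left] :
    ∃ (V : X.ProEt) (g : V ⟶ U), IsAffine V.left ∧ EtPBC.IsWContractible Γ(V.left, ⊤) ∧
      Function.Surjective g.left := by
  obtain ⟨B, _, _, hff, hind, hwc⟩ := HenselLib.WCtr.exists_indEtale_wContractible Γ(U.left, ⊤)
  let a : Γ(U.left, ⊤) ⟶ CommRingCat.of B := CommRingCat.ofHom (algebraMap Γ(U.left, ⊤) B)
  haveI : WeaklyEtale (Spec.map a) :=
    (SchMor12.weaklyEtale_SpecMap_iff Γ(U.left, ⊤) B).2 (HenselLib.IndEt.weaklyEtale _ _ hind)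
  let p : Spec (CommRingCat.of B) ⟶ U.left := Spec.map a ≫ U.left.isoSpec.inv
  let V : X.ProEt := Scheme.ProEt.mk (p ≫ U.hom)
  let g : V ⟶ U := MorphismProperty.Over.homMk p rfl trivial
  refine ⟨V, g, inferInstanceAs (IsAffine (Spec (CommRingCat.of B))), ?_, fun x => ?_⟩
  · exact wContractible_of_ringEquiv (Scheme.ΓSpecIso (CommRingCat.of B)).symm.commRingCatIsoToRingEquiv hwc
  · obtain ⟨q, hq⟩ := PrimeSpectrum.comap_surjective_of_faithfullyFlat (A := Γ(U.left, ⊤)) (B := B)
      (U.left.isoSpec.hom x)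
    refine ⟨q, ?_⟩
    show U.left.isoSpec.inv (Spec.map a q) = x
    have h1 : Spec.map a q = U.left.isoSpec.hom x := hq
    rw [h1, ← Scheme.Hom.comp_apply, Iso.hom_inv_id]
    rfl

theorem exists_cover_by_affine_wContractible (U : X.ProEt) :
    ∃ (ι : Type u) (V : ι → X.ProEt) (g : ∀ i, V i ⟶ U),
      Sieve.generate (Presieve.ofArrows V g) ∈ Scheme.ProEt.topology X U ∧
        ∀ i, IsAffine (V i).left ∧ EtPBC.IsWContractible Γ((V i).left, ⊤) := by
  let E := U.left.affineCover
  let W : E.I₀ → X.ProEt := fun a => Scheme.ProEt.mk (E.f a ≫ U.hom)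
  let w : ∀ a, W a ⟶ U := fun a => MorphismProperty.Over.homMk (E.f a) rfl trivial
  haveI : ∀ a, IsAffine (W a).left := fun a => inferInstanceAs (IsAffine (E.X a))
  choose V g hV hwc hs using fun a => exists_affine_wContractible_over (U := W a)
  have hzar : Presieve.ofArrows W w ∈ Scheme.ProEt.precoverage X U := by
    rw [Scheme.ProEt.precoverage, Precoverage.mem_comap_iff, Presieve.map_ofArrows]
    refine Scheme.zariskiPrecoverage_le_propQCPrecoverage _ ?_
    exact E.mem₀
  refine ⟨E.I₀, V, fun a => g a ≫ w a, ?_, fun a => ⟨hV a, hwc a⟩⟩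
  refine (Scheme.ProEt.topology X).transitive (Precoverage.generate_mem_toGrothendieck hzar) _ ?_
  rintro Z f ⟨_, c, _, ⟨a⟩, rfl⟩
  rw [Sieve.pullback_comp]
  refine (Scheme.ProEt.topology X).pullback_stable c ?_
  haveI := hV a
  refine (Scheme.ProEt.topology X).superset_covering ?_
    (Et18.mem_topology_of_finite (fun _ : PUnit.{1} => V a) (fun _ => g a)
      fun x => ⟨⟨⟩, hs a x⟩)
  rintro T e ⟨_, d, _, ⟨⟩, rfl⟩
  exact ⟨_, d, _, ⟨a⟩, (Category.assoc _ _ _).symm⟩

end Groth.Agent.ProEtWC
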