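import Mathlib
import Groth.Agent.ProEtWC.Cover
import Groth.Agent.S1974

/-!
# Disjoint unions in the small pro-étale site
-/

set_option autoImplicit false
set_option linter.all false
set_option backward.isDefEq.respectTransparency.types false
set_option backward.isDefEq.respectTransparency false

universe u w

open CategoryTheory Limits AlgebraicGeometry Opposite MorphismProperty

namespace Groth.Agent.ProEtWC

variable {X : Scheme.{u}} {U : X.ProEt} {ι : Type w} (V : ι → X.ProEt) (g : ∀ i, V i ⟶ U)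

theorem ofArrows_mem_precoverage [∀ i, IsOpenImmersion (g i).left]
    (hcov : ∀ x : U.left, ∃ i, x ∈ Set.range (g i).left) :
    Presieve.ofArrows V g ∈ Scheme.ProEt.precoverage X U := by
  rw [Scheme.ProEt.precoverage, Precoverage.mem_comap_iff, Presieve.map_ofArrows]
  refine Scheme.zariskiPrecoverage_le_propQCPrecoverage _ ?_
  let E : PreZeroHypercover.{w} U.left := ⟨ι, fun i => (V i).left, fun i => (g i).left⟩
  exact (Scheme.presieve₀_mem_precoverage_iff E).2 ⟨hcov, fun k => inferInstanceAs (IsOpenImmersion (g k).left)⟩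

theorem isSheafFor_disjoint [∀ i, IsOpenImmersion (g i).left]
    (hcov : ∀ x : U.left, ∃ i, x ∈ Set.range (g i).left)
    (F : Sheaf (Scheme.ProEt.topology X) (Type (u + 1))) :
    Presieve.IsSheafFor F.obj (Presieve.ofArrows V g) := by
  rw [Presieve.isSheafFor_iff_generate]
  exact (isSheaf_iff_isSheaf_of_type _ _).1 F.property _
    (Precoverage.generate_mem_toGrothendieck (ofArrows_mem_precoverage V g hcov))

/-- Sections of a sheaf on a disjoint union. -/
theorem exists_glue [∀ i, IsOpenImmersion (g i).left]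
    (hcov : ∀ x : U.left, ∃ i, x ∈ Set.range (g i).left)
    (hdisj : Pairwise fun i j => Disjoint (Set.range (g i).left) (Set.range (g j).left))
    (F : Sheaf (Scheme.ProEt.topology X) (Type (u + 1))) (t : ∀ i, F.obj.obj (op (V i))) :
    ∃ a : F.obj.obj (op U), ∀ i, F.obj.map (g i).op a = t i := by
  have hcompat : Presieve.Arrows.Compatible F.obj g t := by
    intro i j Z gi gj h
    by_cases hij : i = j
    · subst hij
      have : gi = gj := (Scheme.ProEt.forget X ⋙ CategoryTheory.Over.forget X).map_injective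
        ((cancel_mono (g i).left).1 (congrArg (fun φ => φ.left) h))
      rw [this]
    · haveI : IsEmpty Z.left := ⟨fun z => by
        have h1 : (g i).left (gi.left z) = (g j).left (gj.left z) := congrArg (fun φ => φ.left z) h
        exact Set.disjoint_left.1 (hdisj hij) ⟨_, rfl⟩ ⟨_, h1.symm⟩⟩
      exact subsingleton_of_isEmpty F Z _ _
  obtain ⟨a, ha, -⟩ := (Presieve.isSheafFor_arrows_iff _ _).1 (isSheafFor_disjoint V g hcov F) t hcompat
  exact ⟨a, ha⟩

/-- A disjoint union of weakly contractible objects is weakly contractible. -/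
theorem isWC_of_disjoint [∀ i, IsOpenImmersion (g i).left]
    (hcov : ∀ x : U.left, ∃ i, x ∈ Set.range (g i).left)
    (hdisj : Pairwise fun i j => Disjoint (Set.range (g i).left) (Set.range (g j).left))
    (hV : ∀ i, ProEtS.IsWC (V i)) : ProEtS.IsWC U := by
  intro F G φ hφ s
  choose t ht using fun i => hV i F G φ hφ (G.obj.map (g i).op s)
  obtain ⟨a, ha⟩ := exists_glue V g hcov hdisj F t
  refine ⟨a, (isSheafFor_disjoint V g hcov G).isSeparatedFor.ext ?_⟩
  rintro _ _ ⟨k⟩
  exact ((φ.hom.naturality_apply (g k).op a).symm.trans (congrArg _ (ha k))).trans (ht k)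

/-- A disjoint open decomposition is a coproduct in the site. -/
theorem nonempty_isColimit_cofan {ι : Type} (V : ι → X.ProEt) (g : ∀ i, V i ⟶ U) [∀ i, IsOpenImmersion (g i).left]
    (hcov : ∀ x : U.left, ∃ i, x ∈ Set.range (g i).left)
    (hdisj : Pairwise fun i j => Disjoint (Set.range (g i).left) (Set.range (g j).left)) :
    Nonempty (IsColimit (Cofan.mk U g)) := by
  obtain ⟨h⟩ := nonempty_isColimit_cofanMk_of (X := fun i => (V i).left) (fun i => (g i).left)
    (by rw [eq_top_iff]; intro x _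
        obtain ⟨i, hi⟩ := hcov x
        exact TopologicalSpace.Opens.mem_iSup.2 ⟨i, hi⟩)
    (fun i j hij => by
      show Disjoint (g i).left.opensRange (g j).left.opensRange
      rw [disjoint_iff]; ext x
      simp only [TopologicalSpace.Opens.coe_inf, TopologicalSpace.Opens.coe_bot, Set.mem_inter_iff,
        Set.mem_empty_iff_false, iff_false, not_and]
      exact fun h1 h2 => Set.disjoint_left.1 (hdisj hij) h1 h2)
  exact ⟨isColimitOfIsColimitCofanMkObj (Scheme.ProEt.forget X ⋙ CategoryTheory.Over.forget X) V g h⟩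

theorem covering_singleton_of_zariski [∀ i, IsOpenImmersion (g i).left]
    (hcov : ∀ x : U.left, ∃ i, x ∈ Set.range (g i).left) {W : X.ProEt} (d : W ⟶ U)
    (e : ∀ i, V i ⟶ W) (he : ∀ i, e i ≫ d = g i) :
    Sieve.generate (Presieve.singleton d) ∈ Scheme.ProEt.topology X U := by
  refine (Scheme.ProEt.topology X).superset_covering ?_
    (Precoverage.generate_mem_toGrothendieck (ofArrows_mem_precoverage V g hcov))
  rintro T f ⟨_, c, _, ⟨i⟩, rfl⟩
  exact ⟨_, c ≫ e i, d, ⟨⟩, by rw [Category.assoc, he]⟩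

theorem covering_singleton_trans {W T : X.ProEt} {d : W ⟶ U} {g : T ⟶ W}
    (hd : Sieve.generate (Presieve.singleton d) ∈ Scheme.ProEt.topology X U)
    (hg : Sieve.generate (Presieve.singleton g) ∈ Scheme.ProEt.topology X W) :
    Sieve.generate (Presieve.singleton (g ≫ d)) ∈ Scheme.ProEt.topology X U := by
  refine (Scheme.ProEt.topology X).transitive hd _ ?_
  rintro Z f ⟨_, c, _, ⟨⟩, rfl⟩
  rw [Sieve.pullback_comp]
  refine (Scheme.ProEt.topology X).pullback_stable c ?_
  refine (Scheme.ProEt.topology X).superset_covering ?_ hg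
  rintro Z' e ⟨_, b, _, ⟨⟩, rfl⟩
  exact ⟨_, b, _, ⟨⟩, (Category.assoc _ _ _).symm⟩

/-- An affine object has a covering by one affine weakly contractible object. -/
theorem exists_singleton_cover (U : X.ProEt) [IsAffine U.left] :
    ∃ (V : X.ProEt) (g : V ⟶ U), Sieve.generate (Presieve.singleton g) ∈ Scheme.ProEt.topology X U ∧
      IsAffine V.left ∧ ProEtS.IsWC V := by
  obtain ⟨V, g, hV, hwc, hs⟩ := exists_affine_wContractible_over (U := U)
  haveI := hV
  refine ⟨V, g, ?_, hV, (wContractible_iff_isWC V).1 hwc⟩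
  refine (Scheme.ProEt.topology X).superset_covering ?_
    (Et18.mem_topology_of_finite (fun _ : PUnit.{1} => V) (fun _ => g) fun x => ⟨⟨⟩, hs x⟩)
  rintro T e ⟨_, d, _, ⟨⟩, rfl⟩
  exact ⟨_, d, g, ⟨⟩, rfl⟩

/-- A quasi-compact object has a covering by one affine weakly contractible object. -/
theorem exists_singleton_cover_of_compactSpace (U : X.ProEt) [CompactSpace U.left] :
    ∃ (V : X.ProEt) (g : V ⟶ U), Sieve.generate (Presieve.singleton g) ∈ Scheme.ProEt.topology X U ∧
      IsAffine V.left ∧ ProEtS.IsWC V := by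
  let E := U.left.affineCover.finiteSubcover
  haveI : ∀ a, IsAffine (E.X a) := fun a => inferInstanceAs (IsAffine (U.left.affineCover.X _))
  haveI : ∀ a, IsOpenImmersion (E.f a) := fun a => E.map_prop a
  haveI : Finite E.I₀ := inferInstance
  let P : E.I₀ → X.ProEt := fun a => Scheme.ProEt.mk (E.f a ≫ U.hom)
  let w : ∀ a, P a ⟶ U := fun a => MorphismProperty.Over.homMk (E.f a) rfl trivial
  haveI : ∀ a, IsOpenImmersion (w a).left := fun a => inferInstanceAs (IsOpenImmersion (E.f a))
  let d₀ : (∐ fun a => E.X a) ⟶ U.left := Sigma.desc E.f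
  haveI : WeaklyEtale d₀ := IsZariskiLocalAtSource.sigmaDesc fun k => inferInstanceAs (WeaklyEtale (E.f k))
  let W : X.ProEt := Scheme.ProEt.mk (d₀ ≫ U.hom)
  let d : W ⟶ U := MorphismProperty.Over.homMk d₀ rfl trivial
  haveI : IsAffine W.left := inferInstanceAs (IsAffine (∐ fun a => E.X a))
  let e : ∀ a, P a ⟶ W := fun a => MorphismProperty.Over.homMk (Sigma.ι (fun a => E.X a) a) (by
    show Sigma.ι (fun a => E.X a) a ≫ d₀ ≫ U.hom = E.f a ≫ U.hom
    rw [Sigma.ι_desc_assoc]) trivial
  have hd := covering_singleton_of_zariski P w (fun x => ⟨_, E.covers x⟩) d e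
    (fun a => (Scheme.ProEt.forget X ⋙ CategoryTheory.Over.forget X).map_injective (Sigma.ι_desc _ _))
  obtain ⟨V, g, hg, hV, hwc⟩ := exists_singleton_cover W
  exact ⟨V, g ≫ d, covering_singleton_trans hd hg, hV, hwc⟩

/-- Every object has a covering by one weakly contractible object. -/
theorem exists_singleton_cover_isWC (U : X.ProEt) :
    ∃ (V : X.ProEt) (g : V ⟶ U),
      Sieve.generate (Presieve.singleton g) ∈ Scheme.ProEt.topology X U ∧ ProEtS.IsWC V := by
  obtain ⟨ι, V, g, hcov, hV⟩ := exists_cover_by_affine_wContractible U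
  haveI : ∀ i, IsAffine (V i).left := fun i => (hV i).1
  let d₀ : (∐ fun i => (V i).left) ⟶ U.left := Sigma.desc fun i => (g i).left
  haveI : WeaklyEtale d₀ := IsZariskiLocalAtSource.sigmaDesc fun k => weaklyEtale_left (g k)
  let W : X.ProEt := Scheme.ProEt.mk (d₀ ≫ U.hom)
  let d : W ⟶ U := MorphismProperty.Over.homMk d₀ rfl trivial
  let e : ∀ i, V i ⟶ W := fun i => MorphismProperty.Over.homMk (Sigma.ι (fun i => (V i).left) i) (by
    show Sigma.ι (fun i => (V i).left) i ≫ d₀ ≫ U.hom = (V i).hom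
    rw [Sigma.ι_desc_assoc]
    exact CategoryTheory.Over.w (g i).hom) trivial
  haveI : ∀ i, IsOpenImmersion (e i).left :=
    fun i => inferInstanceAs (IsOpenImmersion (Sigma.ι (fun i => (V i).left) i))
  have he : ∀ i, e i ≫ d = g i := fun i =>
    (Scheme.ProEt.forget X ⋙ CategoryTheory.Over.forget X).map_injective (Sigma.ι_desc _ _)
  refine ⟨W, d, ?_, isWC_of_disjoint V e (fun x => ⟨_, (sigmaOpenCover (fun i => (V i).left)).covers x⟩)
    (fun i j hij => ?_) fun i => (wContractible_iff_isWC (V i)).1 (hV i).2⟩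
  · refine (Scheme.ProEt.topology X).superset_covering ?_ hcov
    rintro T f ⟨_, c, _, ⟨i⟩, rfl⟩
    exact ⟨_, c ≫ e i, d, ⟨⟩, by rw [Category.assoc, he]⟩
  · refine Set.disjoint_left.2 fun x hx hy => ?_
    have h := disjoint_opensRange_sigmaι (fun k => (V k).left) i j hij
    have : x ∈ (Sigma.ι (fun k => (V k).left) i).opensRange ⊓ (Sigma.ι (fun k => (V k).left) j).opensRange :=
      ⟨hx, hy⟩
    rw [h.eq_bot] at this
    exact this

/-- A presheaf sending finite disjoint decompositions of an affine weakly contractible object to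
products has the same sections there as its sheafification. -/
theorem toSheafify_bijective_of (F : X.ProEtᵒᵖ ⥤ Type (u + 1))
    (W : X.ProEt) [IsAffine W.left] (hW : ProEtS.IsWC W)
    (hF : ∀ (n : ℕ) (P : Fin n → X.ProEt) (g : ∀ k, P k ⟶ W), IsColimit (Cofan.mk W g) →
      Function.Bijective fun (a : F.obj (op W)) k => F.map (g k).op a) :
    Function.Bijective ((toSheafify (Scheme.ProEt.topology X) F).app (op W)) := by
  have hR : ClopenRefined W := clopenRefined_of_wContractible (wContractible_of_isWC hW)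
  have key : ∀ (n : ℕ) (S : Fin n → W.left.Opens),
      Pairwise (fun k l => Disjoint (S k : Set ↥W.left) (S l)) → (⋃ k, (S k : Set ↥W.left)) = Set.univ →
      Function.Bijective fun (a : F.obj (op W)) k => F.map (openIncl W (S k)).op a := by
    intro n S hd hc
    haveI : ∀ k, IsOpenImmersion (openIncl W (S k)).left :=
      fun k => inferInstanceAs (IsOpenImmersion (S k).ι)
    obtain ⟨h⟩ := nonempty_isColimit_cofan (fun k => openObj W (S k)) (fun k => openIncl W (S k))
      (fun x => by
        obtain ⟨k, hk⟩ := Set.mem_iUnion.1 (hc.ge (Set.mem_univ x))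
        exact ⟨k, ⟨x, hk⟩, rfl⟩)
      (fun i j hij => by
        refine Set.disjoint_left.2 ?_
        rintro _ ⟨a, rfl⟩ ⟨b, hb⟩
        exact Set.disjoint_left.1 (hd hij) a.2 (by
          show a.1 ∈ _
          rw [show a.1 = b.1 from hb.symm]
          exact b.2))
    exact hF n _ _ h
  constructor
  · intro a b hab
    obtain ⟨n, S, -, hd, hc, hS⟩ := hR _
      (Presheaf.equalizerSieve_mem (Scheme.ProEt.topology X) (toSheafify (Scheme.ProEt.topology X) F) a b hab)
    exact (key n S hd hc).1 (funext fun k => hS k)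
  · intro s
    obtain ⟨n, S, -, hd, hc, hS⟩ := hR _
      (Presheaf.imageSieve_mem (Scheme.ProEt.topology X) (toSheafify (Scheme.ProEt.topology X) F) s)
    choose t ht using fun k => hS k
    obtain ⟨a, ha⟩ := (key n S hd hc).2 t
    haveI : ∀ k, IsOpenImmersion (openIncl W (S k)).left :=
      fun k => inferInstanceAs (IsOpenImmersion (S k).ι)
    refine ⟨a, (isSheafFor_disjoint (fun k => openObj W (S k)) (fun k => openIncl W (S k)) (fun x => by
        obtain ⟨k, hk⟩ := Set.mem_iUnion.1 (hc.ge (Set.mem_univ x))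
        exact ⟨k, ⟨x, hk⟩, rfl⟩)
      ((presheafToSheaf (Scheme.ProEt.topology X) _).obj F)).isSeparatedFor.ext ?_⟩
    rintro _ _ ⟨k⟩
    exact (((toSheafify (Scheme.ProEt.topology X) F).naturality_apply (openIncl W (S k)).op a).symm.trans
      (congrArg _ (congrFun ha k))).trans (ht k)

/-- Sections of a finite-product preserving presheaf on an affine weakly contractible object are
those of its sheafification. -/
theorem toSheafify_bijective (F : X.ProEtᵒᵖ ⥤ Type (u + 1)) [PreservesFiniteProducts F]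
    (W : X.ProEt) [IsAffine W.left] (hW : ProEtS.IsWC W) :
    Function.Bijective ((toSheafify (Scheme.ProEt.topology X) F).app (op W)) := by
  refine toSheafify_bijective_of F W hW fun n P g h => ?_
  have h' := isLimitFanMkObjOfIsLimit F _ _ (Cofan.IsColimit.op h)
  refine (Function.bijective_iff_existsUnique _).2 fun t => ?_
  obtain ⟨a, ha, hu⟩ := (Types.isLimit_iff _).1 ⟨h'⟩ (fun j => t j.as) (by
    rintro ⟨i⟩ ⟨j⟩ ⟨⟨h : i = j⟩⟩
    subst h
    simp)
  exact ⟨a, funext fun k => ha ⟨k⟩, fun b hb => hu b fun j => congrFun hb j.as⟩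

/-- Geometric points lift to a member of a covering sieve. -/
theorem exists_lift_geometric_point {U : X.ProEt} {R : Sieve U} (hR : R ∈ Scheme.ProEt.topology X U)
    {k : Type u} [Field k] [IsSepClosed k] (ξ : Spec (CommRingCat.of k) ⟶ U.left) :
    ∃ (V : X.ProEt) (g : V ⟶ U) (ξ' : Spec (CommRingCat.of k) ⟶ V.left), R g ∧ ξ' ≫ g.left = ξ := by
  obtain ⟨V, g, hg, v, hv⟩ := exists_mem_of_covering hR (ξ (IsLocalRing.closedPoint k))
  obtain ⟨U₀, hU₀, hxU, -⟩ := exists_isAffineOpen_mem_and_subset (X := U.left)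
    (x := g.left v) (U := ⊤) trivial
  obtain ⟨V₀, hV₀, hvV, e⟩ := exists_isAffineOpen_mem_and_subset (X := V.left)
    (x := v) (U := g.left ⁻¹ᵁ U₀) hxU
  haveI := weaklyEtale_left g
  let φ := g.left.appLE U₀ V₀ e
  have hφ : Spec.map φ ≫ hU₀.fromSpec = hV₀.fromSpec ≫ g.left :=
    hU₀.SpecMap_appLE_fromSpec g.left hV₀ e
  letI := φ.hom.toAlgebra
  haveI : Algebra.WeaklyEtale Γ(U.left, U₀) Γ(V.left, V₀) := by
    rw [← SchMor12.weaklyEtale_SpecMap_iff]
    show WeaklyEtale (Spec.map φ)
    exact MorphismProperty.of_postcomp (W := @WeaklyEtale) (W' := @WeaklyEtale) (Spec.map φ) hU₀.fromSpec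
      (inferInstanceAs (WeaklyEtale hU₀.fromSpec))
      (show WeaklyEtale (Spec.map φ ≫ hU₀.fromSpec) by rw [hφ]; infer_instance)
  have hrange : Set.range ξ ⊆ Set.range hU₀.fromSpec := by
    rintro _ ⟨z, rfl⟩
    rw [hU₀.range_fromSpec, show z = IsLocalRing.closedPoint k from Subsingleton.elim _ _, ← hv]
    exact hxU
  obtain ⟨a, ha⟩ := Spec.map_surjective (IsOpenImmersion.lift hU₀.fromSpec ξ hrange)
  have hξ : Spec.map a ≫ hU₀.fromSpec = ξ := by rw [ha]; exact IsOpenImmersion.lift_fac _ _ _
  let q := (hV₀.primeIdealOf ⟨v, hvV⟩).asIdeal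
  let p := RingHom.ker a.hom
  haveI : p.IsPrime := RingHom.ker_isPrime _
  have hpq : Spec.map φ (hV₀.primeIdealOf ⟨v, hvV⟩) = Spec.map a (IsLocalRing.closedPoint k) := by
    apply hU₀.fromSpec.isOpenEmbedding.injective
    rw [← Scheme.Hom.comp_apply, ← Scheme.Hom.comp_apply, hφ, hξ, Scheme.Hom.comp_apply,
      hV₀.fromSpec_primeIdealOf]
    exact hv
  haveI : q.LiesOver p := ⟨by
    have h := congrArg PrimeSpectrum.asIdeal hpq
    refine Eq.trans ?_ h.symm
    show RingHom.ker a.hom = (IsLocalRing.closedPoint k).asIdeal.comap a.hom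
    rw [show (IsLocalRing.closedPoint k).asIdeal = ⊥ from IsLocalRing.maximalIdeal_eq_bot]
    rfl⟩
  letI : Algebra (Localization.AtPrime p) (Localization.AtPrime q) :=
    Localization.AtPrime.algebraOfLiesOver p q
  haveI := S1974.result Γ(U.left, U₀) Γ(V.left, V₀) p q
  let κ : p.ResidueField →+* k := Ideal.ResidueField.lift p a.hom le_rfl
    (fun r hr => IsUnit.mk0 _ hr)
  letI := κ.toAlgebra
  let l : q.ResidueField →ₐ[p.ResidueField] k := IsSepClosed.lift
  let b : Γ(V.left, V₀) ⟶ CommRingCat.of k :=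
    CommRingCat.ofHom (l.toRingHom.comp (algebraMap Γ(V.left, V₀) q.ResidueField))
  have hb : φ ≫ b = a := by
    refine CommRingCat.hom_ext (RingHom.ext fun r => ?_)
    show l (algebraMap Γ(V.left, V₀) q.ResidueField (algebraMap Γ(U.left, U₀) Γ(V.left, V₀) r)) = a.hom r
    rw [← IsScalarTower.algebraMap_apply, IsScalarTower.algebraMap_apply Γ(U.left, U₀) p.ResidueField q.ResidueField,
      l.commutes]
    exact Ideal.ResidueField.lift_algebraMap _ _ _ _ r
  refine ⟨V, g, Spec.map b ≫ hV₀.fromSpec, hg, ?_⟩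
  rw [Category.assoc, ← hφ, ← Spec.map_comp_assoc, hb, hξ]

end Groth.Agent.ProEtWC
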