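import Mathlib
import Groth.Agent.ProEtWC.Coprod

/-!
# Left Kan extensions along base change, on weakly contractible objects
-/

set_option autoImplicit false
set_option linter.all false
set_option backward.isDefEq.respectTransparency.types false
set_option backward.isDefEq.respectTransparency false

universe u v v' w w'

open CategoryTheory Limits AlgebraicGeometry Opposite MorphismProperty

namespace Groth.Agent.ProEtWC

section

variable {C : Type (u + 1)} [Category.{u} C] {D : Type (u + 1)} [Category.{u} D] (G : C ⥤ D)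
  {F : Cᵒᵖ ⥤ Type (u + 1)} {L : Dᵒᵖ ⥤ Type (u + 1)} (η : F ⟶ G.op ⋙ L)

/-- The element of the left Kan extension given by a section and a morphism. -/
noncomputable def lanEl {W : D} (V : C) (h : W ⟶ G.obj V) (x : F.obj (op V)) :
    L.obj (op W) :=
  L.map h.op (η.app (op V) x)

theorem lanEl_map {W W' : D} (r : W' ⟶ W) (V : C) (h : W ⟶ G.obj V) (x : F.obj (op V)) :
    L.map r.op (lanEl G η V h x) = lanEl G η V (r ≫ h) x := by
  simp only [lanEl, op_comp, Functor.map_comp]
  rfl

theorem lanEl_map' {W : D} {V V' : C} (m : V' ⟶ V) (h : W ⟶ G.obj V') (x : F.obj (op V)) :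
    lanEl G η V' h (F.map m.op x) = lanEl G η V (h ≫ G.map m) x := by
  simp only [lanEl, op_comp, Functor.map_comp]
  exact congrArg _ (η.naturality_apply m.op x)

variable (hL : (Functor.LeftExtension.mk L η).IsPointwiseLeftKanExtension)

include hL in
theorem lanEl_surjective {W : D} (a : L.obj (op W)) :
    ∃ (V : C) (h : W ⟶ G.obj V) (x : F.obj (op V)), lanEl G η V h x = a := by
  obtain ⟨j, y, hy⟩ := Types.jointly_surjective _ (hL (op W)) a
  exact ⟨j.left.unop, j.hom.unop, y, hy⟩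

variable [RepresentablyFlat G]

theorem lanEl_common {W : D} {V₁ V₂ : C} (h₁ : W ⟶ G.obj V₁) (h₂ : W ⟶ G.obj V₂) :
    ∃ (V : C) (h : W ⟶ G.obj V) (m₁ : V ⟶ V₁) (m₂ : V ⟶ V₂),
      h ≫ G.map m₁ = h₁ ∧ h ≫ G.map m₂ = h₂ := by
  let j := IsCofiltered.min (StructuredArrow.mk h₁) (StructuredArrow.mk h₂)
  let a : j ⟶ StructuredArrow.mk h₁ := IsCofiltered.minToLeft _ _
  let b : j ⟶ StructuredArrow.mk h₂ := IsCofiltered.minToRight _ _
  exact ⟨j.right, j.hom, a.right, b.right,
    StructuredArrow.w (IsCofiltered.minToLeft (StructuredArrow.mk h₁) (StructuredArrow.mk h₂)),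
    StructuredArrow.w (IsCofiltered.minToRight (StructuredArrow.mk h₁) (StructuredArrow.mk h₂))⟩

include hL in
theorem lanEl_eq {W : D} {V : C} (h : W ⟶ G.obj V) (x y : F.obj (op V))
    (e : lanEl G η V h x = lanEl G η V h y) :
    ∃ (V' : C) (m : V' ⟶ V) (h' : W ⟶ G.obj V'), h' ≫ G.map m = h ∧ F.map m.op x = F.map m.op y := by
  haveI : RepresentablyCoflat G.op := (representablyCoflat_op_iff G).2 inferInstance
  obtain ⟨k, f, g, hfg⟩ := (Types.FilteredColimit.isColimit_eq_iff _ (hL (op W))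
    (i := CostructuredArrow.mk h.op) (j := CostructuredArrow.mk h.op) (xi := x) (xj := y)).1 e
  let c := IsFiltered.coeqHom f g
  have hc : f ≫ c = g ≫ c := IsFiltered.coeq_condition f g
  let k' := IsFiltered.coeq f g
  refine ⟨k'.left.unop, (f ≫ c).left.unop, k'.hom.unop, ?_, ?_⟩
  · exact congrArg Quiver.Hom.unop (CostructuredArrow.w (f ≫ c))
  · have hfg' : (CostructuredArrow.proj G.op (op W) ⋙ F).map f x =
        (CostructuredArrow.proj G.op (op W) ⋙ F).map g y := hfg
    have h2 := congrArg ((CostructuredArrow.proj G.op (op W) ⋙ F).map c) hfg'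
    rw [← Functor.map_comp_apply, ← Functor.map_comp_apply, ← hc] at h2
    exact h2

end

variable {X Y : Scheme.{u}} (f : X ⟶ Y)

instance preservesFiniteLimits_bcP : PreservesFiniteLimits (ProEtS.bcP f) := by
  haveI : (CategoryTheory.Over.pullback f).IsRightAdjoint := (CategoryTheory.Over.mapPullbackAdj f).isRightAdjoint
  haveI : PreservesFiniteLimits (Scheme.ProEt.forget Y ⋙ CategoryTheory.Over.pullback f) := comp_preservesFiniteLimits _ _
  haveI : PreservesFiniteLimits (ProEtS.bcP f ⋙ Scheme.ProEt.forget X) :=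
    @preservesFiniteLimits_of_natIso _ _ _ _ (Scheme.ProEt.forget Y ⋙ CategoryTheory.Over.pullback f) _
      (MorphismProperty.Over.pullbackCompForgetIso (P := @WeaklyEtale) (Q := ⊤) f :
        ProEtS.bcP f ⋙ Scheme.ProEt.forget X ≅ Scheme.ProEt.forget Y ⋙ CategoryTheory.Over.pullback f).symm inferInstance
  exact ⟨fun J _ _ => preservesLimitsOfShape_of_reflects_of_preserves (ProEtS.bcP f) (Scheme.ProEt.forget X)⟩

instance representablyFlat_bcP : RepresentablyFlat (ProEtS.bcP f) := flat_of_preservesFiniteLimits _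

variable (F : Sheaf (Scheme.ProEt.topology Y) (Type (u + 1))) {L : X.ProEtᵒᵖ ⥤ Type (u + 1)}
  (η : F.obj ⟶ (ProEtS.bcP f).op ⋙ L) (hL : (Functor.LeftExtension.mk L η).IsPointwiseLeftKanExtension)

include hL in
theorem lan_bijective_disjoint {W : X.ProEt} {n : ℕ} (P : Fin n → X.ProEt) (g : ∀ k, P k ⟶ W)
    (hc : IsColimit (Cofan.mk W g)) :
    Function.Bijective fun (a : L.obj (op W)) k => L.map (g k).op a := by
  have coprod : ∀ V : Fin n → Y.ProEt, ∃ (S : Y.ProEt) (ι : ∀ k, V k ⟶ S), (∀ k, IsOpenImmersion (ι k).left) ∧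
      (∀ x : S.left, ∃ k, x ∈ Set.range (ι k).left) ∧
      (Pairwise fun k l => Disjoint (Set.range (ι k).left) (Set.range (ι l).left)) ∧
      ∀ (T : Y.ProEt) (m : ∀ k, V k ⟶ T), ∃ d : S ⟶ T, ∀ k, ι k ≫ d = m k := by
    intro V
    let d₀ : (∐ fun k => (V k).left) ⟶ Y := Sigma.desc fun k => (V k).hom
    haveI : WeaklyEtale d₀ := IsZariskiLocalAtSource.sigmaDesc fun k => (V k).prop
    let S : Y.ProEt := Scheme.ProEt.mk d₀
    let ι : ∀ k, V k ⟶ S := fun k =>
      MorphismProperty.Over.homMk (Sigma.ι (fun k => (V k).left) k) (Sigma.ι_desc _ _) trivial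
    refine ⟨S, ι, fun k => inferInstanceAs (IsOpenImmersion (Sigma.ι (fun k => (V k).left) k)),
      fun x => ⟨_, (sigmaOpenCover (fun k => (V k).left)).covers x⟩, fun i j hij => ?_, fun T m => ?_⟩
    · refine Set.disjoint_left.2 fun x hx hy => ?_
      have h := disjoint_opensRange_sigmaι (fun k => (V k).left) i j hij
      have : x ∈ (Sigma.ι (fun k => (V k).left) i).opensRange ⊓ (Sigma.ι (fun k => (V k).left) j).opensRange :=
        ⟨hx, hy⟩
      rw [h.eq_bot] at this
      exact this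
    · refine ⟨MorphismProperty.Over.homMk (Sigma.desc fun k => (m k).left) ?_ trivial,
        fun k => (Scheme.ProEt.forget Y ⋙ CategoryTheory.Over.forget Y).map_injective (Sigma.ι_desc _ _)⟩
      refine Sigma.hom_ext _ _ fun k => ?_
      rw [Sigma.ι_desc_assoc]
      show (m k).left ≫ T.hom = Sigma.ι (fun k => (V k).left) k ≫ d₀
      rw [Sigma.ι_desc]
      exact CategoryTheory.Over.w (m k).hom
  constructor
  · intro a b hab
    obtain ⟨V₁, h₁, x₁, rfl⟩ := lanEl_surjective (ProEtS.bcP f) η hL a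
    obtain ⟨V₂, h₂, x₂, rfl⟩ := lanEl_surjective (ProEtS.bcP f) η hL b
    obtain ⟨V, h, m₁, m₂, rfl, rfl⟩ := lanEl_common (ProEtS.bcP f) h₁ h₂
    rw [← lanEl_map', ← lanEl_map'] at hab ⊢
    generalize F.obj.map m₁.op x₁ = x, F.obj.map m₂.op x₂ = y at hab ⊢
    have hk : ∀ k, lanEl (ProEtS.bcP f) η V (g k ≫ h) x = lanEl (ProEtS.bcP f) η V (g k ≫ h) y :=
      fun k => by rw [← lanEl_map, ← lanEl_map]; exact congrFun hab k
    choose V' m h' hm hxy using fun k => lanEl_eq (ProEtS.bcP f) η hL _ x y (hk k)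
    obtain ⟨S, ι, _, hcov, hdisj, hdesc⟩ := coprod V'
    obtain ⟨d, hd⟩ := hdesc V m
    let hS : W ⟶ (ProEtS.bcP f).obj S := Cofan.IsColimit.desc hc fun k => h' k ≫ (ProEtS.bcP f).map (ι k)
    have hSh : hS ≫ (ProEtS.bcP f).map d = h := Cofan.IsColimit.hom_ext hc _ _ fun k => by
      show g k ≫ hS ≫ _ = g k ≫ h
      rw [← Category.assoc]
      erw [Cofan.IsColimit.fac hc]
      rw [Category.assoc, ← Functor.map_comp, hd, hm]
    rw [← hSh, ← lanEl_map', ← lanEl_map']
    congr 1
    refine (isSheafFor_disjoint V' ι hcov F).isSeparatedFor.ext ?_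
    rintro _ _ ⟨k⟩
    rw [← Functor.map_comp_apply, ← Functor.map_comp_apply, ← op_comp, hd]
    exact hxy k
  · intro t
    choose V h x hx using fun k => lanEl_surjective (ProEtS.bcP f) η hL (t k)
    obtain ⟨S, ι, _, hcov, hdisj, -⟩ := coprod V
    obtain ⟨a, ha⟩ := exists_glue V ι hcov hdisj F x
    let hS : W ⟶ (ProEtS.bcP f).obj S := Cofan.IsColimit.desc hc fun k => h k ≫ (ProEtS.bcP f).map (ι k)
    refine ⟨lanEl (ProEtS.bcP f) η S hS a, funext fun k => ?_⟩
    show L.map (g k).op (lanEl (ProEtS.bcP f) η S hS a) = t k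
    rw [← hx k, ← ha k, lanEl_map, lanEl_map']
    congr 1
    exact Cofan.IsColimit.fac hc _ k

end Groth.Agent.ProEtWC

namespace Groth.Agent.ProEtWC

theorem lan_toSheafify_bijective {X Y : Scheme.{u}} (f : X ⟶ Y) (F : Sheaf (Scheme.ProEt.topology Y) (Type (u + 1)))
    (W : X.ProEt) [IsAffine W.left] (hW : ProEtS.IsWC W) :
    Function.Bijective
      ((toSheafify (Scheme.ProEt.topology X) ((ProEtS.bcP f).op.lan.obj F.obj)).app (op W)) :=
  toSheafify_bijective_of _ W hW fun _ P g h => lan_bijective_disjoint f F ((ProEtS.bcP f).op.lanUnit.app F.obj)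
    (Functor.isPointwiseLeftKanExtensionOfIsLeftKanExtension _ _) P g h

end Groth.Agent.ProEtWC
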