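import Groth.Prelude.Def_ProEtS
import Groth.Agent.ProEtWC.Lan
import Groth.Agent.Et18.ProEtPoints
import Groth.Agent.HenselLib.KummerSheaf
import Groth.Agent.H8Top.SchemeBasic

/-!
# The unit of `ε⁻¹ ⊣ ε_*` between the small étale and pro-étale sites
-/

set_option autoImplicit false
set_option linter.all false
set_option backward.isDefEq.respectTransparency.types false
set_option backward.isDefEq.respectTransparency false
set_option synthInstance.maxHeartbeats 400000
set_option maxHeartbeats 1000000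

universe u

open CategoryTheory Limits AlgebraicGeometry Opposite

namespace Groth.Agent.ProEtWC.EpsUnit

variable {X : Scheme.{u}}

instance preservesFiniteLimits_eps : PreservesFiniteLimits (ProEtS.eps X) := by
  haveI : PreservesFiniteLimits (ProEtS.eps X ⋙ Scheme.ProEt.forget X) :=
    @preservesFiniteLimits_of_natIso _ _ _ _ (Scheme.Etale.forget X) _
      (NatIso.ofComponents (fun U => Iso.refl _) (by intros; simp; rfl) :
        Scheme.Etale.forget X ≅ ProEtS.eps X ⋙ Scheme.ProEt.forget X) inferInstance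
  exact ⟨fun J _ _ => preservesLimitsOfShape_of_reflects_of_preserves (ProEtS.eps X) (Scheme.ProEt.forget X)⟩

instance representablyFlat_eps : RepresentablyFlat (ProEtS.eps X) := flat_of_preservesFiniteLimits _

theorem etale_left {U V : X.Etale} (g : V ⟶ U) : Etale g.left := by
  have : Etale U.hom := U.prop
  have h : g.left ≫ U.hom = V.hom := CategoryTheory.Over.w g.hom
  have : Etale (g.left ≫ U.hom) := h ▸ V.prop
  exact Etale.of_comp g.left U.hom

/-- The restriction of an étale object to an open subscheme. -/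
noncomputable abbrev openE (U : X.Etale) (O : U.left.Opens) : X.Etale :=
  haveI : Etale U.hom := U.prop
  Scheme.Etale.mk (O.ι ≫ U.hom)

noncomputable abbrev openInclE (U : X.Etale) (O : U.left.Opens) : openE U O ⟶ U :=
  MorphismProperty.Over.homMk O.ι rfl trivial

variable (F : EtCoh.Ab X)

/-- The points near which a section vanishes. -/
def zeroLocus (V : X.Etale) (x : F.obj.obj (op V)) : Set V.left :=
  {v | ∃ (W : X.Etale) (g : W ⟶ V), v ∈ Set.range g.left ∧ F.obj.map g.op x = 0}

theorem isOpen_zeroLocus (V : X.Etale) (x : F.obj.obj (op V)) : IsOpen (zeroLocus F V x) := by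
  rw [isOpen_iff_forall_mem_open]
  rintro v ⟨W, g, hv, h0⟩
  haveI := etale_left g
  exact ⟨Set.range g.left, fun y hy => ⟨W, g, hy, h0⟩, g.left.isOpenMap.isOpen_range, hv⟩

theorem eq_zero_of_zeroLocus {V : X.Etale} (x : F.obj.obj (op V)) (h : ∀ v, v ∈ zeroLocus F V x) :
    x = 0 := by
  let R : Sieve V :=
    { arrows := fun W g => F.obj.map g.op x = 0
      downward_closed := fun {W W'} g hg m => by
        rw [op_comp, Functor.map_comp]
        show F.obj.map m.op (F.obj.map g.op x) = 0
        rw [hg, map_zero] }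
  have hR : R ∈ X.smallEtaleTopology V := HenselLib.Kummer.mem_of_points V R fun v => by
    obtain ⟨W, g, ⟨w, hw⟩, h0⟩ := h v
    exact ⟨W, g, w, h0, hw⟩
  refine ((Presheaf.isSheaf_iff_isSheaf_forget X.smallEtaleTopology F.obj
    (CategoryTheory.forget AddCommGrpCat.{u + 1})).1 F.property |>
    (isSheaf_iff_isSheaf_of_type _ _).1) R hR |>.isSeparatedFor.ext fun W g hg => ?_
  show F.obj.map g.op x = F.obj.map g.op 0
  rw [map_zero]
  exact hg

/-- The presheaf pullback. -/
noncomputable abbrev L : X.ProEtᵒᵖ ⥤ AddCommGrpCat.{u + 1} := (ProEtS.eps X).op.lan.obj F.obj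

/-- The sheaf pullback. -/
noncomputable abbrev G : Sheaf (Scheme.ProEt.topology X) AddCommGrpCat.{u + 1} :=
  (presheafToSheaf (Scheme.ProEt.topology X) AddCommGrpCat.{u + 1}).obj (L F)

/-- The unit at the level of sections. -/
noncomputable def theta (V : X.Etale) : F.obj.obj (op V) ⟶ (G F).obj.obj (op ((ProEtS.eps X).obj V)) :=
  ((ProEtS.eps X).op.lanUnit.app F.obj).app (op V) ≫
    (toSheafify (Scheme.ProEt.topology X) (L F)).app (op ((ProEtS.eps X).obj V))

/-- The section of the pullback given by a morphism and a section. -/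
noncomputable def ev {W : X.ProEt} (V : X.Etale) (h : W ⟶ (ProEtS.eps X).obj V) (x : F.obj.obj (op V)) :
    (G F).obj.obj (op W) :=
  (G F).obj.map h.op (theta F V x)

theorem theta_map {V V' : X.Etale} (m : V' ⟶ V) (x : F.obj.obj (op V)) :
    (G F).obj.map ((ProEtS.eps X).map m).op (theta F V x) = theta F V' (F.obj.map m.op x) := by
  let φ : F.obj ⟶ (ProEtS.eps X).op ⋙ (G F).obj := (ProEtS.eps X).op.lanUnit.app F.obj ≫
    Functor.whiskerLeft (ProEtS.eps X).op (toSheafify (Scheme.ProEt.topology X) (L F))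
  exact (φ.naturality_apply m.op x).symm

theorem map_ev {W W' : X.ProEt} (r : W' ⟶ W) (V : X.Etale) (h : W ⟶ (ProEtS.eps X).obj V)
    (x : F.obj.obj (op V)) : (G F).obj.map r.op (ev F V h x) = ev F V (r ≫ h) x := by
  simp only [ev, op_comp, Functor.map_comp]
  rfl

theorem ev_map {W : X.ProEt} {V V' : X.Etale} (m : V' ⟶ V) (h : W ⟶ (ProEtS.eps X).obj V')
    (x : F.obj.obj (op V)) : ev F V' h (F.obj.map m.op x) = ev F V (h ≫ (ProEtS.eps X).map m) x := by
  simp only [ev, op_comp, Functor.map_comp, ← theta_map]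
  rfl

theorem ev_zero {W : X.ProEt} (V : X.Etale) (h : W ⟶ (ProEtS.eps X).obj V) : ev F V h 0 = 0 := by
  simp only [ev, map_zero]

/-- The type-valued presheaf pullback, with its universal property. -/
noncomputable abbrev LT : X.ProEtᵒᵖ ⥤ Type (u + 1) := L F ⋙ CategoryTheory.forget AddCommGrpCat.{u + 1}

noncomputable abbrev etaT : F.obj ⋙ CategoryTheory.forget AddCommGrpCat.{u + 1} ⟶ (ProEtS.eps X).op ⋙ LT F :=
  Functor.whiskerRight ((ProEtS.eps X).op.lanUnit.app F.obj) (CategoryTheory.forget AddCommGrpCat.{u + 1})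

noncomputable def isPointwise :
    (Functor.LeftExtension.mk (LT F) (etaT F)).IsPointwiseLeftKanExtension := fun W' => by
  haveI : RepresentablyCoflat (ProEtS.eps X).op := (representablyCoflat_op_iff _).2 inferInstance
  have h0 := (Functor.isPointwiseLeftKanExtensionOfIsLeftKanExtension (L F) ((ProEtS.eps X).op.lanUnit.app F.obj)) W'
  haveI : PreservesFilteredColimitsOfSize.{u, u + 1} (CategoryTheory.forget AddCommGrpCat.{u + 1}) :=
    preservesFilteredColimitsOfSize_shrink.{u + 1, u + 1, u, u + 1} _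
  haveI : PreservesColimitsOfShape (CostructuredArrow (ProEtS.eps X).op W')
      (CategoryTheory.forget AddCommGrpCat.{u + 1}) :=
    PreservesFilteredColimitsOfSize.preserves_filtered_colimits _
  exact IsColimit.ofIsoColimit (isColimitOfPreserves (CategoryTheory.forget AddCommGrpCat.{u + 1}) h0)
    (Cocone.ext (Iso.refl _) fun j => by ext x; rfl)

theorem toSheafify_lanEl {W : X.ProEt} (V : X.Etale) (h : W ⟶ (ProEtS.eps X).obj V)
    (x : F.obj.obj (op V)) :
    (toSheafify (Scheme.ProEt.topology X) (L F)).app (op W)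
      (lanEl (F := F.obj ⋙ CategoryTheory.forget AddCommGrpCat.{u + 1}) (L := LT F) (ProEtS.eps X) (etaT F) V h x) =
      ev F V h x :=
  (toSheafify (Scheme.ProEt.topology X) (L F)).naturality_apply h.op _

theorem exists_local (W : X.ProEt) (a : (G F).obj.obj (op W)) :
    ∃ R ∈ Scheme.ProEt.topology X W, ∀ ⦃W' : X.ProEt⦄ (r : W' ⟶ W), R r →
      ∃ (V : X.Etale) (h : W' ⟶ (ProEtS.eps X).obj V) (x : F.obj.obj (op V)),
        (G F).obj.map r.op a = ev F V h x := by
  refine ⟨_, Presheaf.imageSieve_mem (Scheme.ProEt.topology X) (toSheafify (Scheme.ProEt.topology X) (L F)) a,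
    fun W' r hr => ?_⟩
  obtain ⟨l, hl⟩ := hr
  obtain ⟨V, h, x, hx⟩ := lanEl_surjective (ProEtS.eps X) (etaT F) (isPointwise F) (W := W') l
  exact ⟨V, h, x, by rw [← toSheafify_lanEl, hx]; exact hl.symm⟩

theorem mem_zeroLocus_of_ev_eq_zero {W : X.ProEt} (V : X.Etale) (h : W ⟶ (ProEtS.eps X).obj V)
    (x : F.obj.obj (op V)) (h0 : ev F V h x = 0) (w : W.left) :
    (h.left w : V.left) ∈ zeroLocus F V x := by
  have h1 : (toSheafify (Scheme.ProEt.topology X) (L F)).app (op W)
      (lanEl (F := F.obj ⋙ CategoryTheory.forget AddCommGrpCat.{u + 1}) (L := LT F) (ProEtS.eps X) (etaT F) V h x) =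
      (toSheafify (Scheme.ProEt.topology X) (L F)).app (op W)
      (lanEl (F := F.obj ⋙ CategoryTheory.forget AddCommGrpCat.{u + 1}) (L := LT F) (ProEtS.eps X) (etaT F) V h (0 : F.obj.obj (op V))) := by
    rw [toSheafify_lanEl, toSheafify_lanEl, h0, ev_zero]
  obtain ⟨W', r, hr, w', rfl⟩ := exists_mem_of_covering
    (Presheaf.equalizerSieve_mem (Scheme.ProEt.topology X) (toSheafify (Scheme.ProEt.topology X) (L F)) _ _ h1) w
  have h2 : (LT F).map r.op (lanEl (F := F.obj ⋙ CategoryTheory.forget AddCommGrpCat.{u + 1}) (ProEtS.eps X) (etaT F) V h x) =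
      (LT F).map r.op (lanEl (F := F.obj ⋙ CategoryTheory.forget AddCommGrpCat.{u + 1}) (ProEtS.eps X) (etaT F) V h (0 : F.obj.obj (op V))) := hr
  rw [lanEl_map, lanEl_map] at h2
  obtain ⟨V', m, h', hm, hxy⟩ := lanEl_eq (ProEtS.eps X) (etaT F) (isPointwise F) _ _ _ h2
  refine ⟨V', m, ⟨h'.left w', ?_⟩, ?_⟩
  · exact congrArg (fun t => (t.left w' : V.left)) hm
  · have hxy' : F.obj.map m.op x = F.obj.map m.op 0 := hxy
    rw [hxy', map_zero]

theorem ev_eq_zero_of_mem_zeroLocus {W : X.ProEt} (V : X.Etale) (h : W ⟶ (ProEtS.eps X).obj V)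
    (x : F.obj.obj (op V)) (hw : ∀ w : W.left, (h.left w : V.left) ∈ zeroLocus F V x) :
    ev F V h x = 0 := by
  let O : V.left.Opens := ⟨zeroLocus F V x, isOpen_zeroLocus F V x⟩
  let i := openInclE V O
  have hi : F.obj.map i.op x = 0 := eq_zero_of_zeroLocus F _ fun v => by
    obtain ⟨T, g, ⟨t, ht⟩, h0⟩ := (v : O).2
    haveI := etale_left g
    haveI : Etale g.left := etale_left g
    haveI : Etale V.hom := V.prop
    let T' := openE T (g.left ⁻¹ᵁ O)
    have hr : Set.range ((g.left ⁻¹ᵁ O).ι ≫ g.left) ⊆ Set.range O.ι := by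
      rintro _ ⟨a, rfl⟩
      rw [Scheme.Opens.range_ι]
      exact a.2
    let g' : T' ⟶ openE V O := MorphismProperty.Over.homMk
      (IsOpenImmersion.lift O.ι ((g.left ⁻¹ᵁ O).ι ≫ g.left) hr) (by
        show IsOpenImmersion.lift O.ι _ hr ≫ O.ι ≫ V.hom = (g.left ⁻¹ᵁ O).ι ≫ T.hom
        rw [IsOpenImmersion.lift_fac_assoc, Category.assoc]
        exact congrArg (fun k => (g.left ⁻¹ᵁ O).ι ≫ k) (CategoryTheory.Over.w g.hom)) trivial
    refine ⟨T', g', ⟨⟨t, by show g.left t ∈ O; rw [ht]; exact v.2⟩, ?_⟩, ?_⟩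
    · apply O.ι.isOpenEmbedding.injective
      show (IsOpenImmersion.lift O.ι _ hr ≫ O.ι) _ = _
      rw [IsOpenImmersion.lift_fac]
      exact ht
    · have he : g' ≫ i = openInclE T (g.left ⁻¹ᵁ O) ≫ g :=
        (Scheme.Etale.forget X ⋙ CategoryTheory.Over.forget X).map_injective (IsOpenImmersion.lift_fac O.ι _ hr)
      show F.obj.map g'.op (F.obj.map i.op x) = 0
      rw [← Functor.map_comp_apply, ← op_comp, he, op_comp, Functor.map_comp_apply, h0, map_zero]
  have hr : Set.range (h.left : W.left ⟶ V.left) ⊆ Set.range O.ι := by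
    rintro _ ⟨a, rfl⟩
    rw [Scheme.Opens.range_ι]
    exact hw a
  let h' : W ⟶ (ProEtS.eps X).obj (openE V O) := MorphismProperty.Over.homMk
    (IsOpenImmersion.lift O.ι h.left hr) (by
      show IsOpenImmersion.lift O.ι h.left hr ≫ O.ι ≫ V.hom = W.hom
      rw [IsOpenImmersion.lift_fac_assoc]
      exact CategoryTheory.Over.w h.hom) trivial
  have he : h' ≫ (ProEtS.eps X).map i = h :=
    (Scheme.ProEt.forget X ⋙ CategoryTheory.Over.forget X).map_injective (IsOpenImmersion.lift_fac O.ι _ hr)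
  rw [← he, ← ev_map, hi, ev_zero]

theorem exists_open_map_eq_zero (V : X.Etale) (d : (G F).obj.obj (op ((ProEtS.eps X).obj V)))
    {W : X.ProEt} (h : W ⟶ (ProEtS.eps X).obj V) (hd : (G F).obj.map h.op d = 0) (w : W.left) :
    ∃ O : V.left.Opens, (h.left w : V.left) ∈ O ∧
      (G F).obj.map ((ProEtS.eps X).map (openInclE V O)).op d = 0 := by
  obtain ⟨O₁, hO₁, hvO, -⟩ := exists_isAffineOpen_mem_and_subset (X := V.left)
    (x := (h.left w : V.left)) (U := ⊤) trivial
  let i₁ := (ProEtS.eps X).map (openInclE V O₁)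
  let V₁ := (ProEtS.eps X).obj (openE V O₁)
  have hA : Et18.affineObj X V₁ := hO₁
  obtain ⟨R, hR, hloc⟩ := exists_local F V₁ ((G F).obj.map i₁.op d)
  obtain ⟨n, Yc, f, hY, hf, hcov⟩ := Et18.saturate_hasFiniteAffine (R := R) hR V₁ (𝟙 _) hA
  choose Vk g x hx using fun k => hloc (f k) (by simpa using hf k)
  let B : Fin n → Set V.left := fun k =>
    (fun y => ((f k ≫ i₁).left y : V.left)) '' {y | ((g k).left y : (Vk k).left) ∉ zeroLocus F (Vk k) (x k)}
  have hB : ∀ k, (h.left w : V.left) ∉ closure (B k) := by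
    intro k hk
    obtain ⟨y, hy, hyv⟩ : ∃ y : (Yc k).left, ((g k).left y : (Vk k).left) ∉ zeroLocus F (Vk k) (x k) ∧
        ((f k ≫ i₁).left y : V.left) ⤳ (h.left w : V.left) := by
      haveI : IsAffine (Yc k).left := hY k
      have hC : IsClosed {y : (Yc k).left | ((g k).left y : (Vk k).left) ∉ zeroLocus F (Vk k) (x k)} :=
        ((isOpen_zeroLocus F (Vk k) (x k)).preimage (g k).left.continuous).isClosed_compl
      obtain ⟨O₂, hO₂, hvO₂, -⟩ := exists_isAffineOpen_mem_and_subset (X := V.left)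
        (x := (h.left w : V.left)) (U := O₁) hvO
      let I := Scheme.IdealSheafData.vanishingIdeal ⟨_, hC⟩
      haveI : IsAffine (V₁.left) := hO₁
      let q : I.subscheme ⟶ V₁.left := I.subschemeι ≫ (f k).left
      haveI : QuasiCompact q := inferInstance
      have hq : (⟨_, hvO⟩ : V₁.left) ∈ closure (Set.range q) := by
        rw [(O₁.ι.isOpenEmbedding.isInducing).closure_eq_preimage_closure_image]
        refine Set.mem_preimage.2 (closure_mono ?_ hk)
        rintro _ ⟨y, hy, rfl⟩
        obtain ⟨z, hz⟩ : y ∈ Set.range I.subschemeι := by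
          rw [Scheme.IdealSheafData.range_subschemeι]
          exact (Set.ext_iff.1 (Scheme.IdealSheafData.coe_support_vanishingIdeal _) y).2 hy
        exact ⟨q z, ⟨z, rfl⟩, by show i₁.left ((f k).left (I.subschemeι z)) = _; rw [hz]; rfl⟩
      obtain ⟨z, hz⟩ := H8Top.exists_specializes_of_mem_closure_range q hq
      refine ⟨I.subschemeι z, ?_, hz.map O₁.ι.continuous⟩
      have : I.subschemeι z ∈ Set.range I.subschemeι := ⟨z, rfl⟩
      rw [Scheme.IdealSheafData.range_subschemeι] at this
      exact (Set.ext_iff.1 (Scheme.IdealSheafData.coe_support_vanishingIdeal _) _).1 this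
    haveI := weaklyEtale_left h
    obtain ⟨w', -, hw'⟩ := Flat.generalizingMap h.left hyv
    have hsq := (IsPullback.of_hasPullback (f k ≫ i₁) h).map (Scheme.ProEt.forget X ⋙ CategoryTheory.Over.forget X)
    obtain ⟨p, hp, -⟩ := Scheme.exists_preimage_of_isPullback hsq y w' hw'.symm
    have h0 : ev F (Vk k) (pullback.fst (f k ≫ i₁) h ≫ g k) (x k) = 0 := by
      rw [← map_ev, ← hx k, ← Functor.map_comp_apply, ← Functor.map_comp_apply, ← op_comp, ← op_comp,
        Category.assoc, pullback.condition, op_comp, Functor.map_comp_apply, hd, map_zero]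
    have := mem_zeroLocus_of_ev_eq_zero F _ _ _ h0 p
    apply hy
    rw [← hp]
    exact this
  let O : V.left.Opens := ⟨(O₁ : Set V.left) ∩ (⋃ k, closure (B k))ᶜ,
    O₁.isOpen.inter (isClosed_iUnion_of_finite fun k => isClosed_closure).isOpen_compl⟩
  refine ⟨O, ⟨hvO, by simpa using hB⟩, ?_⟩
  have hle : O ≤ O₁ := fun _ hy => hy.1
  let j : openE V O ⟶ openE V O₁ := MorphismProperty.Over.homMk
    (V.left.homOfLE hle) (by
      show V.left.homOfLE hle ≫ O₁.ι ≫ V.hom = O.ι ≫ V.hom
      rw [Scheme.homOfLE_ι_assoc]) trivial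
  have hj : j ≫ openInclE V O₁ = openInclE V O :=
    (Scheme.Etale.forget X ⋙ CategoryTheory.Over.forget X).map_injective (Scheme.homOfLE_ι _ hle)
  let j' := (ProEtS.eps X).map j
  refine ((Presheaf.isSheaf_iff_isSheaf_forget (Scheme.ProEt.topology X) (G F).obj
    (CategoryTheory.forget AddCommGrpCat.{u + 1})).1 (G F).property |>
    (isSheaf_iff_isSheaf_of_type _ _).1) _ ((Scheme.ProEt.topology X).pullback_stable j' hcov)
    |>.isSeparatedFor.ext fun Z r hr => ?_
  obtain ⟨_, c, _, ⟨k⟩, hc⟩ := hr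
  show (G F).obj.map r.op ((G F).obj.map ((ProEtS.eps X).map (openInclE V O)).op d) = (G F).obj.map r.op 0
  rw [map_zero, ← hj, Functor.map_comp, op_comp, Functor.map_comp_apply, ← Functor.map_comp_apply,
    ← op_comp, ← hc, op_comp, Functor.map_comp_apply, hx, map_ev]
  refine ev_eq_zero_of_mem_zeroLocus F _ _ _ fun z => ?_
  by_contra hz
  have hO : ((r ≫ (ProEtS.eps X).map (openInclE V O)).left z : V.left) ∈ O := (r.left z).2
  refine hO.2 (Set.mem_iUnion.2 ⟨k, subset_closure ⟨c.left z, hz, ?_⟩⟩)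
  rw [← hj, Functor.map_comp, ← Category.assoc, ← hc]
  rfl

theorem theta_injective (V : X.Etale) : Function.Injective (theta F V) := by
  refine (injective_iff_map_eq_zero' _).2 fun x => ⟨fun hx => ?_, fun hx => by rw [hx, map_zero]⟩
  refine eq_zero_of_zeroLocus F x fun v => ?_
  exact mem_zeroLocus_of_ev_eq_zero F V (𝟙 _) x (by simp only [ev, op_id]; rw [CategoryTheory.Functor.map_id]; exact hx) v

theorem theta_imageSieve (U : X.Etale) (s : (G F).obj.obj (op ((ProEtS.eps X).obj U))) (u : U.left) :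
    ∃ (V : X.Etale) (p : V ⟶ U) (v : V.left), p.left v = u ∧
      ∃ t, theta F V t = (G F).obj.map ((ProEtS.eps X).map p).op s := by
  obtain ⟨R, hR, hloc⟩ := exists_local F _ s
  obtain ⟨W, r, hr, w, hw⟩ := exists_mem_of_covering hR u
  obtain ⟨V₀, h, x, hx⟩ := hloc r hr
  obtain ⟨V, h', m₁, m₂, hm₁, hm₂⟩ := lanEl_common (ProEtS.eps X) h r
  obtain ⟨O, hO, hd⟩ := exists_open_map_eq_zero F V
    ((G F).obj.map ((ProEtS.eps X).map m₂).op s - theta F V (F.obj.map m₁.op x)) h' (by
      rw [map_sub, ← Functor.map_comp_apply, ← op_comp, hm₂, hx, sub_eq_zero]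
      show _ = ev F V h' (F.obj.map m₁.op x)
      rw [ev_map, hm₁]) w
  refine ⟨openE V O, openInclE V O ≫ m₂, ⟨_, hO⟩, ?_,
    F.obj.map (openInclE V O).op (F.obj.map m₁.op x), ?_⟩
  · rw [← hw, ← hm₂]
    rfl
  · rw [map_sub, theta_map, sub_eq_zero] at hd
    rw [← hd, Functor.map_comp, op_comp, Functor.map_comp_apply]

theorem isIso_unit [ProEtS.EpsCont X] : IsIso ((ProEtS.epsAdj X).unit.app F) := by
  let A := AddCommGrpCat.{u + 1}
  let J := X.smallEtaleTopology
  let K := Scheme.ProEt.topology X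
  let adj' := Functor.sheafPullbackConstruction.sheafAdjunctionContinuous (ProEtS.eps X) A J K
  let adj := Functor.sheafAdjunctionContinuous (ProEtS.eps X) A J K
  have hu : (adj'.unit.app F).hom = (ProEtS.eps X).op.lanUnit.app F.obj ≫
      Functor.whiskerLeft (ProEtS.eps X).op (toSheafify K (L F)) := by
    show (sheafToPresheaf J A).map (adj'.unit.app F) = _
    simp only [adj', Functor.sheafPullbackConstruction.sheafAdjunctionContinuous]
    erw [Adjunction.map_restrictFullyFaithful_unit_app]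
    simp [Adjunction.comp_unit_app, Functor.lanAdjunction_unit, sheafificationAdjunction_unit_app]
    rfl
  have happ : ∀ (V : X.Etale) (x : F.obj.obj (op V)), (adj'.unit.app F).hom.app (op V) x = theta F V x :=
    fun V x => by rw [hu]; rfl
  haveI : Presheaf.IsLocallyInjective J (adj'.unit.app F).hom :=
    ⟨fun {U} a b hab => by
      obtain rfl : a = b := theta_injective F U.unop (by rw [← happ, ← happ]; exact hab)
      simp⟩
  haveI : Presheaf.IsLocallySurjective J (adj'.unit.app F).hom :=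
    ⟨fun {U} s => HenselLib.Kummer.mem_of_points U _ fun u => by
      obtain ⟨V, p, v, hv, t, ht⟩ := theta_imageSieve F U s u
      exact ⟨V, p, v, ⟨t, (happ V t).trans ht⟩, hv⟩⟩
  haveI : IsIso (adj'.unit.app F) := (Sheaf.isLocallyBijective_iff_isIso _).1 ⟨inferInstance, inferInstance⟩
  have h2 := adj.unit_leftAdjointUniq_hom_app adj' F
  rw [← h2] at this
  exact IsIso.of_isIso_comp_right (adj.unit.app F) (((ProEtS.eps X).sheafPushforwardContinuous A J K).map
    ((adj.leftAdjointUniq adj').hom.app F))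

end Groth.Agent.ProEtWC.EpsUnit
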