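import Groth.Prelude.Def_ProEtS

/-!
# Base change of small pro-étale sites is continuous
-/

set_option autoImplicit false
set_option linter.all false
set_option backward.isDefEq.respectTransparency.types false
set_option backward.isDefEq.respectTransparency false
set_option backward.defeqAttrib.useBackward true

universe u

open CategoryTheory Limits AlgebraicGeometry Opposite

namespace Groth.Agent.ProEtWC

variable {X Y : Scheme.{u}}

theorem mem_topology_iff_pushforward {S : Scheme.{u}} {U : S.ProEt} (R : Sieve U) :
    R ∈ Scheme.ProEt.topology S U ↔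
      R.functorPushforward (Scheme.ProEt.forget S ⋙ CategoryTheory.Over.forget S) ∈ Scheme.proetaleTopology U.left := by
  have h : Scheme.ProEt.topology S = (Scheme.ProEt.forget S).restrictedTopology (Scheme.proetaleTopology.over S) :=
    MorphismProperty.toGrothendieck_comap_forget_eq_restrictedTopology (P := @WeaklyEtale) _
      Scheme.proetalePrecoverage_le_precoverage_weaklyEtale
  rw [h, Functor.mem_restrictedTopology_iff, GrothendieckTopology.mem_over_iff, Sieve.functorPushforward_comp]
  rfl

theorem pCont_preservesFiniteLimits_bcP (f : X ⟶ Y) : PreservesFiniteLimits (ProEtS.bcP f) := by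
  have h : PreservesFiniteLimits (ProEtS.bcP f ⋙ Scheme.ProEt.forget X) := by
    let e : ProEtS.bcP f ⋙ Scheme.ProEt.forget X ≅ Scheme.ProEt.forget Y ⋙ CategoryTheory.Over.pullback f :=
      MorphismProperty.Over.pullbackCompForgetIso (P := @WeaklyEtale) (Q := ⊤) f
    exact preservesFiniteLimits_of_natIso e.symm
  exact preservesFiniteLimits_of_reflects_of_preserves (ProEtS.bcP f) (Scheme.ProEt.forget X)

theorem isPullback_bcP_map (f : X ⟶ Y) {U V : Y.ProEt} (g : V ⟶ U) :
    IsPullback ((ProEtS.bcP f).map g).left (pullback.fst V.hom f : ((ProEtS.bcP f).obj V).left ⟶ V.left)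
      (pullback.fst U.hom f : ((ProEtS.bcP f).obj U).left ⟶ U.left) g.left := by
  have e1 : ((ProEtS.bcP f).map g).left ≫ pullback.snd U.hom f = pullback.snd V.hom f := by
    dsimp [ProEtS.bcP]
    exact pullback.lift_snd _ _ _
  have e2 : g.left ≫ U.hom = V.hom := CategoryTheory.Over.w g.hom
  refine IsPullback.of_right (h₁₂ := pullback.snd U.hom f) (v₁₃ := f) (h₂₂ := U.hom) ?_ ?_
    (IsPullback.of_hasPullback U.hom f).flip
  · exact (congrArg₂ (fun a d => IsPullback a (pullback.fst V.hom f) f d) e1 e2).mpr
      (IsPullback.of_hasPullback V.hom f).flip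
  · dsimp [ProEtS.bcP]
    exact pullback.lift_fst _ _ _

theorem coverPreserving_bcP (f : X ⟶ Y) :
    CoverPreserving (Scheme.ProEt.topology Y) (Scheme.ProEt.topology X) (ProEtS.bcP f) := by
  constructor
  intro U S hS
  rw [mem_topology_iff_pushforward] at hS ⊢
  refine Scheme.proetaleTopology.superset_covering ?_
    (Scheme.proetaleTopology.pullback_stable (pullback.fst U.hom f : ((ProEtS.bcP f).obj U).left ⟶ U.left) hS)
  intro T t ht
  obtain ⟨V, g, a, hg, hga⟩ := ht
  have sq := isPullback_bcP_map f g
  refine ⟨(ProEtS.bcP f).obj V, (ProEtS.bcP f).map g, sq.lift t a hga, ⟨V, g, 𝟙 _, hg, (Category.id_comp _).symm⟩, ?_⟩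
  exact (sq.lift_fst _ _ _).symm

theorem pCont (f : X ⟶ Y) : ProEtS.PCont f :=
  haveI := pCont_preservesFiniteLimits_bcP f
  haveI : RepresentablyFlat (ProEtS.bcP f) := flat_of_preservesFiniteLimits _
  Functor.isContinuous_of_coverPreserving (compatiblePreservingOfFlat _ _) (coverPreserving_bcP f)

end Groth.Agent.ProEtWC
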