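import Mathlib
import Groth.Agent.ProEtWC.Coprod
import Groth.Agent.HenselLib.WEtNoeth

/-!
# Sections of extensions by zero on the small pro-étale site
-/

set_option autoImplicit false
set_option linter.all false
set_option backward.isDefEq.respectTransparency.types false
set_option backward.isDefEq.respectTransparency false
set_option synthInstance.maxHeartbeats 400000
set_option maxHeartbeats 1000000

universe u

open CategoryTheory Limits AlgebraicGeometry Opposite MorphismProperty

namespace Groth.Agent.ProEtWC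

/-- A left Kan extension vanishes where there are no morphisms to the image. -/
theorem isZero_lan {C : Type (u + 1)} [Category.{u} C] {D : Type (u + 1)} [Category.{u} D] (G : C ⥤ D)
    (F : Cᵒᵖ ⥤ AddCommGrpCat.{u + 1}) (W : D) (h : ∀ V, (W ⟶ G.obj V) → False) :
    IsZero ((G.op.lan.obj F).obj (op W)) := by
  have hc := (Functor.isPointwiseLeftKanExtensionOfIsLeftKanExtension (G.op.lan.obj F) (G.op.lanUnit.app F))
    (op W)
  haveI : IsEmpty (CostructuredArrow G.op (op W)) := ⟨fun j => h _ j.hom.unop⟩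
  exact (IsZero.iff_id_eq_zero _).2 (hc.hom_ext fun j => isEmptyElim j)

variable {X : Scheme.{u}}

/-- The localisation of an affine object along the preimage of a closed subset. -/
theorem exists_localisation_along (Y : X.ProEt) [IsAffine Y.left] (Zc : Set X) (hZ : IsClosed Zc) :
    ∃ (T : X.ProEt) (g : T ⟶ Y), IsAffine T.left ∧
      (∀ t : T.left, ∃ t' : T.left, t ⤳ t' ∧ T.hom t' ∈ Zc) ∧
      ∀ y z : Y.left, y ⤳ z → Y.hom z ∈ Zc → y ∈ Set.range g.left := by
  let e := Y.left.isoSpec
  let C : Set (PrimeSpectrum Γ(Y.left, ⊤)) := e.inv ⁻¹' (Y.hom ⁻¹' Zc)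
  have hC : IsClosed C := (hZ.preimage Y.hom.continuous).preimage e.inv.continuous
  let I := PrimeSpectrum.vanishingIdeal C
  let S : Submonoid Γ(Y.left, ⊤) := (Submonoid.closure {x | x - 1 ∈ I})
  have hS : ∀ s ∈ S, s - 1 ∈ I := by
    intro s hs
    induction hs using Submonoid.closure_induction with
    | mem x hx => exact hx
    | one => simp
    | mul a b _ _ ha hb =>
      rw [show a * b - 1 = a * (b - 1) + (a - 1) by ring]
      exact I.add_mem (I.mul_mem_left _ hb) ha
  let B := Localization S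
  let a : Γ(Y.left, ⊤) ⟶ CommRingCat.of B := CommRingCat.ofHom (algebraMap _ B)
  haveI : WeaklyEtale (Spec.map a) :=
    (SchMor12.weaklyEtale_SpecMap_iff Γ(Y.left, ⊤) B).2 (HenselLib.WEtNoeth.weaklyEtale_of_isLocalization S)
  let p : Spec (CommRingCat.of B) ⟶ Y.left := Spec.map a ≫ e.inv
  let T : X.ProEt := Scheme.ProEt.mk (p ≫ Y.hom)
  let g : T ⟶ Y := MorphismProperty.Over.homMk p rfl trivial
  refine ⟨T, g, inferInstanceAs (IsAffine (Spec (CommRingCat.of B))), fun t => ?_, fun y z hyz hz => ?_⟩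
  · obtain ⟨M, hM, htM⟩ := Ideal.exists_le_maximal (show PrimeSpectrum B from t).asIdeal
      (show PrimeSpectrum B from t).isPrime.ne_top
    refine ⟨(⟨M, hM.isPrime⟩ : PrimeSpectrum B), (PrimeSpectrum.le_iff_specializes _ _).1 htM, ?_⟩
    show PrimeSpectrum.comap a.hom ⟨M, hM.isPrime⟩ ∈ C
    rw [← hC.closure_eq, ← PrimeSpectrum.zeroLocus_vanishingIdeal_eq_closure]
    intro r hr
    show algebraMap _ B r ∈ M
    by_contra hrM
    obtain ⟨b, m, hm, hbm⟩ := hM.exists_inv hrM
    obtain ⟨c, s, rfl⟩ := IsLocalization.exists_mk'_eq S b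
    have h1 : algebraMap _ B (s.1 - c * r) ∈ M := by
      have : algebraMap _ B (s.1 - c * r) = algebraMap _ B s.1 * m := by
        rw [map_sub, map_mul, ← IsLocalization.mk'_spec' B c s]
        linear_combination (-(algebraMap _ B s.1)) * hbm
      rw [this]
      exact M.mul_mem_left _ hm
    refine hM.ne_top (Ideal.eq_top_of_isUnit_mem _ h1 ?_)
    refine IsLocalization.map_units B (⟨_, Submonoid.subset_closure ?_⟩ : S)
    show s.1 - c * r - 1 ∈ I
    rw [show s.1 - c * r - 1 = (s.1 - 1) - c * r by ring]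
    exact I.sub_mem (hS _ s.2) (I.mul_mem_left _ hr)
  · have hdisj : Disjoint (S : Set Γ(Y.left, ⊤)) (e.hom y : PrimeSpectrum _).asIdeal := by
      rw [Set.disjoint_left]
      intro s hs hsy
      have hle : (e.hom y : PrimeSpectrum _).asIdeal ≤ (e.hom z : PrimeSpectrum _).asIdeal :=
        (PrimeSpectrum.le_iff_specializes _ _).2 (hyz.map e.hom.continuous)
      have hzC : (e.hom z : PrimeSpectrum _) ∈ C := by
        show Y.hom (e.inv (e.hom z)) ∈ Zc
        rw [← Scheme.Hom.comp_apply e.hom e.inv, Iso.hom_inv_id]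
        exact hz
      have h1 : s - 1 ∈ (e.hom z : PrimeSpectrum _).asIdeal :=
        (PrimeSpectrum.mem_vanishingIdeal _ _).1 (hS s hs) _ hzC
      exact (e.hom z : PrimeSpectrum _).isPrime.ne_top ((Ideal.eq_top_iff_one _).2 (by
        simpa using Ideal.sub_mem _ (hle hsy) h1))
    obtain ⟨q, hq⟩ : (e.hom y : PrimeSpectrum _) ∈ Set.range (PrimeSpectrum.comap a.hom) := by
      rw [show a.hom = algebraMap _ B from rfl, PrimeSpectrum.localization_comap_range B S]
      exact hdisj
    refine ⟨q, ?_⟩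
    show e.inv (Spec.map a q) = y
    rw [show Spec.map a q = e.hom y from hq, ← Scheme.Hom.comp_apply, Iso.hom_inv_id]
    rfl

variable {U : Scheme.{u}} (j : U ⟶ X) [WeaklyEtale j] [ProEtS.JPCont j]

theorem extZero_subsingleton (Zc : Set X) (hZ : IsClosed Zc) (hUZ : Disjoint (Set.range j.base) Zc)
    (V : X.ProEt) [IsAffine V.left]
    (hV : ∀ v : V.left, ∃ z : V.left, V.hom z ∈ Zc ∧ v ⤳ z) (F : ProEtS.AbP U) :
    Subsingleton (ProEtS.sectP ((ProEtS.extZeroP j).obj F) V) := by
  let J := Scheme.ProEt.topology X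
  let P := (ProEtS.compP j).op.lan.obj F.obj
  let e := (Functor.sheafPullbackConstruction.sheafPullbackIso (ProEtS.compP j) AddCommGrpCat.{u + 1}
    (Scheme.ProEt.topology U) J).app F
  let S : ProEtS.AbP X := (presheafToSheaf J AddCommGrpCat.{u + 1}).obj P
  suffices h : ∀ s : S.obj.obj (op V), s = 0 by
    let e' := ((sheafToPresheaf J _).mapIso e).app (op V)
    exact @Equiv.subsingleton _ _ e'.addCommGroupIsoToAddEquiv.toEquiv ⟨fun a b => (h a).trans (h b).symm⟩
  intro s
  have hR := Presheaf.imageSieve_mem J (toSheafify J P) s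
  have hfin := Et18.saturate_hasFiniteAffine hR V (𝟙 V) ‹IsAffine V.left›
  rw [Sieve.pullback_id] at hfin
  obtain ⟨n, Yc, f, hY, hf, hcov⟩ := hfin
  haveI : ∀ k, IsAffine (Yc k).left := hY
  choose T g hTa hTz hTr using fun k => exists_localisation_along (Yc k) Zc hZ
  haveI : ∀ k, IsAffine (T k).left := hTa
  have hT : Sieve.ofArrows T (fun k => g k ≫ f k) ∈ J V := by
    refine Et18.mem_topology_of_finite _ _ fun v => ?_
    obtain ⟨z, hz, hvz⟩ := hV v
    obtain ⟨V', h, ⟨V'', c, p, ⟨k⟩, rfl⟩, w, rfl⟩ := exists_mem_of_covering hcov z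
    haveI := weaklyEtale_left (f k)
    obtain ⟨y', hy', hy'v⟩ := Flat.generalizingMap (f k).left (a := c.left w) (b := v) hvz
    have hz' : (Yc k).hom (c.left w) ∈ Zc := by
      have hw : (f k).left ≫ V.hom = (Yc k).hom := CategoryTheory.Over.w (f k).hom
      rw [← hw, Scheme.Hom.comp_apply]
      exact hz
    obtain ⟨t, ht⟩ := hTr k y' (c.left w) hy' hz'
    refine ⟨k, t, ?_⟩
    show (f k).left ((g k).left t) = v
    rw [ht]
    exact hy'v
  refine ((isSheaf_iff_isSheaf_of_type J _).1
    ((sheafCompose J (CategoryTheory.forget AddCommGrpCat.{u + 1})).obj S).property).isSeparated _ hT |>.ext ?_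
  rintro W q ⟨_, c, _, ⟨k⟩, rfl⟩
  show S.obj.map (c ≫ g k ≫ f k).op s = S.obj.map (c ≫ g k ≫ f k).op 0
  rw [op_comp, Functor.map_comp_apply, Functor.map_comp_apply]
  congr 1
  rw [map_zero, op_comp, Functor.map_comp_apply]
  by_cases he : IsEmpty (T k).left
  · haveI := he
    exact subsingleton_of_isEmpty ((sheafCompose J (CategoryTheory.forget AddCommGrpCat.{u + 1})).obj S) (T k) _ _
  · have hP : IsZero (P.obj (op (T k))) := by
      refine isZero_lan _ _ _ fun V' m => ?_
      obtain ⟨t⟩ := not_isEmpty_iff.1 he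
      obtain ⟨t', -, ht'⟩ := hTz k t
      refine Set.disjoint_right.1 hUZ ht' ⟨V'.hom (m.left t'), ?_⟩
      have hw : m.left ≫ V'.hom ≫ j = (T k).hom := CategoryTheory.Over.w m.hom
      rw [← hw]
      rfl
    obtain ⟨t, ht⟩ := hf k
    haveI := AddCommGrpCat.subsingleton_of_isZero hP
    rw [← ht, ← NatTrans.naturality_apply, Subsingleton.elim (P.map (g k).op t) 0, map_zero]

end Groth.Agent.ProEtWC
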