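import Mathlib
import Groth.Agent.ProEtWC.Coprod
import Groth.Agent.S0679

/-!
# Exactness of pushforward on small pro-étale sites
-/

set_option autoImplicit false
set_option linter.all false
set_option backward.isDefEq.respectTransparency.types false
set_option backward.isDefEq.respectTransparency false
set_option synthInstance.maxHeartbeats 400000
set_option maxHeartbeats 1000000

universe u

open CategoryTheory Limits AlgebraicGeometry Opposite MorphismProperty

namespace Groth.Agent.ProEtWC

variable {X Z : Scheme.{u}}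

/-- Epimorphisms of abelian sheaves may be tested on affine weakly contractible objects. -/
theorem isLocallySurjective_of_wc {F G : ProEtS.AbP X} (φ : F ⟶ G)
    (h : ∀ (V : X.ProEt), IsAffine V.left → EtPBC.IsWContractible Γ(V.left, ⊤) →
      Function.Surjective (φ.hom.app (op V))) : Sheaf.IsLocallySurjective φ := by
  refine ⟨fun {U} s => ?_⟩
  obtain ⟨ι, V, g, hcov, hV⟩ := exists_cover_by_affine_wContractible U
  refine (Scheme.ProEt.topology X).superset_covering ?_ hcov
  rintro T f ⟨_, c, _, ⟨i⟩, rfl⟩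
  refine (Presheaf.imageSieve φ.hom s).downward_closed ?_ c
  exact h (V i) (hV i).1 (hV i).2 _

/-- An epimorphism of abelian sheaves is surjective on affine weakly contractible objects. -/
theorem surjective_of_wc {F G : ProEtS.AbP X} (φ : F ⟶ G) [Epi φ] (V : X.ProEt)
    (hV : ProEtS.IsWC V) : Function.Surjective (φ.hom.app (op V)) := by
  haveI : Sheaf.IsLocallySurjective φ := (Sheaf.isLocallySurjective_iff_epi' (J := Scheme.ProEt.topology X) AddCommGrpCat.{u + 1} φ).2 ‹Epi φ›
  let ψ := (sheafCompose (Scheme.ProEt.topology X) (CategoryTheory.forget AddCommGrpCat.{u + 1})).map φ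
  haveI : Sheaf.IsLocallySurjective ψ := inferInstance
  exact hV _ _ ψ ((Sheaf.isLocallySurjective_iff_epi' (J := Scheme.ProEt.topology X) (Type (u + 1)) ψ).1 ‹_›)

/-- Pushforward is exact as soon as base change preserves affine weakly contractible objects. -/
theorem pushP_exact (f : Z ⟶ X) [ProEtS.PCont f]
    (h : ∀ (V : X.ProEt), IsAffine V.left → EtPBC.IsWContractible Γ(V.left, ⊤) →
      ProEtS.IsWC ((ProEtS.bcP f).obj V)) :
    PreservesFiniteLimits (ProEtS.pushP f) ∧ PreservesFiniteColimits (ProEtS.pushP f) := by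
  haveI : (ProEtS.pushP f).IsRightAdjoint := (ProEtS.pullPushAdjP f).isRightAdjoint
  haveI : PreservesFiniteLimits (ProEtS.pushP f) := inferInstance
  haveI : (ProEtS.pushP f).PreservesEpimorphisms := ⟨fun {F G} φ _ => by
    haveI : Sheaf.IsLocallySurjective ((ProEtS.pushP f).map φ) :=
      isLocallySurjective_of_wc _ fun V hV hwc => surjective_of_wc φ _ (h V hV hwc)
    exact (Sheaf.isLocallySurjective_iff_epi' (J := Scheme.ProEt.topology X) AddCommGrpCat.{u + 1} _).1 ‹_›⟩
  refine ⟨inferInstance, ?_⟩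
  have h1 : ∀ (S : ShortComplex (ProEtS.AbP Z)), S.ShortExact → (S.map (ProEtS.pushP f)).Exact ∧
      Mono ((ProEtS.pushP f).map S.f) :=
    (List.TFAE.out (ProEtS.pushP f).preservesFiniteLimits_tfae 3 0).1 ‹PreservesFiniteLimits (ProEtS.pushP f)›
  have h2 : ∀ (S : ShortComplex (ProEtS.AbP Z)), S.ShortExact → (S.map (ProEtS.pushP f)).Exact ∧
      Epi ((ProEtS.pushP f).map S.g) := fun S hS =>
    ⟨(h1 S hS).1, haveI := hS.epi_g; (ProEtS.pushP f).map_epi S.g⟩
  exact ((ProEtS.pushP f).preservesFiniteColimits_tfae.out 0 3).1 h2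

theorem isWC_bcP_of_finite (f : Z ⟶ X) [IsFinite f] [LocallyOfFinitePresentation f] (V : X.ProEt)
    (hV : IsAffine V.left) (hwc : EtPBC.IsWContractible Γ(V.left, ⊤)) :
    ProEtS.IsWC ((ProEtS.bcP f).obj V) := by
  haveI := hV
  let p : ((ProEtS.bcP f).obj V).left ⟶ V.left := pullback.fst V.hom f
  haveI : IsFinite p := inferInstanceAs (IsFinite (pullback.fst V.hom f))
  haveI : LocallyOfFinitePresentation p := inferInstanceAs (LocallyOfFinitePresentation (pullback.fst V.hom f))
  haveI : IsAffine ((ProEtS.bcP f).obj V).left := isAffine_of_isAffineHom p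
  letI := p.appTop.hom.toAlgebra
  haveI : Module.Finite Γ(V.left, ⊤) Γ(((ProEtS.bcP f).obj V).left, ⊤) :=
    ((HasAffineProperty.iff_of_isAffine (P := @IsFinite)).1 ‹IsFinite p›).2
  haveI : Algebra.FinitePresentation Γ(V.left, ⊤) Γ(((ProEtS.bcP f).obj V).left, ⊤) :=
    (HasRingHomProperty.iff_of_isAffine (P := @LocallyOfFinitePresentation)).1 ‹LocallyOfFinitePresentation p›
  exact (wContractible_iff_isWC _).1 (S0679.result Γ(V.left, ⊤) _ hwc)

theorem pushP_exact_of_finite (f : Z ⟶ X) [IsFinite f] [LocallyOfFinitePresentation f] [ProEtS.PCont f] :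
    PreservesFiniteLimits (ProEtS.pushP f) ∧ PreservesFiniteColimits (ProEtS.pushP f) :=
  pushP_exact f fun V hV hwc => isWC_bcP_of_finite f V hV hwc

end Groth.Agent.ProEtWC
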