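import Mathlib
import Groth.Agent.ProEtWC.ExtZero
import Groth.Agent.ProEtWC.Push

/-!
# Extension by zero along a quasi-compact open immersion commutes with limits
-/

set_option autoImplicit false
set_option linter.all false
set_option backward.isDefEq.respectTransparency.types false
set_option backward.isDefEq.respectTransparency false
set_option synthInstance.maxHeartbeats 400000
set_option maxHeartbeats 1000000

universe u

open CategoryTheory Limits AlgebraicGeometry Opposite MorphismProperty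

namespace Groth.Agent.ProEtWC

variable {X U : Scheme.{u}}

/-- Isomorphisms of sheaves may be tested on affine weakly contractible objects. -/
theorem isIso_of_wc {F G : ProEtS.AbP X} (φ : F ⟶ G)
    (h : ∀ (V : X.ProEt), IsAffine V.left → EtPBC.IsWContractible Γ(V.left, ⊤) →
      Function.Bijective (φ.hom.app (op V))) : IsIso φ := by
  haveI : Sheaf.IsLocallySurjective φ := isLocallySurjective_of_wc φ fun V hV hwc => (h V hV hwc).2
  haveI : Sheaf.IsLocallyInjective φ := ⟨fun {W} x y hxy => by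
    obtain ⟨ι, V, g, hcov, hV⟩ := exists_cover_by_affine_wContractible W.unop
    refine (Scheme.ProEt.topology X).superset_covering ?_ hcov
    rintro T f ⟨_, c, _, ⟨i⟩, rfl⟩
    refine (Presheaf.equalizerSieve x y).downward_closed ?_ c
    apply (h (V i) (hV i).1 (hV i).2).1
    show φ.hom.app _ (F.obj.map (g i).op x) = φ.hom.app _ (F.obj.map (g i).op y)
    erw [NatTrans.naturality_apply, NatTrans.naturality_apply]
    exact congrArg _ hxy⟩
  haveI : Epi φ := (Sheaf.isLocallySurjective_iff_epi' (J := Scheme.ProEt.topology X) AddCommGrpCat.{u + 1} φ).1 ‹_›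
  haveI : Mono φ := Sheaf.mono_of_injective φ ((Sheaf.isLocallyInjective_iff_injective φ).1 ‹_›)
  exact isIso_of_mono_of_epi φ

variable (j : U ⟶ X) [IsOpenImmersion j]

instance compP_faithful : (ProEtS.compP j).Faithful :=
  ⟨fun {A B} {a b} h => (Scheme.ProEt.forget U ⋙ CategoryTheory.Over.forget U).map_injective
    (congrArg (fun φ => φ.left) h :)⟩

instance compP_full : (ProEtS.compP j).Full :=
  ⟨fun {A B} m => ⟨MorphismProperty.Over.homMk m.left ((cancel_mono j).1 (by
    rw [Category.assoc]; exact CategoryTheory.Over.w m.hom)) trivial,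
    (Scheme.ProEt.forget X ⋙ CategoryTheory.Over.forget X).map_injective rfl⟩⟩

instance compP_cocontinuous :
    (ProEtS.compP j).IsCocontinuous (Scheme.ProEt.topology U) (Scheme.ProEt.topology X) := by
  refine ⟨fun {A S} hS => ?_⟩
  obtain ⟨ι, V, g, hcov, hV⟩ := exists_cover_by_affine_wContractible A
  refine (Scheme.ProEt.topology U).transitive hcov _ ?_
  rintro T f ⟨_, c, _, ⟨i⟩, rfl⟩
  rw [Sieve.pullback_comp]
  refine (Scheme.ProEt.topology U).pullback_stable c ?_
  rw [← Sieve.functorPullback_pullback]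
  haveI : IsAffine ((ProEtS.compP j).obj (V i)).left := (hV i).1
  haveI : IsAffine (V i).left := (hV i).1
  have hS' := (Scheme.ProEt.topology X).pullback_stable ((ProEtS.compP j).map (g i)) hS
  have hfin := Et18.saturate_hasFiniteAffine hS' ((ProEtS.compP j).obj (V i)) (𝟙 _) ‹_›
  rw [Sieve.pullback_id] at hfin
  obtain ⟨n, P, p, hP, hp, hPcov⟩ := hfin
  haveI : ∀ k, WeaklyEtale ((p k).left ≫ (V i).hom) := fun k => by
    haveI := weaklyEtale_left (p k)
    haveI : WeaklyEtale (p k).left := weaklyEtale_left (p k)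
    infer_instance
  let Q : Fin n → U.ProEt := fun k => Scheme.ProEt.mk ((p k).left ≫ (V i).hom)
  let q : ∀ k, Q k ⟶ V i := fun k => MorphismProperty.Over.homMk (p k).left rfl trivial
  haveI : ∀ k, IsAffine (Q k).left := hP
  refine (Scheme.ProEt.topology U).superset_covering ?_ (Et18.mem_topology_of_finite Q q fun x => ?_)
  · rintro T' f' ⟨_, d, _, ⟨k⟩, rfl⟩
    refine (Sieve.functorPullback _ _).downward_closed ?_ d
    let m : (ProEtS.compP j).obj (Q k) ⟶ P k := MorphismProperty.Over.homMk (𝟙 (P k).left) (by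
      show 𝟙 _ ≫ (P k).hom = ((p k).left ≫ (V i).hom) ≫ j
      rw [Category.id_comp, Category.assoc]
      exact (CategoryTheory.Over.w (p k).hom).symm) trivial
    have : (ProEtS.compP j).map (q k) = m ≫ p k :=
      (Scheme.ProEt.forget X ⋙ CategoryTheory.Over.forget X).map_injective (Category.id_comp _).symm
    show Sieve.pullback _ _ ((ProEtS.compP j).map (q k))
    rw [this]
    exact Sieve.downward_closed _ (hp k) m
  · obtain ⟨P', h, ⟨P'', d, e, ⟨k⟩, rfl⟩, w, hw⟩ := exists_mem_of_covering hPcov (show ((ProEtS.compP j).obj (V i)).left from x)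
    exact ⟨k, d.left w, hw⟩

/-- Restriction after extension by zero along an open immersion is the identity. -/
noncomputable def restrExtZeroIso [ProEtS.JPCont j] :
    ProEtS.extZeroP j ⋙ ProEtS.restrP j ≅ 𝟭 (ProEtS.AbP U) :=
  let G := ProEtS.compP j
  let J := Scheme.ProEt.topology U
  let K := Scheme.ProEt.topology X
  let A := AddCommGrpCat.{u + 1}
  Functor.isoWhiskerRight (Functor.sheafPullbackConstruction.sheafPullbackIso G A J K) _ ≪≫
    Functor.associator _ _ _ ≪≫
    Functor.isoWhiskerLeft (sheafToPresheaf J A) (Functor.associator _ _ _ ≪≫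
      Functor.isoWhiskerLeft G.op.lan (G.pushforwardContinuousSheafificationCompatibility A J K).symm ≪≫
      (Functor.associator _ _ _).symm ≪≫
      Functor.isoWhiskerRight (asIso G.op.lanUnit).symm _ ≪≫
      Functor.leftUnitor _) ≪≫
    asIso (sheafificationAdjunction J A).counit

theorem exists_clopen_split [QuasiCompact j] (V : X.ProEt) [IsAffine V.left]
    (hwc : EtPBC.IsWContractible Γ(V.left, ⊤)) :
    ∃ W W' : V.left.Opens, IsClopen (W : Set V.left) ∧ IsClopen (W' : Set V.left) ∧
      (W' : Set V.left) = (W : Set V.left)ᶜ ∧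
      (∀ y ∈ W, V.hom y ∈ Set.range j.base) ∧
      ∀ y ∈ W', ∃ z ∈ W', V.hom z ∈ (Set.range j.base)ᶜ ∧ y ⤳ z := by
  obtain ⟨hl, -, -⟩ := HenselLib.WCtr.isWContractible_iff.1 hwc
  let e := V.left.isoSpec
  let O : V.left.Opens := V.hom ⁻¹ᵁ j.opensRange
  have hOc : IsCompact (O : Set V.left) := by
    have hrange : Set.range (pullback.fst V.hom j).base = V.hom.base ⁻¹' Set.range j.base :=
      Scheme.Pullback.range_fst V.hom j
    show IsCompact (V.hom.base ⁻¹' Set.range j.base)
    rw [← hrange, ← Set.image_univ]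
    haveI : CompactSpace ↥((𝟭 Scheme).obj V.left) := inferInstanceAs (CompactSpace V.left)
    haveI : CompactSpace (pullback V.hom j : Scheme.{u}) :=
      QuasiCompact.compactSpace_of_compactSpace (pullback.fst V.hom j)
    exact isCompact_univ.image (pullback.fst V.hom j).continuous
  let O' : Set (PrimeSpectrum Γ(V.left, ⊤)) := e.inv ⁻¹' (O : Set V.left)
  have hO'o : IsOpen O' := O.isOpen.preimage e.inv.continuous
  have hO'c : IsCompact O' := by
    have : O' = e.hom '' (O : Set V.left) := by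
      ext x
      refine ⟨fun hx => ⟨e.inv x, hx, ?_⟩, ?_⟩
      · rw [← Scheme.Hom.comp_apply, Iso.inv_hom_id]; rfl
      · rintro ⟨y, hy, rfl⟩
        show e.inv (e.hom y) ∈ O
        rw [← Scheme.Hom.comp_apply, Iso.hom_inv_id]
        exact hy
    rw [this]
    exact hOc.image e.hom.continuous
  haveI := HenselLib.WLoc.t2Space_CP hl
  let D : Set (HenselLib.WLoc.CP Γ(V.left, ⊤)) := Subtype.val ⁻¹' O'
  have hcemb : Topology.IsClosedEmbedding (Subtype.val : HenselLib.WLoc.CP Γ(V.left, ⊤) → _) :=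
    IsClosed.isClosedEmbedding_subtypeVal hl.2.1
  have hD : IsClopen D :=
    ⟨(hcemb.isCompact_preimage hO'c).isClosed, hO'o.preimage continuous_subtype_val⟩
  let h := HenselLib.WCtr.cpHomeo hl
  let W₀ : Set (PrimeSpectrum Γ(V.left, ⊤)) := (ConnectedComponents.mk) ⁻¹' (h '' D)
  have hW₀ : IsClopen W₀ :=
    ⟨(h.isClosed_image.2 hD.1).preimage ConnectedComponents.continuous_coe,
      (h.isOpen_image.2 hD.2).preimage ConnectedComponents.continuous_coe⟩
  have hcl : ∀ y : PrimeSpectrum Γ(V.left, ⊤), ∃ c : HenselLib.WLoc.CP Γ(V.left, ⊤),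
      y ⤳ c.1 ∧ ConnectedComponents.mk y = h c := fun y => by
    obtain ⟨c, ⟨hc, hyc⟩, -⟩ := hl.2.2 y
    exact ⟨⟨c, hc⟩, hyc, (ConnectedComponents.coe_eq_coe'.2
      (hyc.mem_closed isClosed_connectedComponent mem_connectedComponent)).symm⟩
  have hin : ∀ y, y ∈ W₀ → y ∈ O' := by
    rintro y ⟨d, hd, hdy⟩
    obtain ⟨c, hyc, hcy⟩ := hcl y
    obtain rfl : d = c := h.injective (hdy.trans hcy)
    exact hyc.mem_open hO'o hd
  have hout : ∀ y, y ∉ W₀ → ∃ c, y ⤳ c ∧ c ∉ W₀ ∧ c ∉ O' := by
    intro y hy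
    obtain ⟨c, hyc, hcy⟩ := hcl y
    refine ⟨c.1, hyc, fun hc => hy ?_, fun hc => hy ⟨c, hc, hcy.symm⟩⟩
    exact hyc.mem_open hW₀.2 hc
  refine ⟨⟨e.hom ⁻¹' W₀, hW₀.2.preimage e.hom.continuous⟩,
    ⟨(e.hom ⁻¹' W₀)ᶜ, (hW₀.1.preimage e.hom.continuous).isOpen_compl⟩,
    hW₀.preimage e.hom.continuous, (hW₀.preimage e.hom.continuous).compl, rfl, fun y hy => ?_, fun y hy => ?_⟩
  · have := hin _ hy
    show y ∈ O
    have h2 : e.inv (e.hom y) = y := by rw [← Scheme.Hom.comp_apply, Iso.hom_inv_id]; rfl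
    exact h2 ▸ this
  · obtain ⟨c, hc1, hc2, hc3⟩ := hout _ hy
    have h2 : e.inv (e.hom y) = y := by rw [← Scheme.Hom.comp_apply, Iso.hom_inv_id]; rfl
    have h3 : e.hom (e.inv c) = c := by rw [← Scheme.Hom.comp_apply, Iso.inv_hom_id]; rfl
    refine ⟨e.inv c, ?_, hc3, h2 ▸ hc1.map e.inv.continuous⟩
    show e.hom (e.inv c) ∉ W₀
    rw [h3]
    exact hc2

variable [QuasiCompact j] [ProEtS.JPCont j]

/-- Sections of an extension by zero on an affine weakly contractible object. -/
theorem exists_sections_iso (V : X.ProEt) [IsAffine V.left]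
    (hwc : EtPBC.IsWContractible Γ(V.left, ⊤)) :
    ∃ (A : U.ProEt), Nonempty
      (ProEtS.extZeroP j ⋙ sheafToPresheaf _ _ ⋙ (evaluation _ _).obj (op V) ≅
        sheafToPresheaf _ _ ⋙ (evaluation _ _).obj (op A)) := by
  obtain ⟨W, W', hW, hW', hcompl, hWU, hWZ⟩ := exists_clopen_split j V hwc
  have hrange : Set.range (W.ι ≫ V.hom) ⊆ Set.range j.base := by
    rintro _ ⟨y, rfl⟩
    exact hWU y.1 y.2
  let a : W.toScheme ⟶ U := IsOpenImmersion.lift j (W.ι ≫ V.hom) hrange
  have ha : a ≫ j = W.ι ≫ V.hom := IsOpenImmersion.lift_fac _ _ _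
  haveI : WeaklyEtale a := MorphismProperty.of_postcomp (W := @WeaklyEtale) (W' := @WeaklyEtale) a j
    (inferInstanceAs (WeaklyEtale j)) (by show WeaklyEtale (a ≫ j); rw [ha]; infer_instance)
  let A : U.ProEt := Scheme.ProEt.mk a
  let g : (ProEtS.compP j).obj A ⟶ V := MorphismProperty.Over.homMk W.ι ha.symm trivial
  let τ : ProEtS.extZeroP j ⋙ sheafToPresheaf _ _ ⋙ (evaluation _ _).obj (op V) ⟶
      (ProEtS.extZeroP j ⋙ ProEtS.restrP j) ⋙ sheafToPresheaf _ _ ⋙ (evaluation _ _).obj (op A) :=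
    { app := fun F => ((ProEtS.extZeroP j).obj F).obj.map g.op
      naturality := fun F G φ => (((ProEtS.extZeroP j).map φ).hom.naturality g.op).symm }
  haveI : ∀ F, IsIso (τ.app F) := fun F => by
    rw [ConcreteCategory.isIso_iff_bijective]
    let S := (ProEtS.extZeroP j).obj F
    let S' := (sheafCompose (Scheme.ProEt.topology X) (CategoryTheory.forget AddCommGrpCat.{u + 1})).obj S
    haveI : IsAffine W'.toScheme := by
      have : IsClosedImmersion W'.ι := IsClosedImmersion.of_isPreimmersion _ (by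
        rw [W'.range_ι]; exact hW'.1)
      exact isAffine_of_isAffineHom W'.ι
    haveI : IsAffine (openObj V W').left := inferInstanceAs (IsAffine W'.toScheme)
    haveI : Subsingleton (ProEtS.sectP S (openObj V W')) := by
      refine extZero_subsingleton j _ j.opensRange.isOpen.isClosed_compl disjoint_compl_right (openObj V W') ?_ F
      intro v
      obtain ⟨z, hz, hzU, hvz⟩ := hWZ v.1 v.2
      exact ⟨⟨z, hz⟩, hzU, (subtype_specializes_iff _ _).2 hvz⟩
    let P : Fin 2 → X.ProEt := ![(ProEtS.compP j).obj A, openObj V W']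
    let p : ∀ k, P k ⟶ V := Fin.cons g (Fin.cons (openIncl V W') finZeroElim)
    haveI : ∀ k, IsOpenImmersion (p k).left := Fin.forall_fin_two.2
      ⟨inferInstanceAs (IsOpenImmersion W.ι), inferInstanceAs (IsOpenImmersion W'.ι)⟩
    have hc : ∀ x : V.left, ∃ k, x ∈ Set.range (p k).left := fun x => by
      by_cases hx : x ∈ W
      · exact ⟨0, ⟨x, hx⟩, rfl⟩
      · exact ⟨1, ⟨x, hcompl.symm.le hx⟩, rfl⟩
    have h01 : Disjoint (Set.range (p 0).left) (Set.range (p 1).left) := by
      refine Set.disjoint_left.2 ?_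
      rintro _ ⟨y, rfl⟩ ⟨z, hz⟩
      exact (hcompl.le z.2 : z.1 ∉ (W : Set V.left)) ((show z.1 = y.1 from hz) ▸ y.2)
    have hd : Pairwise fun k l => Disjoint (Set.range (p k).left) (Set.range (p l).left) := by
      intro k l hkl
      fin_cases k <;> fin_cases l
      · exact absurd rfl hkl
      · exact h01
      · exact h01.symm
      · exact absurd rfl hkl
    refine ⟨fun x y hxy => (isSheafFor_disjoint P p hc S').isSeparatedFor.ext ?_, fun t => ?_⟩
    · rintro _ _ ⟨k⟩
      fin_cases k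
      · exact hxy
      · exact @Subsingleton.elim (ProEtS.sectP S (openObj V W')) _ _ _
    · obtain ⟨x, hx⟩ := exists_glue P p hc hd S' (Fin.cons t (Fin.cons (0 : ProEtS.sectP S (openObj V W')) finZeroElim))
      exact ⟨x, hx 0⟩
  haveI : IsIso τ := NatIso.isIso_of_isIso_app τ
  exact ⟨A, ⟨asIso τ ≪≫ Functor.isoWhiskerRight (restrExtZeroIso j) _ ≪≫ Functor.leftUnitor _⟩⟩

theorem extZeroP_preservesLimits (K : Type u) [SmallCategory K] :
    PreservesLimitsOfShape K (ProEtS.extZeroP j) := by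
  refine ⟨fun {D} => ⟨fun {c} hc => ⟨?_⟩⟩⟩
  haveI : PreservesLimitsOfShape K (sheafToPresheaf (Scheme.ProEt.topology X) AddCommGrpCat.{u + 1}) := inferInstance
  let t := limit.lift (D ⋙ ProEtS.extZeroP j) ((ProEtS.extZeroP j).mapCone c)
  suffices IsIso t from IsLimit.ofPointIso (limit.isLimit _) (i := this)
  refine isIso_of_wc _ fun V hV hwc => ?_
  haveI := hV
  obtain ⟨A, ⟨e⟩⟩ := exists_sections_iso j V hwc
  let ev := sheafToPresheaf (Scheme.ProEt.topology X) AddCommGrpCat.{u + 1} ⋙ (evaluation _ _).obj (op V)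
  haveI : PreservesLimit D (ProEtS.extZeroP j ⋙ ev) := preservesLimit_of_natIso D e.symm
  have h1 : IsLimit (ev.mapCone ((ProEtS.extZeroP j).mapCone c)) :=
    isLimitOfPreserves (ProEtS.extZeroP j ⋙ ev) hc
  have h2 : IsLimit (ev.mapCone (limit.cone (D ⋙ ProEtS.extZeroP j))) :=
    isLimitOfPreserves ev (limit.isLimit _)
  have h3 : ev.map t = (h1.conePointUniqueUpToIso h2).hom := h2.hom_ext fun k => by
    rw [h1.conePointUniqueUpToIso_hom_comp h2]
    show ev.map t ≫ ev.map (limit.π _ k) = ev.map _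
    rw [← ev.map_comp, limit.lift_π]
  have h4 : IsIso (ev.map t) := by rw [h3]; infer_instance
  exact (ConcreteCategory.isIso_iff_bijective _).1 h4

end Groth.Agent.ProEtWC
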