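import Mathlib
import Groth.Agent.ProEtWC.Push

/-!
# Closed subschemes with retrocompact complement of w-contractible affines
-/

set_option autoImplicit false
set_option linter.all false
set_option backward.isDefEq.respectTransparency.types false
set_option backward.isDefEq.respectTransparency false
set_option synthInstance.maxHeartbeats 400000
set_option maxHeartbeats 1000000

universe u

open CategoryTheory Limits AlgebraicGeometry Opposite MorphismProperty

namespace Groth.Agent.ProEtWC

theorem henselianLocalRing_of_surjective {R S : Type u} [CommRing R] [CommRing S] [IsLocalRing S]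
    [HenselianLocalRing R] (π : R →+* S) (hπ : Function.Surjective π) : HenselianLocalRing S := by
  haveI := IsLocalHom.of_surjective π hπ
  refine ⟨fun f hf a₀ h1 h2 => ?_⟩
  obtain ⟨F, hF, -, hFm⟩ := Polynomial.lifts_and_natDegree_eq_and_monic
    ((Polynomial.mem_lifts f).2 (Polynomial.map_surjective π hπ f)) hf
  obtain ⟨b₀, rfl⟩ := hπ a₀
  have e1 : π (F.eval b₀) = f.eval (π b₀) := by rw [← hF, Polynomial.eval_map_apply]
  have e2 : π (F.derivative.eval b₀) = f.derivative.eval (π b₀) := by
    rw [← hF, Polynomial.derivative_map, Polynomial.eval_map_apply]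
  obtain ⟨b, hb, hbm⟩ := HenselianLocalRing.is_henselian F hFm b₀
    (fun hu => h1 (e1 ▸ hu.map π)) (IsUnit.of_map π _ (e2 ▸ h2))
  refine ⟨π b, ?_, ?_⟩
  · rw [Polynomial.IsRoot, ← hF, Polynomial.eval_map_apply, hb.eq_zero, map_zero]
  · rw [← map_sub, IsLocalRing.mem_maximalIdeal, mem_nonunits_iff]
    exact fun hu => hbm (IsUnit.of_map π _ hu)

/-- A quotient with the same spectrum of a w-contractible ring is w-contractible. -/
theorem wContractible_of_surjective {B B' : Type u} [CommRing B] [CommRing B'] (π : B →+* B')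
    (hπ : Function.Surjective π) (hbij : Function.Surjective (PrimeSpectrum.comap π))
    (h : EtPBC.IsWContractible B) : EtPBC.IsWContractible B' := by
  obtain ⟨hl, hext, hsh⟩ := HenselLib.WCtr.isWContractible_iff.1 h
  letI := π.toAlgebra
  have he : Topology.IsClosedEmbedding (PrimeSpectrum.comap (algebraMap B B')) :=
    PrimeSpectrum.isClosedEmbedding_comap_of_surjective _ π hπ
  let e : PrimeSpectrum B' ≃ₜ PrimeSpectrum B := he.isEmbedding.toHomeomorphOfSurjective hbij
  let c : _root_.ConnectedComponents (PrimeSpectrum B) ≃ₜ _root_.ConnectedComponents (PrimeSpectrum B') :=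
    { toFun := e.symm.continuous.connectedComponentsMap
      invFun := e.continuous.connectedComponentsMap
      left_inv := fun x => by
        obtain ⟨x, rfl⟩ := ConnectedComponents.surjective_coe x
        exact congrArg ConnectedComponents.mk (e.apply_symm_apply x)
      right_inv := fun x => by
        obtain ⟨x, rfl⟩ := ConnectedComponents.surjective_coe x
        exact congrArg ConnectedComponents.mk (e.symm_apply_apply x)
      continuous_toFun := e.symm.continuous.connectedComponentsMap_continuous
      continuous_invFun := e.continuous.connectedComponentsMap_continuous }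
  haveI := hext
  refine HenselLib.WCtr.isWContractible_iff.2 ⟨(HenselLib.WCtr.isWLocal_of_closedEmbedding hl he).1,
    HenselLib.WCtr.extremallyDisconnected_homeo c, fun m hm => ?_⟩
  haveI : (m.comap π).IsMaximal := Ideal.comap_isMaximal_of_surjective π hπ
  obtain ⟨hh, hs⟩ := hsh (m.comap π)
  haveI := hh
  let g := Localization.localRingHom (m.comap π) m π rfl
  have hg : Function.Surjective g := RingHom.surjectiveOnStalks_of_surjective hπ m inferInstance
  refine ⟨henselianLocalRing_of_surjective g hg, ?_⟩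
  haveI := hs
  haveI := IsLocalHom.of_surjective g hg
  let e' : IsLocalRing.ResidueField (Localization.AtPrime (m.comap π)) ≃+*
      IsLocalRing.ResidueField (Localization.AtPrime m) :=
    RingEquiv.ofBijective (IsLocalRing.ResidueField.map g) ⟨RingHom.injective _, fun x => by
      obtain ⟨y, rfl⟩ := IsLocalRing.residue_surjective x
      obtain ⟨z, rfl⟩ := hg y
      exact ⟨IsLocalRing.residue _ z, rfl⟩⟩
  letI : Algebra (IsLocalRing.ResidueField (Localization.AtPrime (m.comap π)))
      (IsLocalRing.ResidueField (Localization.AtPrime m)) := e'.toRingHom.toAlgebra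
  haveI : Algebra.IsAlgebraic (IsLocalRing.ResidueField (Localization.AtPrime (m.comap π)))
      (IsLocalRing.ResidueField (Localization.AtPrime m)) :=
    ⟨fun x => e'.apply_symm_apply x ▸ isAlgebraic_algebraMap (e'.symm x)⟩
  exact Algebra.IsAlgebraic.isSepClosed (F := IsLocalRing.ResidueField (Localization.AtPrime (m.comap π)))

/-- A quotient of a w-contractible ring by an ideal with quasi-compact open complement is w-contractible. -/
theorem wContractible_quotient {A : Type u} [CommRing A] (h : EtPBC.IsWContractible A) (I : Ideal A)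
    (hI : IsCompact (PrimeSpectrum.zeroLocus (I : Set A))ᶜ) : EtPBC.IsWContractible (A ⧸ I) := by
  classical
  obtain ⟨t, ht⟩ := hI.elim_finite_subcover (fun f : I => (PrimeSpectrum.basicOpen (f : A) : Set (PrimeSpectrum A)))
    (fun f => (PrimeSpectrum.basicOpen (f : A)).isOpen) (fun x hx => by
      obtain ⟨f, hf, hfx⟩ := Set.not_subset.1 (show ¬(I : Set A) ⊆ x.asIdeal from hx)
      exact Set.mem_iUnion.2 ⟨⟨f, hf⟩, hfx⟩)
  let J : Ideal A := Ideal.span ((fun f : I => (f : A)) '' (t : Set I))
  have hJI : J ≤ I := Ideal.span_le.2 (by rintro _ ⟨f, -, rfl⟩; exact f.2)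
  have hz : ∀ x : PrimeSpectrum A, J ≤ x.asIdeal → I ≤ x.asIdeal := fun x hJ => by
    by_contra hx
    obtain ⟨f, hf, hfx⟩ := Set.mem_iUnion₂.1 (ht (show x ∈ (PrimeSpectrum.zeroLocus (I : Set A))ᶜ from hx))
    exact hfx (hJ (Ideal.subset_span ⟨f, hf, rfl⟩))
  have hfg : J.FG := ⟨t.image (fun f : I => (f : A)), by rw [Finset.coe_image]⟩
  haveI : Algebra.FinitePresentation A (A ⧸ J) := Algebra.FinitePresentation.quotient hfg
  haveI : Module.Finite A (A ⧸ J) := inferInstance
  refine wContractible_of_surjective (Ideal.Quotient.factor hJI) (Ideal.Quotient.factor_surjective hJI)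
    (fun q => ?_) (S0679.result A (A ⧸ J) h)
  let x : PrimeSpectrum A := PrimeSpectrum.comap (Ideal.Quotient.mk J) q
  have hxI : I ≤ x.asIdeal := hz x (fun a ha => by
    show Ideal.Quotient.mk J a ∈ q.asIdeal
    rw [Ideal.Quotient.eq_zero_iff_mem.2 ha]
    exact q.asIdeal.zero_mem)
  obtain ⟨q', hq'⟩ : x ∈ Set.range (PrimeSpectrum.comap (Ideal.Quotient.mk I)) := by
    rw [range_comap_of_surjective _ _ Ideal.Quotient.mk_surjective, Ideal.mk_ker]
    exact hxI
  refine ⟨q', ?_⟩
  refine PrimeSpectrum.comap_injective_of_surjective (Ideal.Quotient.mk J) Ideal.Quotient.mk_surjective ?_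
  rw [← PrimeSpectrum.comap_comp_apply, Ideal.Quotient.factor_comp_mk]
  exact hq'

theorem isWC_bcP_of_closedImmersion {X Z : Scheme.{u}} (i : Z ⟶ X) [IsClosedImmersion i]
    (hr : IsRetrocompact (Set.range i.base)ᶜ) (V : X.ProEt)
    (hV : IsAffine V.left) (hwc : EtPBC.IsWContractible Γ(V.left, ⊤)) :
    ProEtS.IsWC ((ProEtS.bcP i).obj V) := by
  haveI := hV
  let p : ((ProEtS.bcP i).obj V).left ⟶ V.left := pullback.fst V.hom i
  haveI : IsClosedImmersion p := inferInstanceAs (IsClosedImmersion (pullback.fst V.hom i))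
  haveI : IsAffine ((ProEtS.bcP i).obj V).left := isAffine_of_isAffineHom p
  have hrange : Set.range p.base = V.hom.base ⁻¹' Set.range i.base := Scheme.Pullback.range_fst V.hom i
  have hc : IsCompact (Set.range p.base)ᶜ := by
    rw [hrange, ← Set.preimage_compl]
    have hclosed : IsClosed (Set.range i.base) := i.isClosedEmbedding.isClosed_range
    have hcov : ∀ x : V.left, ∃ W : X.Opens, IsAffineOpen W ∧ V.hom x ∈ W := fun x => by
      obtain ⟨W, hW, hxW, -⟩ := exists_isAffineOpen_mem_and_subset (X := X) (x := V.hom x) (U := ⊤) trivial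
      exact ⟨W, hW, hxW⟩
    choose W hW hxW using hcov
    have hO : ∀ x : V.left, ∃ O : V.left.Opens, IsAffineOpen O ∧ x ∈ O ∧ O ≤ V.hom ⁻¹ᵁ W x := fun x => by
      obtain ⟨O, hO, hxO, hle⟩ := exists_isAffineOpen_mem_and_subset (X := V.left) (x := x)
        (U := V.hom ⁻¹ᵁ W x) (hxW x)
      exact ⟨O, hO, hxO, hle⟩
    choose O hOa hxO hle using hO
    obtain ⟨t, ht⟩ := isCompact_univ.elim_finite_subcover (fun x => (O x : Set V.left)) (fun x => (O x).isOpen)
      (fun x _ => Set.mem_iUnion.2 ⟨x, hxO x⟩)
    have : V.hom.base ⁻¹' (Set.range i.base)ᶜ =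
        ⋃ x ∈ t, ((O x : Set V.left) ∩ V.hom.base ⁻¹' ((W x : Set X) ∩ (Set.range i.base)ᶜ)) := by
      ext y
      simp only [Set.mem_preimage, Set.mem_iUnion, Set.mem_inter_iff, exists_prop]
      refine ⟨fun hy => ?_, fun ⟨_, _, _, _, h⟩ => h⟩
      obtain ⟨x, hx, hyx⟩ := Set.mem_iUnion₂.1 (ht (Set.mem_univ y))
      exact ⟨x, hx, hyx, hle x hyx, hy⟩
    rw [this]
    refine t.finite_toSet.isCompact_biUnion fun x _ => ?_
    have h1 : IsCompact ((W x : Set X) ∩ (Set.range i.base)ᶜ) := by
      rw [Set.inter_comm]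
      exact hr (hW x).isCompact (W x).isOpen
    let q := V.hom.resLE (W x) (O x) (hle x)
    haveI : IsAffine (W x).toScheme := hW x
    haveI : IsAffine (O x).toScheme := hOa x
    have h2 : IsCompact (q ⁻¹' ((W x).ι ⁻¹' ((W x : Set X) ∩ (Set.range i.base)ᶜ))) :=
      q.isSpectralMap.isCompact_preimage_of_isOpen ((((W x).isOpen.inter hclosed.isOpen_compl)).preimage (W x).ι.continuous)
        ((W x).ι.isOpenEmbedding.isInducing.isCompact_preimage' h1 (fun y hy => ⟨⟨y, hy.1⟩, rfl⟩))
    convert h2.image (O x).ι.continuous using 1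
    ext y
    constructor
    · rintro ⟨hy, hy'⟩
      refine ⟨⟨y, hy⟩, ?_, rfl⟩
      refine Set.mem_preimage.2 (Set.mem_preimage.2 ?_)
      have : (W x).ι (q ⟨y, hy⟩) = V.hom y := by
        rw [← Scheme.Hom.comp_apply, Scheme.Hom.resLE_comp_ι]; rfl
      rw [this]
      exact hy'
    · rintro ⟨z, hz, rfl⟩
      refine ⟨z.2, ?_⟩
      have : (W x).ι (q z) = V.hom ((O x).ι z) := by
        rw [← Scheme.Hom.comp_apply, Scheme.Hom.resLE_comp_ι]; rfl
      show V.hom ((O x).ι z) ∈ ((W x : Set X) ∩ (Set.range i.base)ᶜ)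
      rw [← this]
      exact hz
  obtain ⟨-, hsurj⟩ := (HasAffineProperty.iff_of_isAffine (P := @IsClosedImmersion)).1 ‹IsClosedImmersion p›
  let I := RingHom.ker p.appTop.hom
  have hIc : IsCompact (PrimeSpectrum.zeroLocus (I : Set Γ(V.left, ⊤)))ᶜ := by
    have hr2 : PrimeSpectrum.zeroLocus (I : Set Γ(V.left, ⊤)) = Set.range (Spec.map p.appTop) :=
      (range_comap_of_surjective _ p.appTop.hom hsurj).symm
    have h3 : Set.range (Spec.map p.appTop) = V.left.isoSpec.hom '' Set.range p.base := by
      rw [← Set.range_comp]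
      have hnat := Scheme.isoSpec_hom_naturality p
      have : (V.left.isoSpec.hom ∘ p.base) = (Spec.map p.appTop) ∘ (((ProEtS.bcP i).obj V).left.isoSpec.hom) := by
        funext z
        exact (congrArg (fun φ => φ z) hnat).symm
      rw [this, Set.range_comp]
      rw [show Set.range (((ProEtS.bcP i).obj V).left.isoSpec.hom) = Set.univ from
        Set.range_eq_univ.2 ((ProEtS.bcP i).obj V).left.isoSpec.hom.homeomorph.surjective, Set.image_univ]
    rw [hr2, h3]
    have := hc.image V.left.isoSpec.hom.homeomorph.continuous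
    rw [Set.image_compl_eq V.left.isoSpec.hom.homeomorph.bijective] at this
    exact this
  exact (wContractible_iff_isWC _).1 (wContractible_of_ringEquiv
    (RingHom.quotientKerEquivOfSurjective hsurj) (wContractible_quotient hwc I hIc))

theorem pushP_exact_of_closedImmersion {X Z : Scheme.{u}} (i : Z ⟶ X) [IsClosedImmersion i]
    (hr : IsRetrocompact (Set.range i.base)ᶜ) [ProEtS.PCont i] :
    PreservesFiniteLimits (ProEtS.pushP i) ∧ PreservesFiniteColimits (ProEtS.pushP i) :=
  pushP_exact i fun V hV hwc => isWC_bcP_of_closedImmersion i hr V hV hwc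

end Groth.Agent.ProEtWC
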