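import Mathlib
import Groth.Agent.HenselLib.WEtNoeth
import Groth.Agent.HenselLib.WEtale
import Groth.Prelude.Def_PBC

/-!
# Lifting points of weakly étale algebras over w-contractible rings
-/

set_option autoImplicit false
set_option linter.all false

universe u

open TensorProduct Function

namespace Groth.Agent.ProEtWC

variable {R B : Type u} [CommRing R] [CommRing B] [Algebra R B] [Algebra.WeaklyEtale R B]

/-- Two points of a weakly étale algebra agreeing modulo the Jacobson radical agree. -/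
theorem algHom_ext_of_sub_mem_jacobson {S : Type u} [CommRing S] [Algebra R S] (t t' : B →ₐ[R] S)
    (h : ∀ b, t b - t' b ∈ Ideal.jacobson (⊥ : Ideal S)) : t = t' := by
  letI : Algebra (B ⊗[R] B) B := (Algebra.TensorProduct.lmul' R (S := B)).toRingHom.toAlgebra
  haveI : Module.Flat (B ⊗[R] B) B := Algebra.WeaklyEtale.flat_lmul' R B
  haveI : (KaehlerDifferential.ideal R B).Pure := by
    have hs : Surjective (Algebra.ofId (B ⊗[R] B) B) := fun b => ⟨b ⊗ₜ 1, by
      change Algebra.TensorProduct.lmul' R (b ⊗ₜ[R] (1 : B)) = b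
      simp⟩
    exact Module.Flat.of_linearEquiv (Ideal.quotientKerAlgEquivOfSurjective hs).toLinearEquiv
  refine AlgHom.ext fun b => ?_
  obtain ⟨e, he, hbe⟩ := Ideal.exists_eq_mul_of_pure (I := KaehlerDifferential.ideal R B)
    (x := (1 : B) ⊗ₜ[R] b - b ⊗ₜ[R] 1) (KaehlerDifferential.one_smul_sub_smul_one_mem_ideal R b)
  let Φ : B ⊗[R] B →ₐ[R] S := Algebra.TensorProduct.lift t t' fun _ _ => Commute.all _ _
  have he' : Φ e ∈ Ideal.jacobson (⊥ : Ideal S) := by
    have hle : KaehlerDifferential.ideal R B ≤ (Ideal.jacobson (⊥ : Ideal S)).comap Φ.toRingHom := by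
      rw [← KaehlerDifferential.span_range_eq_ideal, Ideal.span_le]
      rintro _ ⟨c, rfl⟩
      show Φ ((1 : B) ⊗ₜ[R] c - c ⊗ₜ[R] 1) ∈ Ideal.jacobson (⊥ : Ideal S)
      have : Φ ((1 : B) ⊗ₜ[R] c - c ⊗ₜ[R] 1) = t' c - t c := by simp [Φ]
      rw [this, ← neg_sub]
      exact neg_mem (h c)
    exact hle he
  have hu : IsUnit (1 - Φ e) := by
    have := Ideal.mem_jacobson_bot.1 he' (-1)
    simpa [add_comm, sub_eq_add_neg] using this
  have hd : (t' b - t b) * (1 - Φ e) = 0 := by
    have h1 := congrArg Φ hbe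
    simp [Φ] at h1
    linear_combination h1
  exact (sub_eq_zero.1 (hu.mul_left_eq_zero.1 hd)).symm

/-- Over a w-contractible ring, points of a weakly étale algebra modulo an ideal in the Jacobson
radical lift. -/
theorem exists_lift_of_wContractible (hR : EtPBC.IsWContractible R) (I : Ideal R)
    (hI : I ≤ Ideal.jacobson ⊥) (φ : B →ₐ[R] R ⧸ I) :
    ∃ t : B →ₐ[R] R, (Ideal.Quotient.mkₐ R I).comp t = φ := by
  let S : Submonoid B := Submonoid.comap φ.toRingHom.toMonoidHom (⊥ : Submonoid (R ⧸ I))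
  let C := Localization S
  haveI : Algebra.WeaklyEtale B C := HenselLib.WEtNoeth.weaklyEtale_of_isLocalization S
  haveI : Algebra.WeaklyEtale R C := Algebra.WeaklyEtale.trans R B C
  have hu : ∀ s : S, IsUnit (φ s) := fun s => by
    rw [show φ s = 1 from s.2]; exact isUnit_one
  let φC : C →ₐ[R] R ⧸ I := IsLocalization.liftAlgHom (M := S) (f := φ) hu
  haveI : Module.FaithfullyFlat R C := by
    refine { submodule_ne_top := ?_ }
    intro m hm htop
    have hIm : I ≤ m := hI.trans (sInf_le ⟨bot_le, hm⟩)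
    rw [Ideal.smul_top_eq_map, Submodule.restrictScalars_eq_top_iff] at htop
    have hle : (m.map (algebraMap R C)).map φC.toRingHom ≤ m.map (Ideal.Quotient.mk I) := by
      rw [Ideal.map_map, show φC.toRingHom.comp (algebraMap R C) = Ideal.Quotient.mk I from φC.comp_algebraMap]
    rw [htop, Ideal.map_top, top_le_iff] at hle
    refine hm.ne_top ?_
    have := congrArg (Ideal.comap (Ideal.Quotient.mk I)) hle
    rw [Ideal.comap_map_of_surjective _ Ideal.Quotient.mk_surjective, Ideal.comap_top, ← RingHom.ker_eq_comap_bot,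
      Ideal.mk_ker, sup_eq_left.2 hIm] at this
    exact this
  obtain ⟨t₀⟩ := hR C inferInstance inferInstance
  let t : B →ₐ[R] R := t₀.comp (IsScalarTower.toAlgHom R B C)
  refine ⟨t, ?_⟩
  let ψ := (Ideal.Quotient.mkₐ R I).comp t
  have hψu : ∀ k, φ k = 0 → ψ k ∈ Ideal.jacobson (⊥ : Ideal (R ⧸ I)) := by
    intro k hk
    rw [Ideal.mem_jacobson_bot]
    intro y
    obtain ⟨r, rfl⟩ := Ideal.Quotient.mk_surjective y
    have hmem : k * algebraMap R B r + 1 ∈ S := by
      show φ (k * algebraMap R B r + 1) = 1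
      rw [map_add, map_mul, hk, zero_mul, zero_add, map_one]
    have h1 : IsUnit (ψ (k * algebraMap R B r + 1)) :=
      ((IsLocalization.map_units C (⟨_, hmem⟩ : S)).map t₀).map (Ideal.Quotient.mk I)
    rw [map_add, map_mul, map_one, AlgHom.commutes] at h1
    exact h1
  refine algHom_ext_of_sub_mem_jacobson ψ φ fun b => ?_
  obtain ⟨r, hr⟩ := Ideal.Quotient.mk_surjective (φ b)
  have h0 : φ (b - algebraMap R B r) = 0 := by
    rw [map_sub, AlgHom.commutes, ← hr]
    exact sub_self _
  have := hψu _ h0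
  rw [map_sub, AlgHom.commutes] at this
  rw [← hr]
  exact this

end Groth.Agent.ProEtWC
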