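import Mathlib
import Groth.Agent.ProEtWC.Lan
import Groth.Agent.ProEtWC.Closed
import Groth.Agent.ProEtWC.LiftMod

/-!
# Morphisms out of w-contractible objects all of whose closed points lie on a closed subscheme
-/

set_option autoImplicit false
set_option linter.all false
set_option backward.isDefEq.respectTransparency.types false
set_option backward.isDefEq.respectTransparency false
set_option synthInstance.maxHeartbeats 400000
set_option maxHeartbeats 1000000

universe u

open CategoryTheory Limits AlgebraicGeometry Opposite MorphismProperty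

namespace Groth.Agent.ProEtWC

theorem strictlyHenselian_of_surjective {R S : Type u} [CommRing R] [CommRing S] [IsLocalRing S]
    (g : R →+* S) (hg : Function.Surjective g) (h : EtCoh.IsStrictlyHenselianLocalRing R) :
    EtCoh.IsStrictlyHenselianLocalRing S := by
  obtain ⟨hh, hs⟩ := h
  haveI := hh
  haveI := hs
  refine ⟨henselianLocalRing_of_surjective g hg, ?_⟩
  haveI := IsLocalHom.of_surjective g hg
  let e' : IsLocalRing.ResidueField R ≃+* IsLocalRing.ResidueField S :=
    RingEquiv.ofBijective (IsLocalRing.ResidueField.map g) ⟨RingHom.injective _, fun x => by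
      obtain ⟨y, rfl⟩ := IsLocalRing.residue_surjective x
      obtain ⟨z, rfl⟩ := hg y
      exact ⟨IsLocalRing.residue _ z, rfl⟩⟩
  letI : Algebra (IsLocalRing.ResidueField R) (IsLocalRing.ResidueField S) := e'.toRingHom.toAlgebra
  haveI : Algebra.IsAlgebraic (IsLocalRing.ResidueField R) (IsLocalRing.ResidueField S) :=
    ⟨fun x => e'.apply_symm_apply x ▸ isAlgebraic_algebraMap (e'.symm x)⟩
  exact Algebra.IsAlgebraic.isSepClosed (F := IsLocalRing.ResidueField R)

open HenselLib in
theorem wContractible_of_surjective_jacobson {A A' : Type u} [CommRing A] [CommRing A'] (π : A →+* A')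
    (hπ : Function.Surjective π) (hI : RingHom.ker π ≤ Ideal.jacobson ⊥) (h : EtPBC.IsWContractible A) :
    EtPBC.IsWContractible A' := by
  obtain ⟨hl, hext, hsh⟩ := WCtr.isWContractible_iff.1 h
  haveI := hext
  letI := π.toAlgebra
  have he : Topology.IsClosedEmbedding (PrimeSpectrum.comap (algebraMap A A')) :=
    PrimeSpectrum.isClosedEmbedding_comap_of_surjective _ π hπ
  obtain ⟨hl', hcl⟩ := WCtr.isWLocal_of_closedEmbedding hl he
  haveI := WLoc.compactSpace_CP hl'
  haveI := WLoc.t2Space_CP hl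
  let φ : WLoc.CP A' → WLoc.CP A := fun d => ⟨PrimeSpectrum.comap π d.1, (hcl d.1).1 d.2⟩
  have hφ : Function.Bijective φ := by
    refine ⟨fun a b hab => Subtype.ext (he.injective (congrArg Subtype.val hab)), fun c => ?_⟩
    have hm := (PrimeSpectrum.isClosed_singleton_iff_isMaximal _).1 c.2
    obtain ⟨q, hq⟩ : c.1 ∈ Set.range (PrimeSpectrum.comap π) := by
      rw [range_comap_of_surjective _ π hπ]
      exact hI.trans (sInf_le ⟨bot_le, hm⟩)
    exact ⟨⟨q, (hcl q).2 (show IsClosed {PrimeSpectrum.comap π q} from hq ▸ c.2)⟩, Subtype.ext hq⟩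
  let ψ : WLoc.CP A' ≃ₜ WLoc.CP A := Continuous.homeoOfEquivCompactToT2 (f := Equiv.ofBijective φ hφ)
    (Continuous.subtype_mk ((PrimeSpectrum.continuous_comap π).comp continuous_subtype_val) _)
  refine WCtr.isWContractible_iff.2 ⟨hl',
    WCtr.extremallyDisconnected_homeo (((WCtr.cpHomeo hl).symm.trans ψ.symm).trans (WCtr.cpHomeo hl')),
    fun m hm => ?_⟩
  haveI : (m.comap π).IsMaximal := Ideal.comap_isMaximal_of_surjective π hπ
  exact strictlyHenselian_of_surjective (Localization.localRingHom (m.comap π) m π rfl)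
    (RingHom.surjectiveOnStalks_of_surjective hπ m inferInstance) (hsh (m.comap π))

variable {X Z : Scheme.{u}} (i : Z ⟶ X) [IsClosedImmersion i]

section

variable (V : X.ProEt)

instance isClosedImmersion_fst : IsClosedImmersion (pullback.fst V.hom i) := inferInstance

/-- The projection from the base change. -/
noncomputable abbrev bcFst : ((ProEtS.bcP i).obj V).left ⟶ V.left := pullback.fst V.hom i

theorem range_bcFst : Set.range (bcFst i V).base = V.hom.base ⁻¹' Set.range i.base :=
  Scheme.Pullback.range_fst V.hom i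

theorem bc_map_fst {V' : X.ProEt} (m : V' ⟶ V) :
    ((ProEtS.bcP i).map m).left ≫ bcFst i V = bcFst i V' ≫ m.left :=
  pullback.lift_fst _ _ _

theorem isAffine_bc [IsAffine V.left] : IsAffine ((ProEtS.bcP i).obj V).left := by
  haveI : IsClosedImmersion (bcFst i V) := inferInstanceAs (IsClosedImmersion (pullback.fst V.hom i))
  exact isAffine_of_isAffineHom (bcFst i V)

variable [IsAffine V.left] (hV : ∀ v : V.left, ∃ z : V.left, V.hom z ∈ Set.range i.base ∧ v ⤳ z)

include hV in
theorem ker_le_jacobson :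
    RingHom.ker (bcFst i V).appTop.hom ≤ Ideal.jacobson ⊥ := by
  haveI : IsClosedImmersion (bcFst i V) := inferInstanceAs (IsClosedImmersion (pullback.fst V.hom i))
  haveI := isAffine_bc i V
  obtain ⟨-, hsurj⟩ := (HasAffineProperty.iff_of_isAffine (P := @IsClosedImmersion)).1
    ‹IsClosedImmersion (bcFst i V)›
  refine le_sInf ?_
  rintro M ⟨-, hM⟩
  let e := V.left.isoSpec
  let v := e.inv (⟨M, hM.isPrime⟩ : PrimeSpectrum _)
  obtain ⟨z, hz, hvz⟩ := hV v
  have hev : e.hom v = (⟨M, hM.isPrime⟩ : PrimeSpectrum _) := by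
    show e.hom (e.inv _) = _
    rw [← Scheme.Hom.comp_apply, Iso.inv_hom_id]
    rfl
  obtain rfl : v = z := by
    have h1 : e.hom v ⤳ e.hom z := hvz.map e.hom.continuous
    rw [hev] at h1
    have h2 : e.hom z = (⟨M, hM.isPrime⟩ : PrimeSpectrum _) :=
      h1.mem_closed ((PrimeSpectrum.isClosed_singleton_iff_isMaximal _).2 hM) rfl
    exact e.hom.homeomorph.injective (hev.trans h2.symm)
  obtain ⟨w, hw⟩ : v ∈ Set.range (bcFst i V).base := (range_bcFst i V).ge hz
  intro r hr
  have h3 : Spec.map (bcFst i V).appTop (((ProEtS.bcP i).obj V).left.isoSpec.hom w) =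
      (⟨M, hM.isPrime⟩ : PrimeSpectrum _) := by
    rw [← hev, ← hw, ← Scheme.Hom.comp_apply, ← Scheme.Hom.comp_apply, Scheme.isoSpec_hom_naturality]
  show r ∈ (⟨M, hM.isPrime⟩ : PrimeSpectrum Γ(V.left, ⊤)).asIdeal
  rw [← h3]
  show (bcFst i V).appTop.hom r ∈ (((ProEtS.bcP i).obj V).left.isoSpec.hom w : PrimeSpectrum _).asIdeal
  rw [RingHom.mem_ker.1 hr]
  exact Ideal.zero_mem _

variable (hwc : EtPBC.IsWContractible Γ(V.left, ⊤))

include hV hwc in
theorem wContractible_bc : EtPBC.IsWContractible Γ(((ProEtS.bcP i).obj V).left, ⊤) := by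
  haveI : IsClosedImmersion (bcFst i V) := inferInstanceAs (IsClosedImmersion (pullback.fst V.hom i))
  haveI := isAffine_bc i V
  obtain ⟨-, hsurj⟩ := (HasAffineProperty.iff_of_isAffine (P := @IsClosedImmersion)).1
    ‹IsClosedImmersion (bcFst i V)›
  exact wContractible_of_surjective_jacobson _ hsurj (ker_le_jacobson i V hV) hwc

include hV hwc in
/-- Sections over the closed part of an affine object lift. -/
theorem exists_section_lift {Y : X.ProEt} [IsAffine Y.left] (g : Y ⟶ V)
    (σ : (ProEtS.bcP i).obj V ⟶ (ProEtS.bcP i).obj Y) (hσ : σ ≫ (ProEtS.bcP i).map g = 𝟙 _) :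
    ∃ t : V ⟶ Y, t ≫ g = 𝟙 V ∧ (ProEtS.bcP i).map t = σ := by
  haveI := weaklyEtale_left g
  haveI : IsClosedImmersion (bcFst i V) := inferInstanceAs (IsClosedImmersion (pullback.fst V.hom i))
  haveI := isAffine_bc i V
  obtain ⟨-, hsurj⟩ := (HasAffineProperty.iff_of_isAffine (P := @IsClosedImmersion)).1
    ‹IsClosedImmersion (bcFst i V)›
  letI := g.left.appTop.hom.toAlgebra
  haveI := weaklyEtale_appTop g.left
  let p := bcFst i V
  let q : ((ProEtS.bcP i).obj V).left ⟶ Y.left := σ.left ≫ bcFst i Y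
  have hq : q ≫ g.left = p := by
    show (σ.left ≫ bcFst i Y) ≫ g.left = p
    rw [Category.assoc, ← bc_map_fst i V g, ← Category.assoc]
    have : σ.left ≫ ((ProEtS.bcP i).map g).left = 𝟙 _ := congrArg (fun φ => φ.left) hσ
    rw [this, Category.id_comp]
  have hk := ker_le_jacobson i V hV
  let π := p.appTop.hom
  let e : (Γ(V.left, ⊤) ⧸ RingHom.ker π) ≃+* Γ(((ProEtS.bcP i).obj V).left, ⊤) :=
    RingHom.quotientKerEquivOfSurjective hsurj
  let φ : Γ(Y.left, ⊤) →ₐ[Γ(V.left, ⊤)] Γ(V.left, ⊤) ⧸ RingHom.ker π :=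
    { e.symm.toRingHom.comp q.appTop.hom with
      commutes' := fun x => by
        show e.symm (q.appTop.hom (g.left.appTop.hom x)) = Ideal.Quotient.mk _ x
        rw [RingEquiv.symm_apply_eq]
        have h1 : (g.left.appTop ≫ q.appTop) = p.appTop := by rw [← Scheme.Hom.comp_appTop, hq]
        exact ConcreteCategory.congr_hom h1 x }
  obtain ⟨t, ht⟩ := exists_lift_of_wContractible hwc _ hk φ
  let r : V.left ⟶ Y.left := V.left.isoSpec.hom ≫ Spec.map (CommRingCat.ofHom t.toRingHom) ≫ Y.left.isoSpec.inv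
  have hr : r ≫ g.left = 𝟙 _ := by
    show (V.left.isoSpec.hom ≫ Spec.map _ ≫ Y.left.isoSpec.inv) ≫ g.left = _
    rw [Category.assoc, Category.assoc, ← Scheme.isoSpec_inv_naturality, ← Spec.map_comp_assoc]
    have h1 : g.left.appTop ≫ CommRingCat.ofHom t.toRingHom = 𝟙 _ :=
      CommRingCat.hom_ext (RingHom.ext t.commutes)
    rw [h1, Spec.map_id, Category.id_comp, Iso.hom_inv_id]
  let t' : V ⟶ Y := MorphismProperty.Over.homMk r (by
    have hw : g.left ≫ V.hom = Y.hom := CategoryTheory.Over.w g.hom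
    rw [← hw, ← Category.assoc, hr, Category.id_comp]) trivial
  refine ⟨t', (Scheme.ProEt.forget X ⋙ CategoryTheory.Over.forget X).map_injective hr, ?_⟩
  have hpr : p ≫ r = q := by
    show p ≫ V.left.isoSpec.hom ≫ Spec.map _ ≫ Y.left.isoSpec.inv = q
    rw [← Category.assoc p, ← Scheme.isoSpec_hom_naturality, Category.assoc, ← Spec.map_comp_assoc]
    have h1 : CommRingCat.ofHom t.toRingHom ≫ p.appTop = q.appTop := CommRingCat.hom_ext (RingHom.ext fun y => by
      have h2 := congrArg e (DFunLike.congr_fun ht y)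
      exact h2.trans (e.apply_symm_apply _))
    rw [h1, ← Category.assoc, Scheme.isoSpec_hom_naturality, Category.assoc, Iso.hom_inv_id, Category.comp_id]
  refine (Scheme.ProEt.forget Z ⋙ CategoryTheory.Over.forget Z).map_injective (pullback.hom_ext ?_ ?_)
  · exact (bc_map_fst i Y t').trans hpr
  · exact (pullback.lift_snd _ _ _).trans (CategoryTheory.Over.w σ.hom).symm

include hV hwc in
/-- Morphisms from the closed part lift. -/
theorem exists_hom_lift {V' : X.ProEt} (h : (ProEtS.bcP i).obj V ⟶ (ProEtS.bcP i).obj V') :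
    ∃ m : V ⟶ V', (ProEtS.bcP i).map m = h := by
  let G := ProEtS.bcP i
  haveI := isAffine_bc i V
  let P : X.ProEt := Limits.prod V V'
  let h₂ : G.obj V ⟶ G.obj P := prod.lift (𝟙 _) h ≫ inv (prodComparison G V V')
  have h₂f : h₂ ≫ G.map prod.fst = 𝟙 _ := by
    show (prod.lift (𝟙 _) h ≫ inv (prodComparison G V V')) ≫ G.map prod.fst = _
    rw [Category.assoc, inv_prodComparison_map_fst, prod.lift_fst]
  have h₂s : h₂ ≫ G.map prod.snd = h := by
    show (prod.lift (𝟙 _) h ≫ inv (prodComparison G V V')) ≫ G.map prod.snd = _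
    rw [Category.assoc, inv_prodComparison_map_snd, prod.lift_snd]
  let E := P.left.affineCover
  let O : E.I₀ → X.ProEt := fun a => Scheme.ProEt.mk (E.f a ≫ P.hom)
  let w : ∀ a, O a ⟶ P := fun a => MorphismProperty.Over.homMk (E.f a) rfl trivial
  haveI : ∀ a, IsOpenImmersion (G.map (w a)).left := fun a => by
    haveI : IsOpenImmersion (w a).left := inferInstanceAs (IsOpenImmersion (E.f a))
    have : (G.map (w a)).left = pullback.map (O a).hom i P.hom i (w a).left (𝟙 _) (𝟙 _)
        (by rw [Category.comp_id]; exact (CategoryTheory.Over.w (w a).hom).symm) (by simp) :=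
      pullback.hom_ext
        ((bc_map_fst i P (w a)).trans (pullback.lift_fst _ _ _).symm)
        ((pullback.lift_snd _ _ _).trans ((pullback.lift_snd _ _ _).trans (Category.comp_id _)).symm)
    rw [this]
    infer_instance
  have hcov : ∀ x : (G.obj P).left, ∃ a, x ∈ Set.range (G.map (w a)).left := fun x => by
    obtain ⟨a, y, hy⟩ : ∃ a y, E.f a y = bcFst i P x := ⟨_, E.covers _⟩
    haveI : IsClosedImmersion (bcFst i P) := inferInstanceAs (IsClosedImmersion (pullback.fst P.hom i))
    obtain ⟨x', hx'⟩ : y ∈ Set.range (bcFst i (O a)).base := by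
      rw [range_bcFst]
      show P.hom (E.f a y) ∈ Set.range i.base
      rw [hy]
      exact (range_bcFst i P).le ⟨x, rfl⟩
    refine ⟨a, x', (bcFst i P).isClosedEmbedding.injective ?_⟩
    rw [← Scheme.Hom.comp_apply, bc_map_fst]
    show E.f a (bcFst i (O a) x') = _
    rw [hx', hy]
  have hS : Sieve.generate (Presieve.ofArrows (fun a => G.obj (O a)) (fun a => G.map (w a))) ∈
      Scheme.ProEt.topology Z (G.obj P) :=
    Precoverage.generate_mem_toGrothendieck (ofArrows_mem_precoverage _ _ hcov)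
  obtain ⟨n, W, -, hdisj, hWcov, hW⟩ := clopenRefined_of_wContractible (wContractible_bc i V hV hwc) _
    ((Scheme.ProEt.topology Z).pullback_stable h₂ hS)
  choose T c b hb hcb using fun k => hW k
  have hb' : ∀ k, ∃ (a : E.I₀) (c' : openObj (G.obj V) (W k) ⟶ G.obj (O a)),
      c' ≫ G.map (w a) = openIncl (G.obj V) (W k) ≫ h₂ := fun k => by
    obtain ⟨T₁, c₁, b₁, ⟨a⟩, h₁⟩ := hW k
    exact ⟨a, c₁, h₁⟩
  choose a q hq using hb'
  let d₀ : (∐ fun k => (O (a k)).left) ⟶ P.left := Sigma.desc fun k => E.f (a k)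
  haveI : WeaklyEtale d₀ := IsZariskiLocalAtSource.sigmaDesc fun k => inferInstanceAs (WeaklyEtale (E.f (a k)))
  let Y : X.ProEt := Scheme.ProEt.mk (d₀ ≫ P.hom)
  haveI : ∀ k, IsAffine (O (a k)).left := fun k => inferInstanceAs (IsAffine (E.X (a k)))
  haveI : IsAffine Y.left := inferInstanceAs (IsAffine (∐ fun k => (O (a k)).left))
  let d : Y ⟶ P := MorphismProperty.Over.homMk d₀ rfl trivial
  let ι : ∀ k, O (a k) ⟶ Y := fun k => MorphismProperty.Over.homMk (Sigma.ι (fun k => (O (a k)).left) k) (by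
    show Sigma.ι (fun k => (O (a k)).left) k ≫ d₀ ≫ P.hom = E.f (a k) ≫ P.hom
    rw [Sigma.ι_desc_assoc]) trivial
  have hιd : ∀ k, ι k ≫ d = w (a k) := fun k =>
    (Scheme.ProEt.forget X ⋙ CategoryTheory.Over.forget X).map_injective (Sigma.ι_desc _ _)
  haveI : ∀ k, IsOpenImmersion (openIncl (G.obj V) (W k)).left :=
    fun k => inferInstanceAs (IsOpenImmersion (W k).ι)
  obtain ⟨hc⟩ := nonempty_isColimit_cofan (fun k => openObj (G.obj V) (W k)) (fun k => openIncl (G.obj V) (W k))
    (fun x => by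
      obtain ⟨k, hk⟩ := Set.mem_iUnion.1 (hWcov.ge (Set.mem_univ x))
      exact ⟨k, ⟨x, hk⟩, rfl⟩)
    (fun k l hkl => by
      refine Set.disjoint_left.2 ?_
      rintro _ ⟨y, rfl⟩ ⟨z, hz⟩
      exact Set.disjoint_left.1 (hdisj hkl) y.2 (by
        show y.1 ∈ (W l : Set _)
        rw [show y.1 = z.1 from hz.symm]
        exact z.2))
  let σ : G.obj V ⟶ G.obj Y := Cofan.IsColimit.desc hc fun k => q k ≫ G.map (ι k)
  have hσd : σ ≫ G.map d = h₂ := Cofan.IsColimit.hom_ext hc _ _ fun k => by
    show openIncl (G.obj V) (W k) ≫ σ ≫ _ = openIncl (G.obj V) (W k) ≫ h₂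
    rw [← Category.assoc]
    erw [Cofan.IsColimit.fac hc]
    rw [Category.assoc, ← Functor.map_comp, hιd, hq]
  obtain ⟨t, -, ht⟩ := exists_section_lift i V hV hwc (d ≫ prod.fst) σ (by
    rw [Functor.map_comp, ← Category.assoc]
    erw [hσd]
    exact h₂f)
  exact ⟨t ≫ d ≫ prod.snd, by rw [Functor.map_comp, Functor.map_comp, ht, ← Category.assoc]; erw [hσd]; exact h₂s⟩

include hV hwc in
/-- Lifts are unique. -/
theorem hom_ext_of_bc {V' : X.ProEt} (m m' : V ⟶ V') (h : (ProEtS.bcP i).map m = (ProEtS.bcP i).map m') :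
    m = m' := by
  let G := ProEtS.bcP i
  haveI := isAffine_bc i V
  let e := equalizer.ι m m'
  obtain ⟨k, hk⟩ : ∃ k : G.obj V ⟶ G.obj (equalizer m m'), k ≫ G.map e = 𝟙 _ := by
    let hf := isLimitOfHasEqualizerOfPreservesLimit G m m'
    exact ⟨Fork.IsLimit.lift hf (𝟙 _) (by rw [Category.id_comp, Category.id_comp]; exact h),
      Fork.IsLimit.lift_ι' hf _ _⟩
  let E := (equalizer m m').left.affineCover
  let u : ((ProEtS.bcP i).obj V).left ⟶ (equalizer m m').left := k.left ≫ bcFst i (equalizer m m')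
  have hu : u ≫ e.left = bcFst i V := by
    show (k.left ≫ bcFst i (equalizer m m')) ≫ e.left = _
    rw [Category.assoc, ← bc_map_fst i V e, ← Category.assoc]
    have : k.left ≫ ((ProEtS.bcP i).map e).left = 𝟙 _ := congrArg (fun φ => φ.left) hk
    rw [this, Category.id_comp]
  obtain ⟨s, hs⟩ := (isCompact_range u.continuous).elim_finite_subcover
    (fun a => Set.range (E.f a)) (fun a => (E.f a).isOpenEmbedding.isOpen_range)
    (fun x _ => Set.mem_iUnion.2 ⟨_, E.covers x⟩)
  let d₀ : (∐ fun a : s => E.X a) ⟶ (equalizer m m').left := Sigma.desc fun a : s => E.f a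
  haveI : WeaklyEtale d₀ := IsZariskiLocalAtSource.sigmaDesc fun a => inferInstanceAs (WeaklyEtale (E.f a.1))
  let T : X.ProEt := Scheme.ProEt.mk (d₀ ≫ (equalizer m m').hom)
  haveI : ∀ a : s, IsAffine (E.X a) := fun a => inferInstanceAs (IsAffine ((equalizer m m').left.affineCover.X a))
  haveI : IsAffine T.left := inferInstanceAs (IsAffine (∐ fun a : s => E.X a))
  let d : T ⟶ equalizer m m' := MorphismProperty.Over.homMk d₀ rfl trivial
  haveI := weaklyEtale_left (d ≫ e)
  have hsurj : Function.Surjective (d ≫ e).left := fun v => by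
    obtain ⟨z, hz, hvz⟩ := hV v
    obtain ⟨x, hx⟩ : z ∈ Set.range (bcFst i V).base := (range_bcFst i V).ge hz
    obtain ⟨a, ha, y, hy⟩ := Set.mem_iUnion₂.1 (hs ⟨x, rfl⟩)
    obtain ⟨y', -, hy'⟩ := Flat.generalizingMap (d ≫ e).left
      (a := Sigma.ι (fun a : s => E.X a) ⟨a, ha⟩ y) (b := v) (by
        show v ⤳ e.left (d₀ (Sigma.ι (fun a : s => E.X a) ⟨a, ha⟩ y))
        rw [← Scheme.Hom.comp_apply (Sigma.ι (fun a : s => E.X a) ⟨a, ha⟩) d₀, Sigma.ι_desc, hy,
          ← Scheme.Hom.comp_apply, hu, hx]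
        exact hvz)
    exact ⟨y', hy'⟩
  obtain ⟨τ, hτ⟩ := exists_section hwc (d ≫ e) hsurj
  calc m = (τ ≫ d ≫ e) ≫ m := by rw [hτ, Category.id_comp]
    _ = (τ ≫ d ≫ e) ≫ m' := by simp only [Category.assoc]; erw [equalizer.condition m m']
    _ = m' := by rw [hτ, Category.id_comp]

include hV hwc in
/-- The left Kan extension along base change at the closed part is the value. -/
theorem isIso_unit_app_of_closedPoints {A : Type*} [Category A] (F : X.ProEtᵒᵖ ⥤ A)
    {L : Z.ProEtᵒᵖ ⥤ A} (η : F ⟶ (ProEtS.bcP i).op ⋙ L)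
    (hL : (Functor.LeftExtension.mk L η).IsPointwiseLeftKanExtension) : IsIso (η.app (op V)) := by
  let G := ProEtS.bcP i
  let t : CostructuredArrow G.op (op (G.obj V)) := CostructuredArrow.mk (Y := op V) (𝟙 _)
  have htm : ∀ j : CostructuredArrow G.op (op (G.obj V)),
      ∃ m : V ⟶ j.left.unop, G.map m = j.hom.unop := fun j => exists_hom_lift i V hV hwc j.hom.unop
  choose m hm using htm
  have ht : IsTerminal t := IsTerminal.ofUniqueHom
    (fun j => CostructuredArrow.homMk (m j).op (by
      show (G.map (m j)).op ≫ 𝟙 _ = j.hom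
      rw [Category.comp_id, hm]
      rfl))
    (fun j f => by
      refine CostructuredArrow.hom_ext _ _ (Quiver.Hom.unop_inj (hom_ext_of_bc i V hV hwc _ _ ?_))
      show G.map f.left.unop = G.map (m j)
      rw [hm]
      have := congrArg Quiver.Hom.unop (CostructuredArrow.w f)
      simpa [t] using this)
  have h1 : IsColimit (coconeOfDiagramTerminal ht (CostructuredArrow.proj G.op (op (G.obj V)) ⋙ F)) :=
    colimitOfDiagramTerminal ht _
  let e := h1.coconePointUniqueUpToIso (hL (op (G.obj V)))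
  have h3 := h1.comp_coconePointUniqueUpToIso_hom (hL (op (G.obj V))) t
  have h4 : (coconeOfDiagramTerminal ht (CostructuredArrow.proj G.op (op (G.obj V)) ⋙ F)).ι.app t = 𝟙 _ := by
    show (CostructuredArrow.proj G.op (op (G.obj V)) ⋙ F).map (ht.from t) = _
    rw [ht.hom_ext (ht.from t) (𝟙 t)]
    exact CategoryTheory.Functor.map_id _ _
  rw [h4] at h3
  erw [Category.id_comp] at h3
  have h5 : e.hom = η.app (op V) := by
    refine h3.trans ?_
    show η.app (op V) ≫ L.map (𝟙 _) = _
    rw [L.map_id]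
    exact Category.comp_id _
  rw [← h5]
  exact inferInstanceAs (IsIso e.hom)

end

end Groth.Agent.ProEtWC
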