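import Mathlib
import Groth.Agent.ProEtWC.LiftHom
import Groth.Agent.ProEtWC.Push

/-!
# Sections of inverse images along closed immersions of small pro-étale sites
-/

set_option autoImplicit false
set_option linter.all false
set_option backward.isDefEq.respectTransparency.types false
set_option backward.isDefEq.respectTransparency false
set_option synthInstance.maxHeartbeats 400000
set_option maxHeartbeats 1000000

universe u

open CategoryTheory Limits AlgebraicGeometry Opposite MorphismProperty

namespace Groth.Agent.ProEtWC

/-- A presheaf of abelian groups sending finite disjoint decompositions of an affine weakly contractible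
object to products has the same sections there as its sheafification. -/
theorem toSheafify_bijective_ab {X : Scheme.{u}} (P : X.ProEtᵒᵖ ⥤ AddCommGrpCat.{u + 1})
    (W : X.ProEt) [IsAffine W.left] (hW : ProEtS.IsWC W)
    (hP : ∀ (n : ℕ) (Q : Fin n → X.ProEt) (g : ∀ k, Q k ⟶ W), IsColimit (Cofan.mk W g) →
      Function.Bijective fun (a : P.obj (op W)) k => P.map (g k).op a) :
    Function.Bijective ((toSheafify (Scheme.ProEt.topology X) P).app (op W)) := by
  have hR : ClopenRefined W := clopenRefined_of_wContractible (wContractible_of_isWC hW)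
  have key : ∀ (n : ℕ) (S : Fin n → W.left.Opens),
      Pairwise (fun k l => Disjoint (S k : Set ↥W.left) (S l)) → (⋃ k, (S k : Set ↥W.left)) = Set.univ →
      Function.Bijective fun (a : P.obj (op W)) k => P.map (openIncl W (S k)).op a := by
    intro n S hd hc
    haveI : ∀ k, IsOpenImmersion (openIncl W (S k)).left :=
      fun k => inferInstanceAs (IsOpenImmersion (S k).ι)
    obtain ⟨h⟩ := nonempty_isColimit_cofan (fun k => openObj W (S k)) (fun k => openIncl W (S k))
      (fun x => by
        obtain ⟨k, hk⟩ := Set.mem_iUnion.1 (hc.ge (Set.mem_univ x))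
        exact ⟨k, ⟨x, hk⟩, rfl⟩)
      (fun i j hij => by
        refine Set.disjoint_left.2 ?_
        rintro _ ⟨a, rfl⟩ ⟨b, hb⟩
        exact Set.disjoint_left.1 (hd hij) a.2 (by
          show a.1 ∈ (S j : Set _)
          rw [show a.1 = b.1 from hb.symm]
          exact b.2))
    exact hP n _ _ h
  constructor
  · intro a b hab
    obtain ⟨n, S, -, hd, hc, hS⟩ := hR _
      (Presheaf.equalizerSieve_mem (Scheme.ProEt.topology X) (toSheafify (Scheme.ProEt.topology X) P) a b hab)
    exact (key n S hd hc).1 (funext fun k => hS k)
  · intro s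
    obtain ⟨n, S, -, hd, hc, hS⟩ := hR _
      (Presheaf.imageSieve_mem (Scheme.ProEt.topology X) (toSheafify (Scheme.ProEt.topology X) P) s)
    choose t ht using fun k => hS k
    obtain ⟨a, ha⟩ := (key n S hd hc).2 t
    haveI : ∀ k, IsOpenImmersion (openIncl W (S k)).left :=
      fun k => inferInstanceAs (IsOpenImmersion (S k).ι)
    refine ⟨a, (isSheafFor_disjoint (fun k => openObj W (S k)) (fun k => openIncl W (S k)) (fun x => by
        obtain ⟨k, hk⟩ := Set.mem_iUnion.1 (hc.ge (Set.mem_univ x))
        exact ⟨k, ⟨x, hk⟩, rfl⟩)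
      ((sheafCompose (Scheme.ProEt.topology X) (CategoryTheory.forget AddCommGrpCat.{u + 1})).obj
        ((presheafToSheaf (Scheme.ProEt.topology X) _).obj P))).isSeparatedFor.ext ?_⟩
    rintro _ _ ⟨k⟩
    exact (((toSheafify (Scheme.ProEt.topology X) P).naturality_apply (openIncl W (S k)).op a).symm.trans
      (congrArg _ (congrFun ha k))).trans (ht k)

variable {X Y : Scheme.{u}} (f : Y ⟶ X)

/-- The presheaf pullback of an abelian sheaf sends finite disjoint unions to products. -/
theorem lan_bijective_disjoint_ab (F : ProEtS.AbP X) {W : Y.ProEt} {n : ℕ} (P : Fin n → Y.ProEt)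
    (g : ∀ k, P k ⟶ W) (hc : IsColimit (Cofan.mk W g)) :
    Function.Bijective fun (a : ((ProEtS.bcP f).op.lan.obj F.obj).obj (op W)) k =>
      ((ProEtS.bcP f).op.lan.obj F.obj).map (g k).op a := by
  let G := ProEtS.bcP f
  let F' := (sheafCompose (Scheme.ProEt.topology X) (CategoryTheory.forget AddCommGrpCat.{u + 1})).obj F
  let L : Y.ProEtᵒᵖ ⥤ Type (u + 1) := G.op.lan.obj F.obj ⋙ CategoryTheory.forget AddCommGrpCat.{u + 1}
  let η : F'.obj ⟶ G.op ⋙ L := Functor.whiskerRight (G.op.lanUnit.app F.obj) (CategoryTheory.forget AddCommGrpCat.{u + 1})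
  have hL : (Functor.LeftExtension.mk L η).IsPointwiseLeftKanExtension := fun W' => by
    haveI : RepresentablyCoflat G.op := (representablyCoflat_op_iff G).2 inferInstance
    have h0 := (Functor.isPointwiseLeftKanExtensionOfIsLeftKanExtension (G.op.lan.obj F.obj) (G.op.lanUnit.app F.obj)) W'
    haveI : PreservesFilteredColimitsOfSize.{u, u + 1} (CategoryTheory.forget AddCommGrpCat.{u + 1}) :=
      preservesFilteredColimitsOfSize_shrink.{u + 1, u + 1, u, u + 1} _
    haveI : PreservesColimitsOfShape (CostructuredArrow G.op W') (CategoryTheory.forget AddCommGrpCat.{u + 1}) :=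
      PreservesFilteredColimitsOfSize.preserves_filtered_colimits _
    exact IsColimit.ofIsoColimit (isColimitOfPreserves (CategoryTheory.forget AddCommGrpCat.{u + 1}) h0)
      (Cocone.ext (Iso.refl _) fun j => by ext x; rfl)
  exact lan_bijective_disjoint f F' η hL P g hc

variable {Z : Scheme.{u}} (i : Z ⟶ X) [IsClosedImmersion i] [ProEtS.PCont i]

/-- On an affine weakly contractible object whose closed points lie on `Z`, sections of a sheaf and of its
inverse image to `Z` agree. -/
theorem unit_bijective_of_closedPoints (V : X.ProEt) [IsAffine V.left]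
    (hV : ∀ v : V.left, ∃ z : V.left, V.hom z ∈ Set.range i.base ∧ v ⤳ z)
    (hwc : EtPBC.IsWContractible Γ(V.left, ⊤)) (F : ProEtS.AbP X) :
    Function.Bijective (((ProEtS.pullPushAdjP i).unit.app F).hom.app (op V)) := by
  let G := ProEtS.bcP i
  let A := AddCommGrpCat.{u + 1}
  let J := Scheme.ProEt.topology X
  let K := Scheme.ProEt.topology Z
  haveI := isAffine_bc i V
  let adj' := Functor.sheafPullbackConstruction.sheafAdjunctionContinuous G A J K
  let adj := Functor.sheafAdjunctionContinuous G A J K
  have h1 : Function.Bijective ((adj'.unit.app F).hom.app (op V)) := by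
    have hu : (adj'.unit.app F).hom = G.op.lanUnit.app F.obj ≫
        Functor.whiskerLeft G.op (toSheafify K (G.op.lan.obj F.obj)) := by
      show (sheafToPresheaf J A).map (adj'.unit.app F) = _
      simp only [adj', Functor.sheafPullbackConstruction.sheafAdjunctionContinuous]
      erw [Adjunction.map_restrictFullyFaithful_unit_app]
      simp [Adjunction.comp_unit_app, Functor.lanAdjunction_unit, sheafificationAdjunction_unit_app]
      rfl
    have ha : IsIso ((G.op.lanUnit.app F.obj).app (op V)) :=
      isIso_unit_app_of_closedPoints i V hV hwc F.obj _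
        (Functor.isPointwiseLeftKanExtensionOfIsLeftKanExtension _ _)
    have hb := toSheafify_bijective_ab (G.op.lan.obj F.obj) (G.obj V)
      ((wContractible_iff_isWC _).1 (wContractible_bc i V hV hwc))
      (fun n Q g hc => lan_bijective_disjoint_ab i F Q g hc)
    rw [hu]
    exact hb.comp ((ConcreteCategory.isIso_iff_bijective _).1 ha)
  have h2 := adj.unit_leftAdjointUniq_hom_app adj' F
  have h3 : Function.Bijective (((G.sheafPushforwardContinuous A J K).map
      ((adj.leftAdjointUniq adj').hom.app F)).hom.app (op V)) :=
    (ConcreteCategory.isIso_iff_bijective _).1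
      (((sheafToPresheaf J A).mapIso ((G.sheafPushforwardContinuous A J K).mapIso
        ((adj.leftAdjointUniq adj').app F))).app (op V)).isIso_hom
  rw [← h2] at h1
  exact (Function.Bijective.of_comp_iff' h3 _).1 h1

end Groth.Agent.ProEtWC
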