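import Mathlib
import Groth.Agent.ProEtWC.PullSections
import Groth.Agent.ProEtWC.ExtZeroLimits

/-!
# The sequence attached to a closed subscheme with quasi-compact complement
-/

set_option autoImplicit false
set_option linter.all false
set_option backward.isDefEq.respectTransparency.types false
set_option backward.isDefEq.respectTransparency false
set_option synthInstance.maxHeartbeats 400000
set_option maxHeartbeats 1000000

universe u

open CategoryTheory Limits AlgebraicGeometry Opposite MorphismProperty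

namespace Groth.Agent.ProEtWC

variable {X : Scheme.{u}}

theorem hom_ext_of_wc {F G : ProEtS.AbP X} (φ ψ : F ⟶ G)
    (h : ∀ (V : X.ProEt), IsAffine V.left → EtPBC.IsWContractible Γ(V.left, ⊤) →
      ∀ x, φ.hom.app (op V) x = ψ.hom.app (op V) x) : φ = ψ := by
  refine Sheaf.hom_ext (NatTrans.ext (funext fun W => ConcreteCategory.hom_ext _ _ fun x => ?_))
  obtain ⟨ι, V, g, hcov, hV⟩ := exists_cover_by_affine_wContractible W.unop
  refine ((isSheaf_iff_isSheaf_of_type _ _).1
    ((sheafCompose (Scheme.ProEt.topology X) (CategoryTheory.forget AddCommGrpCat.{u + 1})).obj G).property).isSeparated _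
      hcov |>.ext ?_
  rintro T f ⟨_, c, _, ⟨i⟩, rfl⟩
  show G.obj.map (c ≫ g i).op (φ.hom.app W x) = G.obj.map (c ≫ g i).op (ψ.hom.app W x)
  rw [op_comp, Functor.map_comp_apply, Functor.map_comp_apply]
  congr 1
  erw [← NatTrans.naturality_apply, ← NatTrans.naturality_apply]
  exact h (V i) (hV i).1 (hV i).2 _

theorem wContractible_of_clopen (V : X.ProEt) [IsAffine V.left] (W : V.left.Opens)
    (hW : IsClopen (W : Set V.left)) (hwc : EtPBC.IsWContractible Γ(V.left, ⊤)) :
    EtPBC.IsWContractible Γ((openObj V W).left, ⊤) := by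
  have : IsClosedImmersion W.ι := IsClosedImmersion.of_isPreimmersion _ (by rw [W.range_ι]; exact hW.1)
  haveI : IsFinite W.ι := inferInstance
  haveI : LocallyOfFinitePresentation W.ι := inferInstance
  haveI : IsAffine W.toScheme := isAffine_of_isAffineHom W.ι
  letI := W.ι.appTop.hom.toAlgebra
  haveI : Module.Finite Γ(V.left, ⊤) Γ(W.toScheme, ⊤) :=
    ((HasAffineProperty.iff_of_isAffine (P := @IsFinite)).1 ‹IsFinite W.ι›).2
  haveI : Algebra.FinitePresentation Γ(V.left, ⊤) Γ(W.toScheme, ⊤) :=
    (HasRingHomProperty.iff_of_isAffine (P := @LocallyOfFinitePresentation)).1 ‹LocallyOfFinitePresentation W.ι›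
  exact S0679.result Γ(V.left, ⊤) Γ(W.toScheme, ⊤) hwc

variable {Z U : Scheme.{u}} (i : Z ⟶ X) [IsClosedImmersion i]
  (j : U ⟶ X) [IsOpenImmersion j] [QuasiCompact j]

theorem shortExact_extZero_restr_push_pull (hc : Set.range j.base = (Set.range i.base)ᶜ)
    [ProEtS.JPCont j] [ProEtS.PCont i] (F : ProEtS.AbP X) :
    ∃ h : (ProEtS.extZeroPAdj j).counit.app F ≫ (ProEtS.pullPushAdjP i).unit.app F = 0,
      (ShortComplex.mk _ _ h).ShortExact := by
  let a := (ProEtS.extZeroPAdj j).counit.app F
  let b := (ProEtS.pullPushAdjP i).unit.app F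
  let E := (ProEtS.extZeroP j).obj ((ProEtS.restrP j).obj F)
  let Q := (ProEtS.pushP i).obj ((ProEtS.pullP i).obj F)
  have key : ∀ (V : X.ProEt), IsAffine V.left → EtPBC.IsWContractible Γ(V.left, ⊤) →
      (∀ x, b.hom.app (op V) (a.hom.app (op V) x) = 0) ∧ Function.Injective (a.hom.app (op V)) ∧
      (∀ y, b.hom.app (op V) y = 0 → ∃ x, a.hom.app (op V) x = y) ∧ Function.Surjective (b.hom.app (op V)) := by
    intro V hV hwc
    haveI := hV
    obtain ⟨W, W', hW, hW', hcompl, hWU, hWZ⟩ := exists_clopen_split j V hwc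
    let P : Fin 2 → X.ProEt := ![openObj V W, openObj V W']
    let p : ∀ k, P k ⟶ V := Fin.cons (openIncl V W) (Fin.cons (openIncl V W') finZeroElim)
    haveI : ∀ k, IsOpenImmersion (p k).left := Fin.forall_fin_two.2
      ⟨inferInstanceAs (IsOpenImmersion W.ι), inferInstanceAs (IsOpenImmersion W'.ι)⟩
    have hcv : ∀ x : V.left, ∃ k, x ∈ Set.range (p k).left := fun x => by
      by_cases hx : x ∈ W
      · exact ⟨0, ⟨x, hx⟩, rfl⟩
      · exact ⟨1, ⟨x, hcompl.symm.le hx⟩, rfl⟩
    have h01 : Disjoint (Set.range (p 0).left) (Set.range (p 1).left) := by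
      refine Set.disjoint_left.2 ?_
      rintro _ ⟨y, rfl⟩ ⟨z, hz⟩
      exact (hcompl.le z.2 : z.1 ∉ (W : Set V.left)) ((show z.1 = y.1 from hz) ▸ y.2)
    have hd : Pairwise fun k l => Disjoint (Set.range (p k).left) (Set.range (p l).left) := by
      intro k l hkl
      fin_cases k <;> fin_cases l
      · exact absurd rfl hkl
      · exact h01
      · exact h01.symm
      · exact absurd rfl hkl
    let cmp := sheafCompose (Scheme.ProEt.topology X) (CategoryTheory.forget AddCommGrpCat.{u + 1})
    have ext2 : ∀ (S : ProEtS.AbP X) (x y : ProEtS.sectP S V),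
        S.obj.map (openIncl V W).op x = S.obj.map (openIncl V W).op y →
        S.obj.map (openIncl V W').op x = S.obj.map (openIncl V W').op y → x = y := by
      intro S x y h0 h1
      refine (isSheafFor_disjoint P p hcv (cmp.obj S)).isSeparatedFor.ext ?_
      rintro _ _ ⟨k⟩
      fin_cases k
      · exact h0
      · exact h1
    have glue2 : ∀ (S : ProEtS.AbP X) (s : ProEtS.sectP S (openObj V W)) (t : ProEtS.sectP S (openObj V W')),
        ∃ x : ProEtS.sectP S V, S.obj.map (openIncl V W).op x = s ∧ S.obj.map (openIncl V W').op x = t := by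
      intro S s t
      obtain ⟨x, hx⟩ := exists_glue P p hcv hd (cmp.obj S) (Fin.cons s (Fin.cons t finZeroElim))
      exact ⟨x, hx 0, hx 1⟩
    haveI : IsAffine W'.toScheme := by
      have : IsClosedImmersion W'.ι := IsClosedImmersion.of_isPreimmersion _ (by rw [W'.range_ι]; exact hW'.1)
      exact isAffine_of_isAffineHom W'.ι
    haveI : IsAffine (openObj V W').left := inferInstanceAs (IsAffine W'.toScheme)
    -- the piece over `U`
    have hrange : Set.range (W.ι ≫ V.hom) ⊆ Set.range j.base := by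
      rintro _ ⟨y, rfl⟩
      exact hWU y.1 y.2
    let α : W.toScheme ⟶ U := IsOpenImmersion.lift j (W.ι ≫ V.hom) hrange
    have hα : α ≫ j = W.ι ≫ V.hom := IsOpenImmersion.lift_fac _ _ _
    haveI : WeaklyEtale α := MorphismProperty.of_postcomp (W := @WeaklyEtale) (W' := @WeaklyEtale) α j
      (inferInstanceAs (WeaklyEtale j)) (by show WeaklyEtale (α ≫ j); rw [hα]; infer_instance)
    let A : U.ProEt := Scheme.ProEt.mk α
    let e₁ : (ProEtS.compP j).obj A ⟶ openObj V W := MorphismProperty.Over.homMk (𝟙 _) (by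
      show 𝟙 _ ≫ W.ι ≫ V.hom = α ≫ j
      rw [Category.id_comp, hα]) trivial
    let e₂ : openObj V W ⟶ (ProEtS.compP j).obj A := MorphismProperty.Over.homMk (𝟙 _) (by
      show 𝟙 _ ≫ α ≫ j = W.ι ≫ V.hom
      rw [Category.id_comp, hα]) trivial
    let e : (ProEtS.compP j).obj A ≅ openObj V W :=
      ⟨e₁, e₂, (Scheme.ProEt.forget X ⋙ CategoryTheory.Over.forget X).map_injective (Category.id_comp _),
        (Scheme.ProEt.forget X ⋙ CategoryTheory.Over.forget X).map_injective (Category.id_comp _)⟩
    have haW : Function.Bijective (a.hom.app (op (openObj V W))) := by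
      haveI : IsIso (ProEtS.extZeroPAdj j).unit := (ProEtS.extZeroPAdj j).isIso_unit_of_iso (restrExtZeroIso j)
      haveI : IsIso ((ProEtS.restrP j).map a) := by
        have htri := (ProEtS.extZeroPAdj j).right_triangle_components F
        exact IsIso.of_isIso_fac_left htri
      have h : Function.Bijective (a.hom.app (op ((ProEtS.compP j).obj A))) :=
        (ConcreteCategory.isIso_iff_bijective _).1
          (((sheafToPresheaf _ _).mapIso (asIso ((ProEtS.restrP j).map a))).app (op A)).isIso_hom
      have hnat := a.hom.naturality e.hom.op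
      rw [← ConcreteCategory.isIso_iff_bijective] at h ⊢
      haveI := h
      haveI : IsIso (E.obj.map e.hom.op) := (E.obj.mapIso e.op).isIso_hom
      haveI : IsIso (F.obj.map e.hom.op) := (F.obj.mapIso e.op).isIso_hom
      haveI : IsIso (((𝟭 (ProEtS.AbP X)).obj F).obj.map e.hom.op) := ‹IsIso (F.obj.map e.hom.op)›
      haveI : IsIso (((ProEtS.restrP j ⋙ ProEtS.extZeroP j).obj F).obj.map e.hom.op) :=
        ‹IsIso (E.obj.map e.hom.op)›
      haveI : IsIso (((ProEtS.restrP j ⋙ ProEtS.extZeroP j).obj F).obj.map e.hom.op ≫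
          a.hom.app (op ((ProEtS.compP j).obj A))) := IsIso.comp_isIso' inferInstance h
      exact IsIso.of_isIso_fac_right hnat.symm
    have hQW : ∀ x y : ProEtS.sectP Q (openObj V W), x = y := fun x y => by
      haveI : IsEmpty ((ProEtS.bcP i).obj (openObj V W)).left := ⟨fun w => by
        have hw : (openObj V W).hom (bcFst i (openObj V W) w) ∈ Set.range i.base :=
          (range_bcFst i (openObj V W)).le ⟨w, rfl⟩
        exact (hc.le (hrange ⟨_, rfl⟩)) hw⟩
      exact subsingleton_of_isEmpty
        ((sheafCompose (Scheme.ProEt.topology Z) (CategoryTheory.forget AddCommGrpCat.{u + 1})).obj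
          ((ProEtS.pullP i).obj F)) ((ProEtS.bcP i).obj (openObj V W)) x y
    -- the piece over `Z`
    have hEW' : Subsingleton (ProEtS.sectP E (openObj V W')) := by
      refine extZero_subsingleton j _ j.opensRange.isOpen.isClosed_compl disjoint_compl_right (openObj V W') ?_ _
      intro v
      obtain ⟨z, hz, hzU, hvz⟩ := hWZ v.1 v.2
      exact ⟨⟨z, hz⟩, hzU, (subtype_specializes_iff _ _).2 hvz⟩
    have hbW' : Function.Bijective (b.hom.app (op (openObj V W'))) := by
      refine unit_bijective_of_closedPoints i (openObj V W') (fun v => ?_) ?_ F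
      · obtain ⟨z, hz, hzU, hvz⟩ := hWZ v.1 v.2
        refine ⟨⟨z, hz⟩, ?_, (subtype_specializes_iff _ _).2 hvz⟩
        rw [hc, compl_compl] at hzU
        exact hzU
      · exact wContractible_of_clopen V W' hW' hwc
    have na : ∀ {T : X.ProEt} (g : T ⟶ V) (x : ProEtS.sectP E V),
        F.obj.map g.op (a.hom.app (op V) x) = a.hom.app (op T) (E.obj.map g.op x) :=
      fun g x => (a.hom.naturality_apply g.op x).symm
    have nb : ∀ {T : X.ProEt} (g : T ⟶ V) (x : ProEtS.sectP F V),
        Q.obj.map g.op (b.hom.app (op V) x) = b.hom.app (op T) (F.obj.map g.op x) :=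
      fun g x => (b.hom.naturality_apply g.op x).symm
    refine ⟨fun x => ext2 Q _ _ (hQW _ _) ?_, fun x y hxy => ext2 E _ _ ?_ (hEW'.elim _ _),
      fun y hy => ?_, fun z => ?_⟩
    · rw [nb, na, hEW'.elim (E.obj.map (openIncl V W').op x) 0, map_zero, map_zero, map_zero]
    · apply haW.1
      rw [← na, ← na, hxy]
    · obtain ⟨s, hs⟩ := haW.2 (F.obj.map (openIncl V W).op y)
      obtain ⟨x, hx, -⟩ := glue2 E s 0
      refine ⟨x, ext2 F _ _ (by rw [na, hx, hs]) ?_⟩
      rw [na, hEW'.elim (E.obj.map (openIncl V W').op x) 0, map_zero]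
      apply hbW'.1
      rw [map_zero, ← nb, hy, map_zero]
    · obtain ⟨t, ht⟩ := hbW'.2 (Q.obj.map (openIncl V W').op z)
      obtain ⟨y, -, hy⟩ := glue2 F 0 t
      exact ⟨y, ext2 Q _ _ (hQW _ _) (by rw [nb, hy, ht])⟩
  have hzero : a ≫ b = 0 := hom_ext_of_wc _ _ fun V hV hwc x => (key V hV hwc).1 x
  refine ⟨hzero, ?_⟩
  haveI : Mono a := ⟨fun {T} g₁ g₂ h => hom_ext_of_wc _ _ fun V hV hwc x =>
    (key V hV hwc).2.1 (congrArg (fun φ => φ.hom.app (op V) x) h)⟩
  haveI : Sheaf.IsLocallySurjective b := isLocallySurjective_of_wc _ fun V hV hwc => (key V hV hwc).2.2.2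
  haveI : Epi b := (Sheaf.isLocallySurjective_iff_epi' (J := Scheme.ProEt.topology X) AddCommGrpCat.{u + 1} b).1 ‹_›
  have hex : (ShortComplex.mk a b hzero).Exact := by
    rw [ShortComplex.exact_iff_epi_kernel_lift]
    let l := kernel.lift b a hzero
    haveI : Sheaf.IsLocallySurjective l := isLocallySurjective_of_wc _ fun V hV hwc => fun k => by
      have hk : b.hom.app (op V) ((kernel.ι b).hom.app (op V) k) = 0 :=
        congrArg (fun φ => φ.hom.app (op V) k) (kernel.condition b)
      obtain ⟨x, hx⟩ := (key V hV hwc).2.2.1 _ hk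
      refine ⟨x, ?_⟩
      have hinj : Function.Injective ((kernel.ι b).hom.app (op V)) := by
        haveI : Mono ((sheafToPresheaf _ _ ⋙ (evaluation _ _).obj (op V)).map (kernel.ι b)) := inferInstance
        exact (AddCommGrpCat.mono_iff_injective _).1 this
      apply hinj
      rw [← hx]
      exact congrArg (fun φ => φ.hom.app (op V) x) (kernel.lift_ι b a hzero)
    exact (Sheaf.isLocallySurjective_iff_epi' (J := Scheme.ProEt.topology X) AddCommGrpCat.{u + 1} l).1 ‹_›
  exact { exact := hex, mono_f := ‹Mono a›, epi_g := ‹Epi b› }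

end Groth.Agent.ProEtWC
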