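import Groth.Agent.ProEtWC.EpsUnit
import Groth.Agent.EtCechLib.Cartan

/-!
# The vanishing locus of a section of `ε⁻¹F`; sections are étale locally sections of `F`
-/

set_option autoImplicit false
set_option linter.all false
set_option backward.isDefEq.respectTransparency.types false
set_option backward.isDefEq.respectTransparency false
set_option synthInstance.maxHeartbeats 400000
set_option maxHeartbeats 1000000

universe u

open CategoryTheory Limits AlgebraicGeometry Opposite

namespace Groth.Agent.ProEtWC.EpsUnit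

variable {X : Scheme.{u}}

/-- A sieve met at every point by an étale member covers. -/
theorem mem_of_etale_points {U : X.ProEt} (R : Sieve U)
    (h : ∀ y : U.left, ∃ (W : X.ProEt) (f : W ⟶ U), Etale f.left ∧ R f ∧ y ∈ Set.range f.left) :
    R ∈ Scheme.ProEt.topology X U := by
  obtain ⟨ι, V, g, hcov, hV⟩ := exists_cover_by_affine_wContractible U
  refine (Scheme.ProEt.topology X).transitive hcov _ ?_
  rintro T _ ⟨_, c, _, ⟨a⟩, rfl⟩
  rw [Sieve.pullback_comp]
  refine (Scheme.ProEt.topology X).pullback_stable c ?_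
  haveI : IsAffine (V a).left := (hV a).1
  choose W f hfe hfR hx using fun x : (V a).left => h ((g a).left x)
  let P : (V a).left → X.ProEt := fun x => pullback (g a) (f x)
  let p : ∀ x, P x ⟶ V a := fun x => pullback.fst (g a) (f x)
  have hsq : ∀ x, IsPullback (p x).left (pullback.snd (g a) (f x)).left (g a).left (f x).left := fun x =>
    (IsPullback.of_hasPullback (g a) (f x)).map (Scheme.ProEt.forget X ⋙ CategoryTheory.Over.forget X)
  have hpt : ∀ x, ∃ z, (p x).left z = x := fun x => by
    obtain ⟨w, hw⟩ := hx x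
    obtain ⟨z, hz, -⟩ := Scheme.exists_preimage_of_isPullback (hsq x) x w hw.symm
    exact ⟨z, hz⟩
  choose z hz using hpt
  have hpe : ∀ x, Etale (p x).left := fun x =>
    MorphismProperty.of_isPullback (P := @Etale) (hsq x).flip (hfe x)
  choose O hO hzO _ using fun x => exists_isAffineOpen_mem_and_subset (X := (P x).left)
    (x := z x) (U := ⊤) trivial
  let Q : (V a).left → X.ProEt := fun x => openObj (P x) (O x)
  let q : ∀ x, Q x ⟶ V a := fun x => openIncl (P x) (O x) ≫ p x
  have hopen : ∀ x, IsOpen (Set.range (q x).left) := fun x => by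
    haveI := hpe x
    haveI : Etale (q x).left := inferInstanceAs (Etale ((O x).ι ≫ (p x).left))
    exact (q x).left.isOpenMap.isOpen_range
  obtain ⟨s, hs⟩ := isCompact_univ.elim_finite_subcover (fun x => Set.range (q x).left) hopen
    (fun x _ => Set.mem_iUnion.2 ⟨x, ⟨⟨z x, hzO x⟩, hz x⟩⟩)
  haveI : ∀ i : s, IsAffine (Q i.1).left := fun i => hO i.1
  refine (Scheme.ProEt.topology X).superset_covering ?_
    (Et18.mem_topology_of_finite (fun i : s => Q i.1) (fun i => q i.1) fun x => by
      obtain ⟨y, hy, hxy⟩ := Set.mem_iUnion₂.1 (hs (Set.mem_univ x))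
      exact ⟨⟨y, hy⟩, hxy⟩)
  rw [Sieve.generate_le_iff, Presieve.ofArrows_le_iff]
  intro i
  show R (q i.1 ≫ g a)
  rw [Category.assoc, pullback.condition, ← Category.assoc]
  exact R.downward_closed (hfR i.1) _

variable (F : EtCoh.Ab X)

/-- The points near which a section of the pullback vanishes. -/
def zset {U : X.ProEt} (s : (G F).obj.obj (op U)) : Set U.left :=
  {y | ∃ (W : X.ProEt) (f : W ⟶ U), Etale f.left ∧ y ∈ Set.range f.left ∧ (G F).obj.map f.op s = 0}

theorem isOpen_zset {U : X.ProEt} (s : (G F).obj.obj (op U)) : IsOpen (zset F s) := by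
  rw [isOpen_iff_forall_mem_open]
  rintro v ⟨W, f, hf, hv, h0⟩
  exact ⟨Set.range f.left, fun y hy => ⟨W, f, hf, hy, h0⟩, f.left.isOpenMap.isOpen_range, hv⟩

theorem eq_zero_of_zset {U : X.ProEt} (s : (G F).obj.obj (op U)) (h : ∀ y, y ∈ zset F s) : s = 0 := by
  let R : Sieve U :=
    { arrows := fun W f => (G F).obj.map f.op s = 0
      downward_closed := fun {W W'} f hf m => by
        rw [op_comp, Functor.map_comp]
        show (G F).obj.map m.op ((G F).obj.map f.op s) = 0
        rw [hf, map_zero] }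
  have hR : R ∈ Scheme.ProEt.topology X U := mem_of_etale_points R fun y => by
    obtain ⟨W, f, hf, hy, h0⟩ := h y
    exact ⟨W, f, hf, h0, hy⟩
  refine ((Presheaf.isSheaf_iff_isSheaf_forget (Scheme.ProEt.topology X) (G F).obj
    (CategoryTheory.forget AddCommGrpCat.{u + 1})).1 (G F).property |>
    (isSheaf_iff_isSheaf_of_type _ _).1) R hR |>.isSeparatedFor.ext fun W g hg => ?_
  show (G F).obj.map g.op s = (G F).obj.map g.op 0
  rw [map_zero]
  exact hg

/-- A section vanishing after a weakly étale refinement at a point vanishes near that point. -/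
theorem mem_zset_of_map_eq_zero {P : X.ProEt} (d : (G F).obj.obj (op P))
    {W : X.ProEt} (h : W ⟶ P) (hd : (G F).obj.map h.op d = 0) (w : W.left) :
    (h.left w : P.left) ∈ zset F d := by
  obtain ⟨O₁, hO₁, hvO, -⟩ := exists_isAffineOpen_mem_and_subset (X := P.left)
    (x := (h.left w : P.left)) (U := ⊤) trivial
  let i₁ := openIncl P O₁
  let V₁ := openObj P O₁
  have hA : Et18.affineObj X V₁ := hO₁
  obtain ⟨R, hR, hloc⟩ := exists_local F V₁ ((G F).obj.map i₁.op d)
  obtain ⟨n, Yc, f, hY, hf, hcov⟩ := Et18.saturate_hasFiniteAffine (R := R) hR V₁ (𝟙 _) hA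
  choose Vk g x hx using fun k => hloc (f k) (by simpa using hf k)
  let B : Fin n → Set P.left := fun k =>
    (fun y => ((f k ≫ i₁).left y : P.left)) '' {y | ((g k).left y : (Vk k).left) ∉ zeroLocus F (Vk k) (x k)}
  have hB : ∀ k, (h.left w : P.left) ∉ closure (B k) := by
    intro k hk
    obtain ⟨y, hy, hyv⟩ : ∃ y : (Yc k).left, ((g k).left y : (Vk k).left) ∉ zeroLocus F (Vk k) (x k) ∧
        ((f k ≫ i₁).left y : P.left) ⤳ (h.left w : P.left) := by
      haveI : IsAffine (Yc k).left := hY k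
      have hC : IsClosed {y : (Yc k).left | ((g k).left y : (Vk k).left) ∉ zeroLocus F (Vk k) (x k)} :=
        ((isOpen_zeroLocus F (Vk k) (x k)).preimage (g k).left.continuous).isClosed_compl
      let I := Scheme.IdealSheafData.vanishingIdeal ⟨_, hC⟩
      haveI : IsAffine (V₁.left) := hO₁
      let q : I.subscheme ⟶ V₁.left := I.subschemeι ≫ (f k).left
      haveI : QuasiCompact q := inferInstance
      have hq : (⟨_, hvO⟩ : V₁.left) ∈ closure (Set.range q) := by
        rw [(O₁.ι.isOpenEmbedding.isInducing).closure_eq_preimage_closure_image]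
        refine Set.mem_preimage.2 (closure_mono ?_ hk)
        rintro _ ⟨y, hy, rfl⟩
        obtain ⟨z, hz⟩ : y ∈ Set.range I.subschemeι := by
          rw [Scheme.IdealSheafData.range_subschemeι]
          exact (Set.ext_iff.1 (Scheme.IdealSheafData.coe_support_vanishingIdeal _) y).2 hy
        exact ⟨q z, ⟨z, rfl⟩, by show i₁.left ((f k).left (I.subschemeι z)) = _; rw [hz]; rfl⟩
      obtain ⟨z, hz⟩ := H8Top.exists_specializes_of_mem_closure_range q hq
      refine ⟨I.subschemeι z, ?_, hz.map O₁.ι.continuous⟩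
      have : I.subschemeι z ∈ Set.range I.subschemeι := ⟨z, rfl⟩
      rw [Scheme.IdealSheafData.range_subschemeι] at this
      exact (Set.ext_iff.1 (Scheme.IdealSheafData.coe_support_vanishingIdeal _) _).1 this
    haveI := weaklyEtale_left h
    obtain ⟨w', -, hw'⟩ := Flat.generalizingMap h.left hyv
    have hsq := (IsPullback.of_hasPullback (f k ≫ i₁) h).map (Scheme.ProEt.forget X ⋙ CategoryTheory.Over.forget X)
    obtain ⟨p, hp, -⟩ := Scheme.exists_preimage_of_isPullback hsq y w' hw'.symm
    have h0 : ev F (Vk k) (pullback.fst (f k ≫ i₁) h ≫ g k) (x k) = 0 := by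
      rw [← map_ev, ← hx k, ← Functor.map_comp_apply, ← Functor.map_comp_apply, ← op_comp, ← op_comp,
        Category.assoc, pullback.condition, op_comp, Functor.map_comp_apply, hd, map_zero]
    have := mem_zeroLocus_of_ev_eq_zero F _ _ _ h0 p
    apply hy
    rw [← hp]
    exact this
  let O : P.left.Opens := ⟨(O₁ : Set P.left) ∩ (⋃ k, closure (B k))ᶜ,
    O₁.isOpen.inter (isClosed_iUnion_of_finite fun k => isClosed_closure).isOpen_compl⟩
  refine ⟨openObj P O, openIncl P O, inferInstanceAs (Etale O.ι), ⟨⟨_, hvO, by simpa using hB⟩, rfl⟩, ?_⟩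
  have hle : O ≤ O₁ := fun _ hy => hy.1
  let j : openObj P O ⟶ V₁ := MorphismProperty.Over.homMk
    (P.left.homOfLE hle) (by
      show P.left.homOfLE hle ≫ O₁.ι ≫ P.hom = O.ι ≫ P.hom
      rw [Scheme.homOfLE_ι_assoc]) trivial
  have hj : j ≫ i₁ = openIncl P O :=
    (Scheme.ProEt.forget X ⋙ CategoryTheory.Over.forget X).map_injective (Scheme.homOfLE_ι _ hle)
  refine ((Presheaf.isSheaf_iff_isSheaf_forget (Scheme.ProEt.topology X) (G F).obj
    (CategoryTheory.forget AddCommGrpCat.{u + 1})).1 (G F).property |>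
    (isSheaf_iff_isSheaf_of_type _ _).1) _ ((Scheme.ProEt.topology X).pullback_stable j hcov)
    |>.isSeparatedFor.ext fun Z r hr => ?_
  obtain ⟨_, c, _, ⟨k⟩, hc⟩ := hr
  show (G F).obj.map r.op ((G F).obj.map (openIncl P O).op d) = (G F).obj.map r.op 0
  rw [map_zero, ← hj, op_comp, Functor.map_comp_apply, ← Functor.map_comp_apply,
    ← op_comp, ← hc, op_comp, Functor.map_comp_apply, hx, map_ev]
  refine ev_eq_zero_of_mem_zeroLocus F _ _ _ fun z => ?_
  by_contra hz
  have hO : ((r ≫ openIncl P O).left z : P.left) ∈ O := (r.left z).2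
  refine hO.2 (Set.mem_iUnion.2 ⟨k, subset_closure ⟨c.left z, hz, ?_⟩⟩)
  rw [← hj, ← Category.assoc, ← hc]
  rfl

theorem mem_zset_of_mem_preimage {U U' : X.ProEt} (r : U' ⟶ U) (s : (G F).obj.obj (op U)) (y : U'.left) :
    y ∈ zset F ((G F).obj.map r.op s) → (r.left y : U.left) ∈ zset F s := by
  rintro ⟨W, f, -, ⟨w, hw⟩, h0⟩
  rw [← hw]
  exact mem_zset_of_map_eq_zero F s (f ≫ r) (by rw [op_comp, Functor.map_comp_apply, h0]) w

theorem preimage_zset {U U' : X.ProEt} (r : U' ⟶ U) (s : (G F).obj.obj (op U)) (y : U'.left)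
    (hy : (r.left y : U.left) ∈ zset F s) : y ∈ zset F ((G F).obj.map r.op s) := by
  obtain ⟨W, f, hf, ⟨w, hw⟩, h0⟩ := hy
  have hsq := (IsPullback.of_hasPullback r f).map (Scheme.ProEt.forget X ⋙ CategoryTheory.Over.forget X)
  obtain ⟨z, hz, -⟩ := Scheme.exists_preimage_of_isPullback hsq y w hw.symm
  refine ⟨pullback r f, pullback.fst r f, MorphismProperty.of_isPullback (P := @Etale) hsq.flip hf, ⟨z, hz⟩, ?_⟩
  rw [← Functor.map_comp_apply, ← op_comp, pullback.condition, op_comp, Functor.map_comp_apply, h0, map_zero]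

/-- Sections of the pullback are étale locally sections of `F`. -/
theorem exists_etale_nhd {U : X.ProEt} (s : (G F).obj.obj (op U)) (y : U.left) :
    ∃ (W : X.ProEt) (q : W ⟶ U) (V : X.Etale) (h : W ⟶ (ProEtS.eps X).obj V) (x : F.obj.obj (op V)),
      Etale q.left ∧ y ∈ Set.range q.left ∧ (G F).obj.map q.op s = ev F V h x := by
  obtain ⟨R, hR, hloc⟩ := exists_local F U s
  obtain ⟨W₀, r, hr, w, hw⟩ := exists_mem_of_covering hR y
  obtain ⟨V, h, x, hx⟩ := hloc r hr
  haveI : Etale V.hom := V.prop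
  haveI : WeaklyEtale U.hom := U.prop
  let P : X.ProEt := Scheme.ProEt.mk (pullback.fst U.hom V.hom ≫ U.hom)
  let p₁ : P ⟶ U := MorphismProperty.Over.homMk (pullback.fst U.hom V.hom) rfl trivial
  let p₂ : P ⟶ (ProEtS.eps X).obj V := MorphismProperty.Over.homMk (pullback.snd U.hom V.hom)
    (pullback.condition.symm) trivial
  have hcond : r.left ≫ U.hom = h.left ≫ V.hom :=
    (CategoryTheory.Over.w r.hom).trans (CategoryTheory.Over.w h.hom).symm
  let h' : W₀ ⟶ P := MorphismProperty.Over.homMk (pullback.lift r.left h.left hcond) (by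
    show pullback.lift r.left h.left hcond ≫ pullback.fst U.hom V.hom ≫ U.hom = W₀.hom
    rw [pullback.lift_fst_assoc]
    exact CategoryTheory.Over.w r.hom) trivial
  have h1 : h' ≫ p₁ = r :=
    (Scheme.ProEt.forget X ⋙ CategoryTheory.Over.forget X).map_injective (pullback.lift_fst _ _ _)
  have h2 : h' ≫ p₂ = h :=
    (Scheme.ProEt.forget X ⋙ CategoryTheory.Over.forget X).map_injective (pullback.lift_snd _ _ _)
  obtain ⟨W, f, hf, ⟨z, hz⟩, h0⟩ := mem_zset_of_map_eq_zero F ((G F).obj.map p₁.op s - ev F V p₂ x) h' (by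
    rw [map_sub, ← Functor.map_comp_apply, ← op_comp, h1, map_ev, h2, hx, sub_self]) w
  haveI : Etale V.hom := V.prop
  haveI : Etale p₁.left := inferInstanceAs (Etale (pullback.fst U.hom V.hom))
  refine ⟨W, f ≫ p₁, V, f ≫ p₂, x, inferInstanceAs (Etale (f.left ≫ p₁.left)), ⟨z, ?_⟩, ?_⟩
  · rw [← hw, ← h1]
    show p₁.left (f.left z) = p₁.left (h'.left w)
    rw [hz]
  · rw [map_sub, sub_eq_zero, map_ev] at h0
    rw [op_comp, Functor.map_comp_apply, h0]

end Groth.Agent.ProEtWC.EpsUnit
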