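import Mathlib.AlgebraicGeometry.Sites.Proetale
import Mathlib.CategoryTheory.Sites.CoverLifting
import Mathlib.CategoryTheory.Sites.Pullback
import Mathlib.CategoryTheory.Abelian.RightDerived
import Mathlib.Algebra.Category.Grp.AB
import Groth.Agent.Et18.FinitePush

/-!
# Restriction from the big to the small pro-étale site
-/

set_option autoImplicit false
set_option linter.all false
set_option backward.isDefEq.respectTransparency.types false
set_option backward.isDefEq.respectTransparency false
set_option synthInstance.maxHeartbeats 400000
set_option maxHeartbeats 1000000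

universe u

open CategoryTheory Limits AlgebraicGeometry Opposite

namespace Groth.Agent.ProEtWC.BigSite

section Generic

universe v₁ v₂ u₁ u₂ w w'

variable {C : Type u₁} [Category.{v₁} C] {D : Type u₂} [Category.{v₂} D] (G : C ⥤ D)
  (A : Type w') [Category.{w} A] (J : GrothendieckTopology C) (K : GrothendieckTopology D)
  [G.IsContinuous J K] [∀ (F : Cᵒᵖ ⥤ A), G.op.HasLeftKanExtension F] [HasWeakSheafify K A]

theorem pullbackUnit_hom (F : Sheaf J A) :
    ((Functor.sheafPullbackConstruction.sheafAdjunctionContinuous G A J K).unit.app F).hom =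
      G.op.lanUnit.app F.obj ≫ Functor.whiskerLeft G.op (toSheafify K (G.op.lan.obj F.obj)) := by
  change (sheafToPresheaf J A).map
    ((Functor.sheafPullbackConstruction.sheafAdjunctionContinuous G A J K).unit.app F) = _
  simp only [Functor.sheafPullbackConstruction.sheafAdjunctionContinuous]
  erw [Adjunction.map_restrictFullyFaithful_unit_app]
  simp

theorem isIso_pullbackUnit [G.Full] [G.Faithful] [G.IsCocontinuous J K] [HasWeakSheafify J A]
    [∀ (F : Cᵒᵖ ⥤ A), G.op.HasPointwiseLeftKanExtension F]
    [∀ (F : Cᵒᵖ ⥤ A), G.op.HasPointwiseRightKanExtension F] (F : Sheaf J A) :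
    IsIso ((Functor.sheafPullbackConstruction.sheafAdjunctionContinuous G A J K).unit.app F) := by
  haveI : IsIso (G.op.lanUnit.app F.obj) := inferInstance
  haveI : IsIso (toSheafify J (G.op ⋙ G.op.lan.obj F.obj)) :=
    isIso_toSheafify J ((Presheaf.isSheaf_of_iso_iff (asIso (G.op.lanUnit.app F.obj))).1 F.property)
  haveI : IsIso ((G.pushforwardContinuousSheafificationCompatibility A J K).hom.app (G.op.lan.obj F.obj)).hom :=
    inferInstanceAs (IsIso ((sheafToPresheaf J A).map
      ((G.pushforwardContinuousSheafificationCompatibility A J K).hom.app (G.op.lan.obj F.obj))))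
  haveI : IsIso (Functor.whiskerLeft G.op (toSheafify K (G.op.lan.obj F.obj))) := by
    rw [← G.toSheafify_pullbackSheafificationCompatibility A J K (G.op.lan.obj F.obj)]
    exact IsIso.comp_isIso' inferInstance inferInstance
  haveI : IsIso ((Functor.sheafPullbackConstruction.sheafAdjunctionContinuous G A J K).unit.app F).hom := by
    rw [pullbackUnit_hom]
    exact IsIso.comp_isIso' inferInstance inferInstance
  haveI : IsIso ((sheafToPresheaf J A).map
      ((Functor.sheafPullbackConstruction.sheafAdjunctionContinuous G A J K).unit.app F)) := ‹_›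
  exact isIso_of_reflects_iso _ (sheafToPresheaf J A)

end Generic

variable (S : Scheme.{u})

theorem isCocontinuous_forget :
    (Scheme.ProEt.forget S).IsCocontinuous (Scheme.ProEt.topology S) (Scheme.proetaleTopology.over S) := by
  have h : Scheme.ProEt.topology S =
      (Scheme.ProEt.forget S).restrictedTopology (Scheme.proetaleTopology.over S) :=
    MorphismProperty.toGrothendieck_comap_forget_eq_restrictedTopology _
      Scheme.proetalePrecoverage_le_precoverage_weaklyEtale
  rw [h]
  infer_instance

/-- The abelian restriction functor. -/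
noncomputable abbrev res : Sheaf (Scheme.proetaleTopology.over S) AddCommGrpCat.{u + 1} ⥤
    Sheaf (Scheme.ProEt.topology S) AddCommGrpCat.{u + 1} :=
  (Scheme.ProEt.forget S).sheafPushforwardContinuous AddCommGrpCat.{u + 1} (Scheme.ProEt.topology S)
    (Scheme.proetaleTopology.over S)

theorem preservesFiniteColimits_res : PreservesFiniteColimits (res S) := by
  haveI := isCocontinuous_forget S
  haveI := ((Scheme.ProEt.forget S).sheafAdjunctionCocontinuous AddCommGrpCat.{u + 1}
    (Scheme.ProEt.topology S) (Scheme.proetaleTopology.over S)).leftAdjoint_preservesColimits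
  infer_instance

theorem isIso_unit (F : Sheaf (Scheme.ProEt.topology S) AddCommGrpCat.{u + 1}) :
    IsIso (((Scheme.ProEt.forget S).sheafAdjunctionContinuous AddCommGrpCat.{u + 1}
      (Scheme.ProEt.topology S) (Scheme.proetaleTopology.over S)).unit.app F) := by
  haveI := isCocontinuous_forget S
  let G := Scheme.ProEt.forget S
  let J := Scheme.ProEt.topology S
  let K := Scheme.proetaleTopology.over S
  let A := AddCommGrpCat.{u + 1}
  let adj := G.sheafAdjunctionContinuous A J K
  let adj' := Functor.sheafPullbackConstruction.sheafAdjunctionContinuous G A J K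
  haveI : IsIso (adj'.unit.app F) := isIso_pullbackUnit G A J K F
  show IsIso (adj.unit.app F)
  have h := adj'.unit_leftAdjointUniq_hom_app adj F
  rw [← h]
  infer_instance

theorem isZero_rightDerived_res [(res S).Additive]
    [HasInjectiveResolutions (Sheaf (Scheme.proetaleTopology.over S) AddCommGrpCat.{u + 1})]
    (G : Sheaf (Scheme.proetaleTopology.over S) AddCommGrpCat.{u + 1}) (q : ℕ) :
    IsZero (((res S).rightDerived (q + 1)).obj G) := by
  haveI := preservesFiniteColimits_res S
  haveI : PreservesLimitsOfSize.{0, 0} (res S) := ((Scheme.ProEt.forget S).sheafAdjunctionContinuous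
    AddCommGrpCat.{u + 1} (Scheme.ProEt.topology S) (Scheme.proetaleTopology.over S)).rightAdjoint_preservesLimits
  haveI : PreservesFiniteLimits (res S) := PreservesLimitsOfSize.preservesFiniteLimits _
  exact Et18.isZero_rightDerived_of_preservesHomology _ q G

end Groth.Agent.ProEtWC.BigSite
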