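import Groth.Agent.ProEtWC.BigSite
import Groth.Agent.EtCmp.Exact
import Mathlib.CategoryTheory.Preadditive.Injective.Preserves
import Mathlib.CategoryTheory.Sites.Over

/-!
# Restriction of injective sheaves from the big to the small pro-étale site
-/

set_option autoImplicit false
set_option linter.all false
set_option backward.isDefEq.respectTransparency.types false
set_option backward.isDefEq.respectTransparency false
set_option backward.defeqAttrib.useBackward true
set_option synthInstance.maxHeartbeats 400000
set_option maxHeartbeats 1000000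

universe u

open CategoryTheory Limits AlgebraicGeometry Opposite

namespace Groth.Agent.ProEtWC.BigSite

/-- Evaluation of a left Kan extension is a colimit. -/
noncomputable def lanEvalIso {C : Type (u + 1)} [Category.{u} C] {D : Type (u + 1)} [Category.{u} D]
    (F : C ⥤ D) (A : Type (u + 2)) [Category.{u + 1} A] [HasColimitsOfSize.{u, u + 1} A]
    [∀ (G : Cᵒᵖ ⥤ A), F.op.HasPointwiseLeftKanExtension G] (K : Dᵒᵖ) :
    F.op.lan ⋙ (evaluation Dᵒᵖ A).obj K ≅
      (Functor.whiskeringLeft _ _ A).obj (CostructuredArrow.proj F.op K) ⋙ colim :=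
  NatIso.ofComponents (fun G => IsColimit.coconePointUniqueUpToIso
    (Functor.isPointwiseLeftKanExtensionLeftKanExtensionUnit F.op G K) (colimit.isColimit _)) (fun {G₁ G₂} φ => by
    apply (Functor.isPointwiseLeftKanExtensionLeftKanExtensionUnit F.op G₁ K).hom_ext
    intro T
    have h₁ := fun (G : Cᵒᵖ ⥤ A) => IsColimit.comp_coconePointUniqueUpToIso_hom
      (Functor.isPointwiseLeftKanExtensionLeftKanExtensionUnit F.op G K) (colimit.isColimit _) T
    have h₂ := congr_app (F.op.lanUnit.naturality φ) T.left
    dsimp at h₁ h₂ ⊢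
    simp only [Category.assoc] at h₁ ⊢
    simp only [Functor.lan, Functor.lanUnit] at h₂ ⊢
    rw [reassoc_of% h₁, NatTrans.naturality_assoc, ← reassoc_of% h₂, h₁, ι_colimMap, Functor.whiskerLeft_app]
    rfl)

section Lan

variable {E : Type (u + 1)} [Category.{u} E] {X Y : E} (f : X ⟶ Y)

/-- The objects of the costructured arrows of `Over.map f` over `op V`. -/
def mapCostructured (V : Over Y) :
    Discrete {g : V.left ⟶ X // g ≫ f = V.hom} ⥤ CostructuredArrow (Over.map f).op (op V) :=
  Discrete.functor fun g => CostructuredArrow.mk (Y := op (Over.mk g.1))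
    (Over.homMk (𝟙 V.left) ((Category.id_comp _).trans g.2) :
      V ⟶ (Over.map f).obj (Over.mk g.1)).op

instance mapCostructured_final (V : Over Y) : (mapCostructured f V).Final := by
  constructor
  intro d
  have key : ∀ x : StructuredArrow d (mapCostructured f V),
      x.hom.left.unop.left = d.hom.unop.left ∧ x.right.as.1 = d.hom.unop.left ≫ d.left.unop.hom := by
    intro x
    have h1 : x.hom.left.unop.left = d.hom.unop.left := by
      have := congrArg CommaMorphism.left (congrArg Quiver.Hom.unop (CostructuredArrow.w x.hom))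
      exact (Category.id_comp _).symm.trans this
    refine ⟨h1, ?_⟩
    have h2 := Over.w x.hom.left.unop
    rw [h1] at h2
    exact h2.symm
  have : Nonempty (StructuredArrow d (mapCostructured f V)) :=
    ⟨StructuredArrow.mk (Y := Discrete.mk ⟨d.hom.unop.left ≫ d.left.unop.hom,
        (Category.assoc _ _ _).trans (Over.w d.hom.unop)⟩)
      (CostructuredArrow.homMk (Over.homMk d.hom.unop.left : Over.mk _ ⟶ d.left.unop).op
        (Quiver.Hom.unop_inj (Over.OverMorphism.ext (Category.id_comp _))))⟩
  refine zigzag_isConnected fun a b => Zigzag.of_hom ?_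
  obtain ⟨ha, ha'⟩ := key a
  obtain ⟨hb, hb'⟩ := key b
  refine StructuredArrow.homMk (eqToHom (Discrete.ext (Subtype.ext (ha'.trans hb'.symm)))) ?_
  apply CostructuredArrow.hom_ext
  apply Quiver.Hom.unop_inj
  apply Over.OverMorphism.ext
  obtain ⟨⟨⟨⟩⟩, ⟨⟨ga, pa⟩⟩, ma⟩ := a
  obtain ⟨⟨⟨⟩⟩, ⟨⟨gb, pb⟩⟩, mb⟩ := b
  obtain rfl : ga = gb := ha'.trans hb'.symm
  simp only [eqToHom_refl, CategoryTheory.Functor.map_id, Category.comp_id]
  exact ha.trans hb.symm

/-- Left Kan extension along `Over.map f` is exact on abelian presheaves. -/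
theorem lan_map_preservesFiniteLimits :
    PreservesFiniteLimits ((Over.map f).op.lan :
      ((Over X)ᵒᵖ ⥤ AddCommGrpCat.{u + 1}) ⥤ (Over Y)ᵒᵖ ⥤ AddCommGrpCat.{u + 1}) where
  preservesFiniteLimits J _ _ := preservesLimitsOfShape_of_evaluation _ J fun V => by
    haveI := mapCostructured_final f V.unop
    haveI : AB4 AddCommGrpCat.{u + 1} := inferInstance
    have : PreservesFiniteLimits
        (colim : (Discrete {g : V.unop.left ⟶ X // g ≫ f = V.unop.hom} ⥤ AddCommGrpCat.{u + 1}) ⥤ _) :=
      HasExactColimitsOfShape.preservesFiniteLimits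
    have h1 : PreservesLimitsOfShape J
        (colim : (CostructuredArrow (Over.map f).op V ⥤ AddCommGrpCat.{u + 1}) ⥤ AddCommGrpCat.{u + 1}) :=
      preservesLimitsOfShape_of_natIso (Functor.Final.colimIso (mapCostructured f V.unop) (E := AddCommGrpCat.{u + 1}))
    exact preservesLimitsOfShape_of_natIso (lanEvalIso (Over.map f) AddCommGrpCat.{u + 1} V).symm

end Lan

variable {T S : Scheme.{u}} (f : T ⟶ S)

/-- The restriction along `T.ProEt ⥤ Over S` preserves injective objects. -/
theorem injective_res_map
    [(Scheme.ProEt.forget T ⋙ Over.map f).IsContinuous (Scheme.ProEt.topology T)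
      (Scheme.proetaleTopology.over S)]
    (I : Sheaf (Scheme.proetaleTopology.over S) AddCommGrpCat.{u + 1}) [Injective I] :
    Injective (((Scheme.ProEt.forget T ⋙ Over.map f).sheafPushforwardContinuous AddCommGrpCat.{u + 1}
      (Scheme.ProEt.topology T) (Scheme.proetaleTopology.over S)).obj I) := by
  let A := AddCommGrpCat.{u + 1}
  let K := Scheme.proetaleTopology.{u}
  haveI : PreservesFiniteLimits ((Over.map f).sheafPullback A (K.over T) (K.over S)) := by
    haveI := lan_map_preservesFiniteLimits f
    haveI : PreservesFiniteLimits (Functor.sheafPullbackConstruction.sheafPullback (Over.map f) A (K.over T) (K.over S)) := by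
      haveI : PreservesFiniteLimits (sheafToPresheaf (K.over T) A) := ⟨fun _ _ _ => inferInstance⟩
      haveI : PreservesFiniteLimits ((Over.map f).op.lan ⋙ presheafToSheaf (K.over S) A) :=
        comp_preservesFiniteLimits _ _
      unfold Functor.sheafPullbackConstruction.sheafPullback
      exact comp_preservesFiniteLimits _ _
    exact preservesFiniteLimits_of_natIso
      (Functor.sheafPullbackConstruction.sheafPullbackIso (Over.map f) A (K.over T) (K.over S)).symm
  haveI : PreservesFiniteLimits
      ((Scheme.ProEt.forget T).sheafPullback A (Scheme.ProEt.topology T) (K.over T)) := by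
    haveI : AB5OfSize.{u, u + 1} A := AB5OfSize_of_univLE A
    haveI := EtCmp.lan_preservesFiniteLimits A (Scheme.ProEt.forget T)
    exact Functor.sheafPullbackConstruction.preservesFiniteLimits (Scheme.ProEt.forget T) A
      (Scheme.ProEt.topology T) (K.over T)
  haveI : Injective (((Over.map f).sheafPushforwardContinuous A (K.over T) (K.over S)).obj I) :=
    Injective.injective_of_adjoint ((Over.map f).sheafAdjunctionContinuous A (K.over T) (K.over S)) I
  exact Injective.injective_of_adjoint
    ((Scheme.ProEt.forget T).sheafAdjunctionContinuous A (Scheme.ProEt.topology T) (K.over T))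
    (((Over.map f).sheafPushforwardContinuous A (K.over T) (K.over S)).obj I)

end Groth.Agent.ProEtWC.BigSite
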