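import Groth.Agent.ProEtWC.EpsSections
import Groth.Agent.H8Lim.BaseChange
import Groth.Agent.H8Lim.Topology
import Groth.Agent.CohColim.Ext

/-!
# Sections of `ε⁻¹F` on cofiltered limits
-/

set_option autoImplicit false
set_option linter.all false
set_option backward.isDefEq.respectTransparency.types false
set_option backward.isDefEq.respectTransparency false
set_option synthInstance.maxHeartbeats 400000
set_option maxHeartbeats 1000000

universe u

open CategoryTheory Limits AlgebraicGeometry Opposite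

namespace Groth.Agent.ProEtWC.EpsUnit

variable {X : Scheme.{u}} (F : EtCoh.Ab X) {I : Type u} [SmallCategory I] [IsCofiltered I]
  {D : I ⥤ X.ProEt} [hD : ∀ (i j : I) (a : i ⟶ j), IsAffineHom (D.map a).left]
  [hDc : ∀ i, CompactSpace ↥(D.obj i).left] [hDq : ∀ i, QuasiSeparatedSpace ↥(D.obj i).left]
  (c : Cone D) (hc : IsLimit ((Scheme.ProEt.forget X ⋙ CategoryTheory.Over.forget X).mapCone c))

include hc in
/-- A section on a qcqs object over a stage that vanishes over the limit vanishes at a later stage. -/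
theorem exists_stage_map_eq_zero {P : X.ProEt} [CompactSpace P.left] {i₀ : I} (a : P ⟶ D.obj i₀)
    (t : (G F).obj.obj (op P))
    (h : (G F).obj.map (pullback.fst a (c.π.app i₀)).op t = 0) :
    ∃ (k : I) (φ : k ⟶ i₀), ∀ {Q : X.ProEt} (q : Q ⟶ P) (b : Q ⟶ D.obj k),
      q ≫ a = b ≫ D.map φ → (G F).obj.map q.op t = 0 := by
  let Φ := Scheme.ProEt.forget X ⋙ CategoryTheory.Over.forget X
  let D' : I ⥤ Scheme.{u} := D ⋙ Φ
  haveI : ∀ {i j : I} (g : i ⟶ j), IsAffineHom (D'.map g) := fun g => hD _ _ g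
  let a' : P.left ⟶ D'.obj i₀ := a.left
  let c' : Cone D' := Φ.mapCone c
  have sq : IsPullback (pullback.fst a (c.π.app i₀)).left (pullback.snd a (c.π.app i₀)).left a'
      (c'.π.app i₀) := (IsPullback.of_hasPullback a (c.π.app i₀)).map Φ
  haveI : ∀ j, CompactSpace ↥((H8Lim.stage D' a').obj j) := fun j => inferInstance
  let U : (P.left).Opens := ⟨zset F t, isOpen_zset F t⟩
  let i : Over i₀ := Over.mk (𝟙 i₀)
  obtain ⟨j, φ, hj⟩ := exists_map_eq_top (H8Lim.stage D' a') _
    (H8Lim.isLimitStageCone a' (pullback.fst a (c.π.app i₀)).left _ sq hc) (i := i)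
    (H8Lim.stageFst D' a' i ⁻¹ᵁ U) (by
      rw [← top_le_iff]
      intro x _
      show (H8Lim.stageFst D' a' i) (H8Lim.stageProj a' c' _ _ sq i x) ∈ zset F t
      rw [← Scheme.Hom.comp_apply, H8Lim.stageProj_fst]
      exact mem_zset_of_mem_preimage F (pullback.fst a (c.π.app i₀)) t x (by
        rw [h]; exact ⟨_, 𝟙 _, inferInstanceAs (Etale (𝟙 _)), ⟨x, rfl⟩, map_zero _⟩))
  refine ⟨j.left, j.hom, fun {Q} q b hqb => eq_zero_of_zset F _ fun y => preimage_zset F q t y ?_⟩
  let l : Q.left ⟶ (H8Lim.stage D' a').obj j :=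
    (H8Lim.isPullback_stage D' a' j).lift q.left b.left (congrArg (fun m => m.left) hqb)
  have hl := hj.ge (TopologicalSpace.Opens.mem_top (l y))
  change (H8Lim.stageFst D' a' i) ((H8Lim.stage D' a').map φ (l y)) ∈ zset F t at hl
  rw [← Scheme.Hom.comp_apply, H8Lim.stageMap_fst, ← Scheme.Hom.comp_apply, IsPullback.lift_fst] at hl
  exact hl

include hc in
/-- Near a point of the limit, a section comes from an affine étale object over a stage. -/
theorem exists_stage_nhd (s : (G F).obj.obj (op c.pt)) (y : c.pt.left) :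
    ∃ (i : I) (W : X.ProEt) (q : W ⟶ D.obj i) (f : (G F).obj.obj (op W)), IsAffine W.left ∧ Etale q.left ∧
      (∃ w : W.left, q.left w = (c.π.app i).left y) ∧
      y ∈ Set.range (pullback.snd q (c.π.app i)).left ∧
      ∀ {R : X.ProEt} (r : R ⟶ W) (b : R ⟶ c.pt), r ≫ q = b ≫ c.π.app i →
        (G F).obj.map r.op f = (G F).obj.map b.op s := by
  let Φ := Scheme.ProEt.forget X ⋙ CategoryTheory.Over.forget X
  let D' : I ⥤ Scheme.{u} := D ⋙ Φ
  haveI : ∀ {i j : I} (g : i ⟶ j), IsAffineHom (D'.map g) := fun g => hD _ _ g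
  let c' : Cone D' := Φ.mapCone c
  obtain ⟨W₁, q₁, V, h₁, x, hq₁, ⟨w₁, hw₁⟩, hs⟩ := exists_etale_nhd F s y
  haveI : Etale V.hom := V.prop
  obtain ⟨i₀⟩ := IsCofiltered.nonempty (C := I)
  haveI : WeaklyEtale (D.obj i₀).hom := (D.obj i₀).prop
  let P₀ : X.ProEt := Scheme.ProEt.mk (pullback.fst (D.obj i₀).hom V.hom ≫ (D.obj i₀).hom)
  let a : P₀ ⟶ D.obj i₀ := MorphismProperty.Over.homMk (pullback.fst (D.obj i₀).hom V.hom) rfl trivial
  let b₀ : P₀ ⟶ (ProEtS.eps X).obj V := MorphismProperty.Over.homMk (pullback.snd (D.obj i₀).hom V.hom)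
    pullback.condition.symm trivial
  haveI hae : Etale a.left := inferInstanceAs (Etale (pullback.fst (D.obj i₀).hom V.hom))
  let g₁ : W₁ ⟶ P₀ := MorphismProperty.Over.homMk
    (pullback.lift (q₁ ≫ c.π.app i₀).left h₁.left
      ((CategoryTheory.Over.w (q₁ ≫ c.π.app i₀).hom).trans (CategoryTheory.Over.w h₁.hom).symm)) (by
    show _ ≫ pullback.fst (D.obj i₀).hom V.hom ≫ (D.obj i₀).hom = W₁.hom
    rw [pullback.lift_fst_assoc]
    exact CategoryTheory.Over.w (q₁ ≫ c.π.app i₀).hom) trivial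
  have hg₁a : g₁ ≫ a = q₁ ≫ c.π.app i₀ := Φ.map_injective (pullback.lift_fst _ _ _)
  have hg₁b : g₁ ≫ b₀ = h₁ := Φ.map_injective (pullback.lift_snd _ _ _)
  let Pc := pullback a (c.π.app i₀)
  let l₁ : W₁ ⟶ Pc := pullback.lift g₁ q₁ hg₁a
  let a' : P₀.left ⟶ D'.obj i₀ := a.left
  have sq : IsPullback (pullback.fst a (c.π.app i₀)).left (pullback.snd a (c.π.app i₀)).left a'
      (c'.π.app i₀) := (IsPullback.of_hasPullback a (c.π.app i₀)).map Φ
  haveI : Etale q₁.left := hq₁
  haveI : Etale (pullback.snd a (c.π.app i₀)).left := MorphismProperty.of_isPullback (P := @Etale) sq hae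
  haveI : Etale l₁.left := by
    haveI : Etale (l₁.left ≫ (pullback.snd a (c.π.app i₀)).left) := by
      have : l₁.left ≫ (pullback.snd a (c.π.app i₀)).left = q₁.left :=
        congrArg (fun t => t.left) (pullback.lift_snd _ _ hg₁a)
      rw [this]
      exact hq₁
    exact Etale.of_comp l₁.left (pullback.snd a (c.π.app i₀)).left
  obtain ⟨j, O, hO, hzO, hsub⟩ := H8Lim.exists_mem_preimage_subset
    (H8Lim.isLimitStageCone a' (pullback.fst a (c.π.app i₀)).left _ sq hc)
    l₁.left.isOpenMap.isOpen_range ⟨w₁, rfl⟩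
  let Pj := pullback a (D.map j.hom)
  have sqj : IsPullback (pullback.fst a (D.map j.hom)).left (pullback.snd a (D.map j.hom)).left a'
      (D'.map j.hom) := (IsPullback.of_hasPullback a (D.map j.hom)).map Φ
  let e : Pj.left ≅ (H8Lim.stage D' a').obj j := sqj.isoPullback
  let W := openObj Pj (e.hom ⁻¹ᵁ O)
  let q : W ⟶ D.obj j.left := openIncl Pj (e.hom ⁻¹ᵁ O) ≫ pullback.snd a (D.map j.hom)
  haveI : Etale (pullback.snd a (D.map j.hom)).left := MorphismProperty.of_isPullback (P := @Etale) sqj hae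
  have hqe : Etale q.left :=
    inferInstanceAs (Etale ((e.hom ⁻¹ᵁ O).ι ≫ (pullback.snd a (D.map j.hom)).left))
  have hcw : pullback.fst a (c.π.app i₀) ≫ a = (pullback.snd a (c.π.app i₀) ≫ c.π.app j.left) ≫ D.map j.hom := by
    rw [Category.assoc, c.w, pullback.condition]
  let m : Pc ⟶ Pj := pullback.lift _ _ hcw
  have hme : m.left ≫ e.hom = H8Lim.stageProj a' c' _ _ sq j := by
    apply pullback.hom_ext
    · rw [Category.assoc]
      erw [IsPullback.isoPullback_hom_fst, H8Lim.stageProj_fst]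
      exact congrArg (fun t => t.left) (pullback.lift_fst _ _ hcw)
    · rw [Category.assoc]
      erw [IsPullback.isoPullback_hom_snd, H8Lim.stageProj_snd]
      exact congrArg (fun t => t.left) (pullback.lift_snd _ _ hcw)
  have hmO : m.left (l₁.left w₁) ∈ e.hom ⁻¹ᵁ O := by
    show e.hom (m.left (l₁.left w₁)) ∈ O
    rw [← Scheme.Hom.comp_apply, hme]
    exact hzO
  have hwy : q.left ⟨_, hmO⟩ = (c.π.app j.left).left y := by
    show (pullback.snd a (D.map j.hom)).left (m.left (l₁.left w₁)) = _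
    have : l₁ ≫ m ≫ pullback.snd a (D.map j.hom) = q₁ ≫ c.π.app j.left := by
      rw [pullback.lift_snd, pullback.lift_snd_assoc]
    rw [← hw₁]
    exact congrArg (fun t => t.left w₁) this
  refine ⟨j.left, W, q,
    ev F V (openIncl Pj (e.hom ⁻¹ᵁ O) ≫ pullback.fst a (D.map j.hom) ≫ b₀) x,
    hO.preimage_of_isIso e.hom, hqe, ⟨⟨_, hmO⟩, hwy⟩, ?_, ?_⟩
  · obtain ⟨z, -, hz⟩ := Scheme.exists_preimage_of_isPullback
      ((IsPullback.of_hasPullback q (c.π.app j.left)).map Φ) ⟨_, hmO⟩ y hwy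
    exact ⟨z, hz⟩
  · intro R r b hrb
    rw [map_ev, ← sub_eq_zero]
    refine eq_zero_of_zset F _ fun z => ?_
    let ρ : R ⟶ P₀ := r ≫ openIncl Pj (e.hom ⁻¹ᵁ O) ≫ pullback.fst a (D.map j.hom)
    have hρ : ρ ≫ a = b ≫ c.π.app i₀ := by
      simp only [ρ, Category.assoc, pullback.condition]
      rw [← c.w j.hom, ← reassoc_of% hrb]
      simp only [q, Category.assoc]
    let l : R ⟶ Pc := pullback.lift ρ b hρ
    have hlm : l ≫ m = r ≫ openIncl Pj (e.hom ⁻¹ᵁ O) := by
      apply pullback.hom_ext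
      · rw [Category.assoc, pullback.lift_fst, pullback.lift_fst, Category.assoc]
      · rw [Category.assoc, pullback.lift_snd, pullback.lift_snd_assoc]
        rw [← hrb, Category.assoc]
    have hlO : l.left z ∈ Set.range l₁.left := hsub (by
      show H8Lim.stageProj a' c' _ _ sq j (l.left z) ∈ O
      rw [← hme, Scheme.Hom.comp_apply]
      have : m.left (l.left z) = ((openIncl Pj (e.hom ⁻¹ᵁ O)).left (r.left z) : Pj.left) :=
        congrArg (fun t => t.left z) hlm
      rw [this]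
      exact (r.left z).2)
    have hd : (G F).obj.map l₁.op (ev F V (pullback.fst a (c.π.app i₀) ≫ b₀) x -
        (G F).obj.map (pullback.snd a (c.π.app i₀)).op s) = 0 := by
      rw [map_sub, map_ev, ← Functor.map_comp_apply, ← op_comp, pullback.lift_fst_assoc, hg₁b,
        pullback.lift_snd]
      exact sub_eq_zero.2 hs.symm
    obtain ⟨w', hw'⟩ := hlO
    have := preimage_zset F l _ z (hw' ▸ mem_zset_of_map_eq_zero F _ l₁ hd w')
    rw [map_sub, map_ev, ← Functor.map_comp_apply, ← op_comp, pullback.lift_fst_assoc,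
      pullback.lift_snd] at this
    simp only [ρ, Category.assoc] at this
    exact this

include hc in
theorem exists_stage_section (s : (G F).obj.obj (op c.pt)) :
    ∃ (i : I) (t : (G F).obj.obj (op (D.obj i))), (G F).obj.map (c.π.app i).op t = s := by
  classical
  let Φ := Scheme.ProEt.forget X ⋙ CategoryTheory.Over.forget X
  let D' : I ⥤ Scheme.{u} := D ⋙ Φ
  haveI : ∀ {i j : I} (g : i ⟶ j), IsAffineHom (D'.map g) := fun g => hD _ _ g
  haveI : ∀ i, CompactSpace ↥(D'.obj i) := hDc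
  haveI : ∀ i, QuasiSeparatedSpace ↥(D'.obj i) := hDq
  haveI : CompactSpace c.pt.left := Scheme.compactSpace_of_isLimit (D := D') (c := Φ.mapCone c) hc
  choose i W q f hWa hqe hwy hyr hf using exists_stage_nhd F c hc s
  let Qy : c.pt.left → X.ProEt := fun y => pullback (q y) (c.π.app (i y))
  have hsq : ∀ y, IsPullback (pullback.fst (q y) (c.π.app (i y))).left (pullback.snd (q y) (c.π.app (i y))).left
      (q y).left (c.π.app (i y)).left := fun y => (IsPullback.of_hasPullback _ _).map Φ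
  have hopen : ∀ y, IsOpen (Set.range (pullback.snd (q y) (c.π.app (i y))).left) := fun y => by
    haveI := MorphismProperty.of_isPullback (P := @Etale) (hsq y) (hqe y)
    exact (pullback.snd (q y) (c.π.app (i y))).left.isOpenMap.isOpen_range
  obtain ⟨sf, hsf⟩ := isCompact_univ.elim_finite_subcover _ hopen (fun y _ => Set.mem_iUnion.2 ⟨y, hyr y⟩)
  obtain ⟨i₁, hi₁⟩ := IsCofiltered.inf_objs_exists (sf.image i)
  let φ : ∀ y : sf, i₁ ⟶ i y.1 := fun y => (hi₁ (Finset.mem_image_of_mem i y.2)).some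
  -- the objects over the stage `i₁`
  let U₁ : (D.obj i₁).left.Opens := ⟨⋃ y : sf, Set.range (pullback.snd (q y.1) (D.map (φ y))).left,
    isOpen_iUnion fun y => by
      haveI : Etale (pullback.snd (q y.1) (D.map (φ y))).left := MorphismProperty.of_isPullback (P := @Etale)
        ((IsPullback.of_hasPullback (q y.1) (D.map (φ y))).map Φ) (hqe y.1)
      exact (pullback.snd (q y.1) (D.map (φ y))).left.isOpenMap.isOpen_range⟩
  obtain ⟨i₂, ψ, hψ⟩ := exists_map_eq_top D' (Φ.mapCone c) hc (i := i₁) U₁ (by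
    rw [← top_le_iff]
    intro z _
    obtain ⟨y, hy, w, hw⟩ := Set.mem_iUnion₂.1 (hsf (Set.mem_univ z))
    let l : Qy y ⟶ pullback (q y) (D.map (φ ⟨y, hy⟩)) :=
      pullback.lift (pullback.fst _ _) (pullback.snd _ _ ≫ c.π.app i₁) (by
        rw [Category.assoc, c.w, pullback.condition])
    refine Set.mem_iUnion.2 ⟨⟨y, hy⟩, l.left w, ?_⟩
    have : l ≫ pullback.snd _ _ = pullback.snd _ _ ≫ c.π.app i₁ := pullback.lift_snd _ _ _
    rw [← hw]
    exact congrArg (fun t => t.left w) this)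
  let W₂ : sf → X.ProEt := fun y => pullback (q y.1) (D.map (ψ ≫ φ y))
  let q₂ : ∀ y, W₂ y ⟶ D.obj i₂ := fun y => pullback.snd (q y.1) (D.map (ψ ≫ φ y))
  let f₂ : ∀ y, (G F).obj.obj (op (W₂ y)) := fun y =>
    (G F).obj.map (pullback.fst (q y.1) (D.map (ψ ≫ φ y))).op (f y.1)
  have hW₂ : ∀ y : sf, CompactSpace (W₂ y).left := fun y => by
    haveI := hWa y.1
    haveI : IsAffineHom (Φ.map (D.map (ψ ≫ φ y))) := hD _ _ (ψ ≫ φ y)
    haveI : IsAffineHom (pullback.fst (q y.1) (D.map (ψ ≫ φ y))).left :=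
      MorphismProperty.of_isPullback (P := @IsAffineHom)
        ((IsPullback.of_hasPullback (q y.1) (D.map (ψ ≫ φ y))).map Φ).flip inferInstance
    exact QuasiCompact.compactSpace_of_compactSpace (Y := (W y.1).left) (pullback.fst (q y.1) (D.map (ψ ≫ φ y))).left
  have hf₂ : ∀ (y : sf) {R : X.ProEt} (r : R ⟶ W₂ y) (b : R ⟶ c.pt), r ≫ q₂ y = b ≫ c.π.app i₂ →
      (G F).obj.map r.op (f₂ y) = (G F).obj.map b.op s := fun y R r b h => by
    rw [← Functor.map_comp_apply, ← op_comp]
    refine hf y.1 _ b ?_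
    rw [Category.assoc, pullback.condition, ← Category.assoc, h, Category.assoc, c.w]
  have hcover₂ : ∀ z : (D.obj i₂).left, ∃ (y : sf) (w : (W₂ y).left), (q₂ y).left w = z := fun z => by
    obtain ⟨y, w, hw⟩ := Set.mem_iUnion.1 (show (D.map ψ).left z ∈ U₁ from hψ.ge (TopologicalSpace.Opens.mem_top z))
    obtain ⟨v, -, hv⟩ := Scheme.exists_preimage_of_isPullback
      ((IsPullback.of_hasPullback (q y.1) (D.map (ψ ≫ φ y))).map Φ)
      ((pullback.fst (q y.1) (D.map (φ y))).left w) z (by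
        show (pullback.fst (q y.1) (D.map (φ y)) ≫ q y.1).left w = (D.map (ψ ≫ φ y)).left z
        rw [pullback.condition, D.map_comp]
        show (D.map (φ y)).left ((pullback.snd (q y.1) (D.map (φ y))).left w) = (D.map (φ y)).left ((D.map ψ).left z)
        rw [hw])
    exact ⟨y, v, hv⟩
  -- agreement at a later stage
  have hpair : ∀ ab : sf × sf, ∃ (k : I) (θ : k ⟶ i₂), ∀ {Q : X.ProEt}
      (ga : Q ⟶ W₂ ab.1) (gb : Q ⟶ W₂ ab.2) (β : Q ⟶ D.obj k),
      ga ≫ q₂ ab.1 = β ≫ D.map θ → gb ≫ q₂ ab.2 = β ≫ D.map θ →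
        (G F).obj.map ga.op (f₂ ab.1) = (G F).obj.map gb.op (f₂ ab.2) := by
    rintro ⟨ya, yb⟩
    haveI := hW₂ ya; haveI := hW₂ yb; haveI := hDq i₂
    let P := pullback (q₂ ya) (q₂ yb)
    haveI : CompactSpace P.left := by
      haveI : QuasiSeparatedSpace ↥(Φ.obj (D.obj i₂)) := hDq i₂
      haveI : CompactSpace ↥(Φ.obj (W₂ yb)) := hW₂ yb
      haveI : QuasiCompact (Φ.map (q₂ yb)) := quasiCompact_of_compactSpace _
      haveI : QuasiCompact (pullback.fst (q₂ ya) (q₂ yb)).left :=
        MorphismProperty.of_isPullback (P := @QuasiCompact)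
          ((IsPullback.of_hasPullback (q₂ ya) (q₂ yb)).map Φ).flip inferInstance
      exact QuasiCompact.compactSpace_of_compactSpace (Y := (W₂ ya).left) (pullback.fst (q₂ ya) (q₂ yb)).left
    let pa : P ⟶ W₂ ya := pullback.fst _ _
    let pb : P ⟶ W₂ yb := pullback.snd _ _
    obtain ⟨k, θ, hk⟩ := exists_stage_map_eq_zero F c hc (pa ≫ q₂ ya)
      ((G F).obj.map pa.op (f₂ ya) - (G F).obj.map pb.op (f₂ yb)) (by
        have ea := hf₂ ya (pullback.fst (pa ≫ q₂ ya) (c.π.app i₂) ≫ pa) (pullback.snd _ _)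
          ((Category.assoc _ _ _).trans pullback.condition)
        have eb := hf₂ yb (pullback.fst (pa ≫ q₂ ya) (c.π.app i₂) ≫ pb) (pullback.snd _ _) (by
            rw [Category.assoc, show pb ≫ q₂ yb = pa ≫ q₂ ya from pullback.condition.symm]
            exact pullback.condition)
        simp only [op_comp, Functor.map_comp_apply] at ea eb
        rw [map_sub, sub_eq_zero]
        exact ea.trans eb.symm)
    refine ⟨k, θ, fun {Q} ga gb β ha hb => ?_⟩
    let l : Q ⟶ P := pullback.lift ga gb (ha.trans hb.symm)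
    have la : l ≫ pa = ga := pullback.lift_fst _ _ _
    have lb : l ≫ pb = gb := pullback.lift_snd _ _ _
    have := hk l β (by rw [← Category.assoc, la]; exact ha)
    rw [map_sub, sub_eq_zero] at this
    rw [← la, ← lb]
    simp only [op_comp, Functor.map_comp_apply]
    exact this
  choose kp θp hp using hpair
  obtain ⟨i₃, θ, hθ⟩ : ∃ (k : I) (θ : k ⟶ i₂), ∀ ab, ∃ ρ : k ⟶ kp ab, ρ ≫ θp ab = θ := by
    obtain ⟨k, h1, h2⟩ := IsCofiltered.inf_exists
      ({i₂} ∪ (Finset.univ.image kp))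
      (Finset.univ.image fun ab => (⟨kp ab, i₂, by simp, by simp, θp ab⟩ :
        Σ' (X Y : I) (_ : X ∈ {i₂} ∪ (Finset.univ.image kp)) (_ : Y ∈ {i₂} ∪ (Finset.univ.image kp)), X ⟶ Y))
    exact ⟨k, h1 (by simp), fun ab => ⟨h1 (by simp),
      h2 (by simp) (by simp) (Finset.mem_image_of_mem _ (Finset.mem_univ ab))⟩⟩
  let W₃ : ULift.{u + 1} sf → X.ProEt := fun y => pullback (q₂ y.down) (D.map θ)
  let q₃ : ∀ y, W₃ y ⟶ D.obj i₃ := fun y => pullback.snd (q₂ y.down) (D.map θ)
  have hq₃ : ∀ y, Etale (q₃ y).left := fun y =>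
    MorphismProperty.of_isPullback (P := @Etale) ((IsPullback.of_hasPullback (q₂ y.down) (D.map θ)).map Φ)
      (MorphismProperty.of_isPullback (P := @Etale)
        ((IsPullback.of_hasPullback (q y.down.1) (D.map (ψ ≫ φ y.down))).map Φ) (hqe y.down.1))
  have hcover₃ : ∀ z : (D.obj i₃).left, ∃ (y : ULift.{u + 1} sf) (w : (W₃ y).left), (q₃ y).left w = z := fun z => by
    obtain ⟨y, w, hw⟩ := hcover₂ ((D.map θ).left z)
    obtain ⟨v, -, hv⟩ := Scheme.exists_preimage_of_isPullback
      ((IsPullback.of_hasPullback (q₂ y) (D.map θ)).map Φ) w z hw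
    exact ⟨⟨y⟩, v, hv⟩
  have hmem : Sieve.ofArrows W₃ q₃ ∈ Scheme.ProEt.topology X (D.obj i₃) :=
    mem_of_etale_points _ fun z => by
      obtain ⟨y, w, hw⟩ := hcover₃ z
      exact ⟨W₃ y, q₃ y, hq₃ y, Sieve.ofArrows_mk _ _ y, w, hw⟩
  obtain ⟨t, ht, -⟩ := EtCechLib.existsUnique_amalgamation (G F) q₃ hmem
    (fun y => (G F).obj.map (pullback.fst (q₂ y.down) (D.map θ)).op (f₂ y.down))
    fun ya yb Q ga gb hab => by
      obtain ⟨ρ, hρ⟩ := hθ (ya.down, yb.down)
      have key := hp (ya.down, yb.down) (ga ≫ pullback.fst (q₂ ya.down) (D.map θ))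
        (gb ≫ pullback.fst (q₂ yb.down) (D.map θ)) (ga ≫ q₃ ya ≫ D.map ρ) (by
          simp only [Category.assoc, ← D.map_comp, hρ]
          exact congrArg (fun t => ga ≫ t) pullback.condition) (by
          simp only [Category.assoc, ← D.map_comp, hρ]
          rw [← Category.assoc ga, hab, Category.assoc]
          exact congrArg (fun t => gb ≫ t) pullback.condition)
      simp only [op_comp, Functor.map_comp_apply] at key
      exact key
  refine ⟨i₃, t, ?_⟩
  let R₃ : ULift.{u + 1} sf → X.ProEt := fun y => pullback (q₃ y) (c.π.app i₃)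
  let r₃ : ∀ y, R₃ y ⟶ c.pt := fun y => pullback.snd (q₃ y) (c.π.app i₃)
  refine EtCechLib.ext_of_cover (G F) r₃ (mem_of_etale_points _ fun z => ?_) fun y => ?_
  · obtain ⟨y, w, hw⟩ := hcover₃ ((c.π.app i₃).left z)
    have hs := (IsPullback.of_hasPullback (q₃ y) (c.π.app i₃)).map Φ
    obtain ⟨v, -, hv⟩ := Scheme.exists_preimage_of_isPullback hs w z hw
    exact ⟨R₃ y, r₃ y, MorphismProperty.of_isPullback (P := @Etale) hs (hq₃ y), Sieve.ofArrows_mk _ _ y, v, hv⟩
  · refine (ConcreteCategory.congr_hom ((G F).obj.map_comp (c.π.app i₃).op (r₃ y).op) t).symm.trans ?_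
    show (G F).obj.map (r₃ y ≫ c.π.app i₃).op t = _
    rw [
      show r₃ y ≫ c.π.app i₃ = pullback.fst (q₃ y) (c.π.app i₃) ≫ q₃ y from pullback.condition.symm,
      op_comp, Functor.map_comp_apply, ht]
    have key := hf₂ y.down (pullback.fst (q₃ y) (c.π.app i₃) ≫ pullback.fst (q₂ y.down) (D.map θ)) (r₃ y) (by
      rw [Category.assoc, show pullback.fst (q₂ y.down) (D.map θ) ≫ q₂ y.down = q₃ y ≫ D.map θ from pullback.condition,
        ← Category.assoc, show pullback.fst (q₃ y) (c.π.app i₃) ≫ q₃ y = r₃ y ≫ c.π.app i₃ from pullback.condition,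
        Category.assoc, c.w])
    simp only [op_comp, Functor.map_comp_apply] at key
    exact key

include hc in
theorem exists_stage_eq {i : I} (t t' : (G F).obj.obj (op (D.obj i)))
    (h : (G F).obj.map (c.π.app i).op t = (G F).obj.map (c.π.app i).op t') :
    ∃ (k : I) (φ : k ⟶ i), (G F).obj.map (D.map φ).op t = (G F).obj.map (D.map φ).op t' := by
  haveI := hDc i
  obtain ⟨k, φ, hk⟩ := exists_stage_map_eq_zero F c hc (𝟙 (D.obj i)) (t - t') (by
    rw [show pullback.fst (𝟙 (D.obj i)) (c.π.app i) = pullback.snd (𝟙 (D.obj i)) (c.π.app i) ≫ c.π.app i from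
      by rw [← pullback.condition, Category.comp_id], op_comp, Functor.map_comp_apply, map_sub, map_sub,
      sub_eq_zero, h])
  refine ⟨k, φ, sub_eq_zero.1 ?_⟩
  rw [← map_sub]
  exact hk (D.map φ) (𝟙 _) (by simp)

include hc in
theorem isColimit_sections [ProEtS.EpsCont X] :
    Nonempty (IsColimit (((ProEtS.epsPull X).obj F).obj.mapCocone c.op)) := by
  let A := AddCommGrpCat.{u + 1}
  let adj := Functor.sheafAdjunctionContinuous (ProEtS.eps X) A X.smallEtaleTopology (Scheme.ProEt.topology X)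
  let adj' := Functor.sheafPullbackConstruction.sheafAdjunctionContinuous (ProEtS.eps X) A X.smallEtaleTopology
    (Scheme.ProEt.topology X)
  let e : ((ProEtS.epsPull X).obj F).obj ≅ (G F).obj :=
    (sheafToPresheaf _ _).mapIso ((adj.leftAdjointUniq adj').app F)
  suffices h : Nonempty (IsColimit ((G F).obj.mapCocone c.op)) from
    h.map fun hh => IsColimit.mapCoconeEquiv e.symm hh
  haveI : PreservesFilteredColimitsOfSize.{u, u} (CategoryTheory.forget A) :=
    preservesFilteredColimitsOfSize_shrink.{u, u + 1, u, u + 1} _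
  haveI : PreservesColimitsOfShape Iᵒᵖ (CategoryTheory.forget A) :=
    PreservesFilteredColimitsOfSize.preserves_filtered_colimits _
  haveI : ReflectsColimitsOfShape Iᵒᵖ (CategoryTheory.forget A) := reflectsColimitsOfShape_of_reflectsIsomorphisms
  refine ⟨isColimitOfReflects (CategoryTheory.forget A) (Types.FilteredColimit.isColimitOf' _ _ (fun x => ?_)
    fun i x y h => ?_)⟩
  · obtain ⟨i, t, ht⟩ := exists_stage_section F c hc x
    exact ⟨op i, t, ht.symm⟩
  · obtain ⟨k, φ, hk⟩ := exists_stage_eq F c hc (i := i.unop) x y h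
    exact ⟨op k, φ.op, hk⟩

end Groth.Agent.ProEtWC.EpsUnit
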