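import Mathlib
import Groth.Agent.ProEtWC.PullSections
import Groth.Agent.ProEtWC.ExtZeroLimits
import Groth.Agent.S0176
import Groth.Agent.HenselLib.IndEtaleLift
import Groth.Agent.HenselLib.PairHens
import Groth.Agent.HenselLib.HullInd
import Groth.Agent.HenselLib.Unique

/-!
# Covers of the small pro-étale site of a closed subscheme by restrictions
-/

set_option autoImplicit false
set_option linter.all false
set_option backward.isDefEq.respectTransparency.types false
set_option backward.isDefEq.respectTransparency false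
set_option synthInstance.maxHeartbeats 400000
set_option maxHeartbeats 1000000

universe u

open CategoryTheory Limits AlgebraicGeometry Opposite MorphismProperty TensorProduct

namespace Groth.Agent.ProEtWC

/-- Points modulo a henselian ideal of ind-étale algebras lift. -/
theorem exists_lift_of_indEtale {R A B : Type u} [CommRing R] [CommRing A] [CommRing B] [Algebra R A]
    [Algebra R B] (J : Ideal A) [HenselianRing A J] (h : EtPBC.IsIndEtale R B) (σ : B →ₐ[R] A ⧸ J) :
    ∃ τ : B →ₐ[R] A, (Ideal.Quotient.mkₐ R J).comp τ = σ := by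
  obtain ⟨Jc, _, _, D, c, hc, hD, ⟨e⟩⟩ := h
  let cB := c.extend e.hom
  let hcB : IsColimit cB := hc.extendIso e.hom
  letI : ∀ j, Algebra R (D.obj j).right := fun j => (D.obj j).hom.hom.toAlgebra
  haveI : ∀ j, Algebra.Etale R (D.obj j).right := hD
  let ιj : ∀ j, (D.obj j).right →ₐ[R] B := fun j =>
    { (cB.ι.app j).right.hom with
      commutes' := fun a => ConcreteCategory.congr_hom (Under.w (cB.ι.app j)) a }
  choose τ hτ hu using fun j => HenselLib.existsUnique_lift J (σ.comp (ιj j))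
  let tc : Cocone D :=
    { pt := Under.mk (CommRingCat.ofHom (algebraMap R A))
      ι :=
        { app := fun j => Under.homMk (CommRingCat.ofHom (τ j).toRingHom)
            (CommRingCat.hom_ext (τ j).comp_algebraMap)
          naturality := fun j k f => by
            let φ : (D.obj j).right →ₐ[R] (D.obj k).right :=
              { (D.map f).right.hom with commutes' := fun a => ConcreteCategory.congr_hom (Under.w (D.map f)) a }
            have hw : (ιj k).comp φ = ιj j := AlgHom.ext fun a =>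
              ConcreteCategory.congr_hom (congrArg (fun φ => φ.right) (cB.w f)) a
            have : (τ k).comp φ = τ j := hu j _ (by
              show (Ideal.Quotient.mkₐ R J).comp ((τ k).comp φ) = σ.comp (ιj j)
              rw [← AlgHom.comp_assoc, hτ k, AlgHom.comp_assoc, hw])
            ext a
            exact DFunLike.congr_fun this a } }
  let t := hcB.desc tc
  refine ⟨{ t.right.hom with commutes' := fun a => ConcreteCategory.congr_hom (Under.w t) a }, AlgHom.ext fun b => ?_⟩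
  have hcc : IsColimit ((CategoryTheory.Under.forget _).mapCocone cB) := isColimitOfPreserves (CategoryTheory.Under.forget _) hcB
  obtain ⟨j, y, hy⟩ := Concrete.isColimit_exists_rep (D ⋙ CategoryTheory.Under.forget _) hcc b
  have h1 : t.right.hom b = τ j y := by
    rw [← hy]
    exact ConcreteCategory.congr_hom (congrArg (fun φ => φ.right) (hcB.fac tc j)) y
  show Ideal.Quotient.mk J (t.right.hom b) = σ b
  rw [h1, ← hy]
  exact DFunLike.congr_fun (hτ j) y

/-- A ring henselian along an ideal with w-contractible quotient is w-contractible. -/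
theorem wContractible_of_henselian {R S : Type u} [CommRing R] [CommRing S] (π : R →+* S)
    (hπ : Function.Surjective π) [HenselianRing R (RingHom.ker π)] (hS : EtPBC.IsWContractible S) :
    EtPBC.IsWContractible R := by
  intro C _ _ hff hwe
  haveI := hff
  haveI := hwe
  obtain ⟨C', _, _, _, _, hff', -, hind⟩ := S0176.result R C
  haveI := hff'
  haveI : Module.FaithfullyFlat R C' := Module.FaithfullyFlat.trans R C C'
  letI := π.toAlgebra
  obtain ⟨σ⟩ := hS (S ⊗[R] C') inferInstance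
    (HenselLib.IndEt.weaklyEtale _ _ (HenselLib.IndEt.baseChange R C' S hind))
  let e : (R ⧸ RingHom.ker π) ≃+* S := RingHom.quotientKerEquivOfSurjective hπ
  let σ' : C' →ₐ[R] R ⧸ RingHom.ker π :=
    { (e.symm.toRingHom.comp σ.toRingHom).comp (Algebra.TensorProduct.includeRight.toRingHom) with
      commutes' := fun r => by
        show e.symm (σ ((Algebra.TensorProduct.includeRight : C' →ₐ[R] S ⊗[R] C') (algebraMap R C' r))) =
          Ideal.Quotient.mk _ r
        rw [AlgHom.commutes, IsScalarTower.algebraMap_apply R S (S ⊗[R] C'), σ.commutes, RingEquiv.symm_apply_eq]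
        rfl }
  obtain ⟨τ, -⟩ := exists_lift_of_indEtale (RingHom.ker π) hind σ'
  exact ⟨τ.comp (IsScalarTower.toAlgHom R C C')⟩

variable {X Z : Scheme.{u}} (i : Z ⟶ X) [IsClosedImmersion i]

/-- Near every point, an object over the closed subscheme is covered by the closed part of an affine
w-contractible object all of whose closed points lie on the closed subscheme. -/
theorem exists_good_near (W : Z.ProEt) (w : W.left) :
    ∃ (V : X.ProEt) (O : W.left.Opens) (b : (ProEtS.bcP i).obj V ⟶ openObj W O),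
      IsAffine V.left ∧ EtPBC.IsWContractible Γ(V.left, ⊤) ∧
      (∀ v : V.left, ∃ z : V.left, V.hom z ∈ Set.range i.base ∧ v ⤳ z) ∧
      IsAffineOpen O ∧ w ∈ O ∧ Function.Surjective b.left := by
  obtain ⟨U, hU, hwU, -⟩ := exists_isAffineOpen_mem_and_subset (X := X) (x := i (W.hom w)) (U := ⊤) trivial
  let ZU : Z.Opens := i ⁻¹ᵁ U
  have hZU : IsAffineOpen ZU := hU.preimage i
  obtain ⟨O, hO, hwO, hle⟩ := exists_isAffineOpen_mem_and_subset (X := W.left) (x := w)
    (U := W.hom ⁻¹ᵁ ZU) hwU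
  let π : Γ(X, U) ⟶ Γ(Z, ZU) := i.app U
  have hπs : Function.Surjective π.hom := i.app_surjective U hU
  have hπ : Spec.map π ≫ hU.fromSpec = hZU.fromSpec ≫ i := by
    show Spec.map (i.app U) ≫ _ = _
    rw [← i.appLE_eq_app]
    exact hU.SpecMap_appLE_fromSpec i hZU le_rfl
  let α : Γ(Z, ZU) ⟶ Γ(W.left, O) := W.hom.appLE ZU O hle
  have hα : Spec.map α ≫ hZU.fromSpec = hO.fromSpec ≫ W.hom := hZU.SpecMap_appLE_fromSpec W.hom hO hle
  let I := RingHom.ker π.hom
  let e : (Γ(X, U) ⧸ I) ≃+* Γ(Z, ZU) := RingHom.quotientKerEquivOfSurjective hπs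
  letI := α.hom.toAlgebra
  haveI : Algebra.WeaklyEtale Γ(Z, ZU) Γ(W.left, O) := by
    rw [← SchMor12.weaklyEtale_SpecMap_iff]
    show WeaklyEtale (Spec.map α)
    exact MorphismProperty.of_postcomp (W := @WeaklyEtale) (W' := @WeaklyEtale) (Spec.map α) hZU.fromSpec
      (inferInstanceAs (WeaklyEtale hZU.fromSpec))
      (show WeaklyEtale (Spec.map α ≫ hZU.fromSpec) by rw [hα]; infer_instance)
  letI : Algebra (Γ(X, U) ⧸ I) Γ(Z, ZU) := e.toRingHom.toAlgebra
  let e' : (Γ(X, U) ⧸ I) ≃ₐ[Γ(X, U) ⧸ I] Γ(Z, ZU) := { e with commutes' := fun _ => rfl }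
  haveI : Algebra.Etale (Γ(X, U) ⧸ I) Γ(Z, ZU) := Algebra.Etale.of_equiv e'
  letI : Algebra (Γ(X, U) ⧸ I) Γ(W.left, O) := (α.hom.comp e.toRingHom).toAlgebra
  haveI : IsScalarTower (Γ(X, U) ⧸ I) Γ(Z, ZU) Γ(W.left, O) := IsScalarTower.of_algebraMap_eq' rfl
  haveI : Algebra.WeaklyEtale (Γ(X, U) ⧸ I) Γ(W.left, O) := Algebra.WeaklyEtale.trans _ Γ(Z, ZU) _
  obtain ⟨B₁, _, _, _, _, hff₁, -, hind₁⟩ := S0176.result (Γ(X, U) ⧸ I) Γ(W.left, O)
  obtain ⟨B, _, _, hff₂, hind₂, hwcB⟩ := HenselLib.WCtr.exists_indEtale_wContractible B₁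
  letI : Algebra (Γ(X, U) ⧸ I) B := ((algebraMap B₁ B).comp (algebraMap _ B₁)).toAlgebra
  haveI : IsScalarTower (Γ(X, U) ⧸ I) B₁ B := IsScalarTower.of_algebraMap_eq' rfl
  have hindB : EtPBC.IsIndEtale (Γ(X, U) ⧸ I) B := HenselLib.IndEt.trans _ B₁ B hind₁ hind₂
  letI : Algebra Γ(W.left, O) B := ((algebraMap B₁ B).comp (algebraMap _ B₁)).toAlgebra
  haveI : IsScalarTower Γ(W.left, O) B₁ B := IsScalarTower.of_algebraMap_eq' rfl
  haveI := hff₁
  haveI := hff₂
  haveI : Module.FaithfullyFlat Γ(W.left, O) B := Module.FaithfullyFlat.trans _ B₁ B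
  obtain ⟨C, _, _, hindC, ⟨ψ⟩⟩ := HenselLib.IndLift.exists_lift I B hindB
  let IC := I.map (algebraMap Γ(X, U) C)
  let H := HenselLib.PairH C IC
  let θ : H →ₐ[C] C ⧸ IC := HenselLib.hullPt C (C ⧸ IC)
  let ρ : H →+* B := ψ.toRingEquiv.toRingHom.comp θ.toRingHom
  have hρs : Function.Surjective ρ := ψ.surjective.comp (HenselLib.hullPt_surjective C IC)
  have hρker : RingHom.ker ρ = IC.map (algebraMap C H) := by
    refine Eq.trans ?_ (HenselLib.ker_hullPt_pair C IC)
    exact RingHom.ker_equiv_comp _ ψ.toRingEquiv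
  haveI : HenselianRing H (RingHom.ker ρ) := hρker ▸ (HenselLib.isPairHull_pairH C IC).1
  have hwcH : EtPBC.IsWContractible H := wContractible_of_henselian ρ hρs hwcB
  letI : Algebra Γ(X, U) H := ((algebraMap C H).comp (algebraMap Γ(X, U) C)).toAlgebra
  haveI : IsScalarTower Γ(X, U) C H := IsScalarTower.of_algebraMap_eq' rfl
  have hindH : EtPBC.IsIndEtale Γ(X, U) H :=
    HenselLib.IndEt.trans _ C H hindC (HenselLib.isIndEtale_hull C (C ⧸ IC) H AlgEquiv.refl)
  let η : Γ(X, U) ⟶ CommRingCat.of H := CommRingCat.ofHom (algebraMap Γ(X, U) H)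
  haveI : WeaklyEtale (Spec.map η) :=
    (SchMor12.weaklyEtale_SpecMap_iff Γ(X, U) H).2 (HenselLib.IndEt.weaklyEtale _ _ hindH)
  let V : X.ProEt := Scheme.ProEt.mk (Spec.map η ≫ hU.fromSpec)
  have hVa : IsAffine V.left := inferInstanceAs (IsAffine (Spec (CommRingCat.of H)))
  haveI := hVa
  let β : Γ(W.left, O) ⟶ CommRingCat.of B := CommRingCat.ofHom (algebraMap Γ(W.left, O) B)
  let r : CommRingCat.of H ⟶ CommRingCat.of B := CommRingCat.ofHom ρ
  have hsq : η ≫ r = π ≫ α ≫ β := by
    refine CommRingCat.hom_ext (RingHom.ext fun a => ?_)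
    show ψ (θ (algebraMap C H (algebraMap Γ(X, U) C a))) = algebraMap B₁ B (algebraMap Γ(W.left, O) B₁ (α.hom (π.hom a)))
    rw [θ.commutes]
    have h1 : algebraMap C (C ⧸ IC) (algebraMap Γ(X, U) C a) =
        algebraMap (Γ(X, U) ⧸ I) (C ⧸ IC) (Ideal.Quotient.mk I a) := rfl
    rw [h1, ψ.commutes]
    show algebraMap B₁ B (algebraMap _ B₁ (Ideal.Quotient.mk I a)) = _
    rw [IsScalarTower.algebraMap_apply (Γ(X, U) ⧸ I) Γ(W.left, O) B₁]
    rfl
  have hgood : ∀ v : V.left, ∃ z : V.left, V.hom z ∈ Set.range i.base ∧ v ⤳ z := fun v => by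
    obtain ⟨M, hM, hvM⟩ := Ideal.exists_le_maximal (show PrimeSpectrum H from v).asIdeal
      (show PrimeSpectrum H from v).isPrime.ne_top
    refine ⟨(⟨M, hM.isPrime⟩ : PrimeSpectrum H), ?_, (PrimeSpectrum.le_iff_specializes _ _).1 hvM⟩
    have hker : RingHom.ker ρ ≤ M :=
      (HenselianRing.jac (I := RingHom.ker ρ)).trans (sInf_le ⟨bot_le, hM⟩)
    obtain ⟨q, hq⟩ : PrimeSpectrum.comap η.hom ⟨M, hM.isPrime⟩ ∈ Set.range (PrimeSpectrum.comap π.hom) := by
      rw [range_comap_of_surjective _ _ hπs]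
      intro a ha
      refine hker ?_
      show ρ (η.hom a) = 0
      have := ConcreteCategory.congr_hom hsq a
      exact this.trans (by show β.hom (α.hom (π.hom a)) = 0; rw [RingHom.mem_ker.1 ha, map_zero, map_zero])
    refine ⟨hZU.fromSpec q, ?_⟩
    show (hZU.fromSpec ≫ i) q = hU.fromSpec (Spec.map η ⟨M, hM.isPrime⟩)
    rw [← hπ]
    exact congrArg hU.fromSpec hq
  haveI := isAffine_bc i V
  let P := ((ProEtS.bcP i).obj V).left
  let χ : P ⟶ Spec (CommRingCat.of H) := bcFst i V
  have hχ : χ ≫ Spec.map η ≫ hU.fromSpec = ((ProEtS.bcP i).obj V).hom ≫ i := pullback.condition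
  have hrange : Set.range ((ProEtS.bcP i).obj V).hom ⊆ Set.range hZU.fromSpec := by
    rintro _ ⟨y, rfl⟩
    rw [hZU.range_fromSpec]
    show i (((ProEtS.bcP i).obj V).hom y) ∈ (U : Set X)
    have h3 : i (((ProEtS.bcP i).obj V).hom y) = (χ ≫ Spec.map η ≫ hU.fromSpec) y :=
      (congrArg (fun φ => φ y) hχ).symm
    rw [h3, ← hU.range_fromSpec]
    exact ⟨_, rfl⟩
  let s := IsOpenImmersion.lift hZU.fromSpec ((ProEtS.bcP i).obj V).hom hrange
  have hs : χ ≫ Spec.map η = s ≫ Spec.map π := by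
    rw [← cancel_mono hU.fromSpec, Category.assoc, hχ, Category.assoc, hπ, IsOpenImmersion.lift_fac_assoc]
  obtain ⟨f, hf⟩ := Spec.map_surjective (P.isoSpec.inv ≫ χ)
  obtain ⟨g, hg⟩ := Spec.map_surjective (P.isoSpec.inv ≫ s)
  have hfg : η ≫ f = π ≫ g := Spec.map_injective (by
    rw [Spec.map_comp, Spec.map_comp, hf, hg, Category.assoc, Category.assoc, hs])
  have hfker : ∀ x, ρ x = 0 → f.hom x = 0 := fun x hx => by
    have hle' : RingHom.ker ρ ≤ RingHom.ker f.hom := by
      rw [hρker, Ideal.map_le_iff_le_comap, Ideal.map_le_iff_le_comap]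
      intro a ha
      show f.hom (η.hom a) = 0
      have := ConcreteCategory.congr_hom hfg a
      exact this.trans (by show g.hom (π.hom a) = 0; rw [RingHom.mem_ker.1 ha, map_zero])
    exact hle' hx
  let f' : CommRingCat.of B ⟶ Γ(P, ⊤) := CommRingCat.ofHom (RingHom.liftOfSurjective ρ hρs ⟨f.hom, hfker⟩)
  have hf' : r ≫ f' = f := CommRingCat.hom_ext
    (RingHom.liftOfRightInverse_comp ρ _ (Function.rightInverse_surjInv hρs) ⟨f.hom, hfker⟩)
  let m : P ⟶ Spec (CommRingCat.of B) := P.isoSpec.hom ≫ Spec.map f'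
  have hm : m ≫ Spec.map r = χ := by
    show (P.isoSpec.hom ≫ Spec.map f') ≫ Spec.map r = χ
    rw [Category.assoc, ← Spec.map_comp, hf', hf, Iso.hom_inv_id_assoc]
  let q₀ : Spec (CommRingCat.of B) ⟶ O.toScheme := Spec.map β ≫ hO.isoSpec.inv
  have hq₀ : q₀ ≫ O.ι = Spec.map β ≫ hO.fromSpec := by
    show (Spec.map β ≫ hO.isoSpec.inv) ≫ O.ι = _
    rw [Category.assoc, hO.isoSpec_inv_ι]
  have key : Spec.map β ≫ hO.fromSpec ≫ W.hom ≫ i = Spec.map r ≫ Spec.map η ≫ hU.fromSpec := by
    rw [← reassoc_of% hα, ← hπ]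
    simp only [← Spec.map_comp_assoc]
    rw [hsq]
    simp only [Category.assoc]
  have hb : m ≫ q₀ ≫ O.ι ≫ W.hom = ((ProEtS.bcP i).obj V).hom := by
    rw [← cancel_mono i]
    calc (m ≫ q₀ ≫ O.ι ≫ W.hom) ≫ i = m ≫ (q₀ ≫ O.ι) ≫ W.hom ≫ i := by simp only [Category.assoc]
      _ = m ≫ Spec.map r ≫ Spec.map η ≫ hU.fromSpec :=
        congrArg (m ≫ ·) (((congrArg (fun z => z ≫ W.hom ≫ i) hq₀).trans (Category.assoc _ _ _)).trans key)
      _ = χ ≫ Spec.map η ≫ hU.fromSpec :=
        (Category.assoc _ _ _).symm.trans (congrArg (fun z => z ≫ Spec.map η ≫ hU.fromSpec) hm)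
      _ = _ := hχ
  refine ⟨V, O, MorphismProperty.Over.homMk (m ≫ q₀) (by rw [Category.assoc]; exact hb) trivial, hVa, ?_,
    hgood, hO, hwO, fun y => ?_⟩
  · exact wContractible_of_ringEquiv (Scheme.ΓSpecIso (CommRingCat.of H)).symm.commRingCatIsoToRingEquiv hwcH
  · obtain ⟨p, hp⟩ := PrimeSpectrum.comap_surjective_of_faithfullyFlat (A := Γ(W.left, O)) (B := B)
      (hO.isoSpec.hom y)
    have hp' : V.hom (Spec.map r p) ∈ Set.range i.base := by
      refine ⟨hZU.fromSpec (Spec.map α (Spec.map β p)), ?_⟩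
      show (hZU.fromSpec ≫ i) (Spec.map α (Spec.map β p)) = (Spec.map r ≫ Spec.map η ≫ hU.fromSpec) p
      rw [← hπ, ← Spec.map_comp_assoc, hsq, Spec.map_comp, Spec.map_comp]
      rfl
    obtain ⟨x, hx⟩ : Spec.map r p ∈ Set.range χ.base := (range_bcFst i V).ge hp'
    have hmx : m x = p := by
      refine PrimeSpectrum.comap_injective_of_surjective ρ hρs ?_
      show Spec.map r (m x) = Spec.map r p
      rw [← hx, ← Scheme.Hom.comp_apply, hm]
    refine ⟨x, ?_⟩
    show q₀ (m x) = y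
    rw [hmx]
    show hO.isoSpec.inv (Spec.map β p) = y
    rw [show Spec.map β p = hO.isoSpec.hom y from hp, ← Scheme.Hom.comp_apply, Iso.hom_inv_id]
    rfl

variable [ProEtS.PCont i]

/-- Morphisms of sheaves on the closed subscheme may be tested on the restrictions of good objects. -/
theorem isIso_of_bc_good {F G : ProEtS.AbP Z} (φ : F ⟶ G)
    (h : ∀ (V : X.ProEt), IsAffine V.left → EtPBC.IsWContractible Γ(V.left, ⊤) →
      (∀ v : V.left, ∃ z : V.left, V.hom z ∈ Set.range i.base ∧ v ⤳ z) →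
      Function.Bijective (φ.hom.app (op ((ProEtS.bcP i).obj V)))) : IsIso φ := by
  let J := Scheme.ProEt.topology Z
  have hcov : ∀ W : Z.ProEt, ∃ (ι : Type u) (V : ι → X.ProEt) (b : ∀ k, (ProEtS.bcP i).obj (V k) ⟶ W),
      Sieve.generate (Presieve.ofArrows (fun k => (ProEtS.bcP i).obj (V k)) b) ∈ J W ∧
      ∀ k, Function.Bijective (φ.hom.app (op ((ProEtS.bcP i).obj (V k)))) := by
    intro W
    choose V O b hVa hwc hV hO hw hs using fun w => exists_good_near i W w
    refine ⟨W.left, V, fun w => b w ≫ openIncl W (O w), ?_, fun w => h (V w) (hVa w) (hwc w) (hV w)⟩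
    haveI : ∀ w, IsOpenImmersion (openIncl W (O w)).left := fun w => inferInstanceAs (IsOpenImmersion (O w).ι)
    refine J.transitive (Precoverage.generate_mem_toGrothendieck
      (ofArrows_mem_precoverage (fun w => openObj W (O w)) (fun w => openIncl W (O w))
        fun w => ⟨w, ⟨w, hw w⟩, rfl⟩)) _ ?_
    rintro T f ⟨_, c, _, ⟨w⟩, rfl⟩
    rw [Sieve.pullback_comp]
    refine J.pullback_stable c ?_
    haveI : IsAffine (openObj W (O w)).left := hO w
    haveI := hVa w
    haveI := isAffine_bc i (V w)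
    refine J.superset_covering ?_ (Et18.mem_topology_of_finite (fun _ : PUnit.{1} => (ProEtS.bcP i).obj (V w))
      (fun _ => b w) fun x => ⟨⟨⟩, hs w x⟩)
    rintro T' e ⟨_, d, _, ⟨⟩, rfl⟩
    exact ⟨_, d, _, ⟨w⟩, (Category.assoc _ _ _).symm⟩
  haveI : Sheaf.IsLocallySurjective φ := ⟨fun {W} s => by
    obtain ⟨ι, V, b, hb, hbij⟩ := hcov W
    refine J.superset_covering ?_ hb
    rintro T f ⟨_, c, _, ⟨k⟩, rfl⟩
    exact (Presheaf.imageSieve φ.hom s).downward_closed ((hbij k).2 _) c⟩
  haveI : Sheaf.IsLocallyInjective φ := ⟨fun {W} x y hxy => by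
    obtain ⟨ι, V, b, hb, hbij⟩ := hcov W.unop
    refine J.superset_covering ?_ hb
    rintro T f ⟨_, c, _, ⟨k⟩, rfl⟩
    refine (Presheaf.equalizerSieve x y).downward_closed ?_ c
    apply (hbij k).1
    show φ.hom.app _ (F.obj.map (b k).op x) = φ.hom.app _ (F.obj.map (b k).op y)
    erw [NatTrans.naturality_apply, NatTrans.naturality_apply]
    exact congrArg _ hxy⟩
  haveI : Epi φ := (Sheaf.isLocallySurjective_iff_epi' (J := Scheme.ProEt.topology Z) AddCommGrpCat.{u + 1} φ).1 ‹_›
  haveI : Mono φ := Sheaf.mono_of_injective φ ((Sheaf.isLocallyInjective_iff_injective φ).1 ‹_›)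
  exact isIso_of_mono_of_epi φ

/-- The counit of a closed immersion is an isomorphism. -/
theorem isIso_counit_closedImmersion (F : ProEtS.AbP Z) : IsIso ((ProEtS.pullPushAdjP i).counit.app F) := by
  refine isIso_of_bc_good i _ fun V hV hwc hgood => ?_
  haveI := hV
  have hu := unit_bijective_of_closedPoints i V hgood hwc ((ProEtS.pushP i).obj F)
  have htri := (ProEtS.pullPushAdjP i).right_triangle_components F
  have h1 : ∀ x, ((ProEtS.pullPushAdjP i).counit.app F).hom.app (op ((ProEtS.bcP i).obj V))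
      (((ProEtS.pullPushAdjP i).unit.app ((ProEtS.pushP i).obj F)).hom.app (op V) x) = x :=
    fun x => congrArg (fun φ => φ.hom.app (op V) x) htri
  constructor
  · intro a b hab
    obtain ⟨x, rfl⟩ := hu.2 a
    obtain ⟨y, rfl⟩ := hu.2 b
    rw [h1, h1] at hab
    rw [hab]
  · exact fun x => ⟨_, h1 x⟩

/-- Inverse image along a closed immersion commutes with limits. -/
theorem pullP_preservesLimits (K : Type u) [SmallCategory K] :
    PreservesLimitsOfShape K (ProEtS.pullP i) := by
  refine ⟨fun {D} => ⟨fun {c} hc => ⟨?_⟩⟩⟩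
  let t := limit.lift (D ⋙ ProEtS.pullP i) ((ProEtS.pullP i).mapCone c)
  suffices IsIso t from IsLimit.ofPointIso (limit.isLimit _) (i := this)
  refine isIso_of_bc_good i _ fun V hV hwc hgood => ?_
  haveI := hV
  let evX := sheafToPresheaf (Scheme.ProEt.topology X) AddCommGrpCat.{u + 1} ⋙ (evaluation _ _).obj (op V)
  let ev := sheafToPresheaf (Scheme.ProEt.topology Z) AddCommGrpCat.{u + 1} ⋙
    (evaluation _ _).obj (op ((ProEtS.bcP i).obj V))
  let τ : evX ⟶ ProEtS.pullP i ⋙ ev :=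
    { app := fun F => ((ProEtS.pullPushAdjP i).unit.app F).hom.app (op V)
      naturality := fun F G φ => congrArg (fun ψ => ψ.hom.app (op V)) ((ProEtS.pullPushAdjP i).unit.naturality φ) }
  haveI : ∀ F, IsIso (τ.app F) := fun F =>
    (ConcreteCategory.isIso_iff_bijective _).2 (unit_bijective_of_closedPoints i V hgood hwc F)
  haveI : IsIso τ := NatIso.isIso_of_isIso_app τ
  haveI : PreservesLimit D (ProEtS.pullP i ⋙ ev) := preservesLimit_of_natIso D (asIso τ)
  have h1 : IsLimit (ev.mapCone ((ProEtS.pullP i).mapCone c)) :=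
    isLimitOfPreserves (ProEtS.pullP i ⋙ ev) hc
  have h2 : IsLimit (ev.mapCone (limit.cone (D ⋙ ProEtS.pullP i))) :=
    isLimitOfPreserves ev (limit.isLimit _)
  have h3 : ev.map t = (h1.conePointUniqueUpToIso h2).hom := h2.hom_ext fun k => by
    rw [h1.conePointUniqueUpToIso_hom_comp h2]
    show ev.map t ≫ ev.map (limit.π _ k) = ev.map _
    rw [← ev.map_comp, limit.lift_π]
  have h4 : IsIso (ev.map t) := by rw [h3]; infer_instance
  exact (ConcreteCategory.isIso_iff_bijective _).1 h4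

end Groth.Agent.ProEtWC
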