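import Groth.Agent.ProEtWC.GoodCover
import Mathlib.CategoryTheory.Adjunction.AdjointFunctorTheorems

/-!
# The inverse image of sheaves of sets along a closed immersion has a left adjoint
-/

set_option autoImplicit false
set_option linter.all false
set_option backward.isDefEq.respectTransparency.types false
set_option backward.isDefEq.respectTransparency false
set_option synthInstance.maxHeartbeats 400000
set_option maxHeartbeats 1000000

universe u w v₀ u₀

open CategoryTheory Limits AlgebraicGeometry Opposite MorphismProperty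

namespace Groth.Agent.ProEtWC

/-- Factoring through a monomorphism of sheaves of sets can be checked locally. -/
theorem exists_lift_of_local {C : Type u₀} [Category.{v₀} C] {J : GrothendieckTopology C}
    {A G F : Sheaf J (Type w)} (h : A ⟶ F) (m : G ⟶ F) (hm : ∀ W, Function.Injective (m.hom.app W))
    (hloc : ∀ (W : C) (s : A.obj.obj (op W)), Presheaf.imageSieve m.hom (h.hom.app (op W) s) ∈ J W) :
    ∃ g : A ⟶ G, g ≫ m = h := by
  have key : ∀ (W : C) (s : A.obj.obj (op W)), ∃ y, m.hom.app (op W) y = h.hom.app (op W) s := by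
    intro W s
    let S := Presheaf.imageSieve m.hom (h.hom.app (op W) s)
    let fam : Presieve.FamilyOfElements G.obj S.arrows := fun V f hf => Presheaf.localPreimage m.hom _ f hf
    have hfam : ∀ V (f : V ⟶ W) (hf : S f), m.hom.app (op V) (fam f hf) = F.obj.map f.op (h.hom.app (op W) s) :=
      fun V f hf => Presheaf.app_localPreimage m.hom _ f hf
    have hcomp : fam.Compatible := by
      intro Y₁ Y₂ Z g₁ g₂ f₁ f₂ h₁ h₂ hc
      apply hm
      erw [NatTrans.naturality_apply, NatTrans.naturality_apply, hfam, hfam]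
      rw [← Functor.map_comp_apply, ← Functor.map_comp_apply, ← op_comp, ← op_comp, hc]
    have hG := (isSheaf_iff_isSheaf_of_type J G.obj).1 G.property S (hloc W s)
    refine ⟨hG.amalgamate fam hcomp, ?_⟩
    refine ((isSheaf_iff_isSheaf_of_type J F.obj).1 F.property S (hloc W s)).isSeparatedFor.ext fun V f hf => ?_
    erw [← NatTrans.naturality_apply, hG.valid_glue hcomp f hf]
    exact hfam V f hf
  choose g hg using key
  refine ⟨⟨{ app := fun W => ↾(g W.unop), naturality := fun {W W'} f => ?_ }⟩, ?_⟩
  · ext s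
    apply hm
    show m.hom.app W' (g W'.unop (A.obj.map f s)) = m.hom.app W' (G.obj.map f (g W.unop s))
    rw [hg]
    erw [NatTrans.naturality_apply, NatTrans.naturality_apply, hg]
  · ext W s
    exact hg W.unop s

variable {X Z : Scheme.{u}} (i : Z ⟶ X) [IsClosedImmersion i] [ProEtS.PCont i]

/-- The inverse image of sheaves of sets. -/
noncomputable abbrev pullT : Sheaf (Scheme.ProEt.topology X) (Type (u + 1)) ⥤
    Sheaf (Scheme.ProEt.topology Z) (Type (u + 1)) :=
  (ProEtS.bcP i).sheafPullback (Type (u + 1)) (Scheme.ProEt.topology X) (Scheme.ProEt.topology Z)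

noncomputable abbrev adjT : pullT i ⊣ (ProEtS.bcP i).sheafPushforwardContinuous (Type (u + 1))
    (Scheme.ProEt.topology X) (Scheme.ProEt.topology Z) :=
  (ProEtS.bcP i).sheafAdjunctionContinuous (Type (u + 1)) (Scheme.ProEt.topology X) (Scheme.ProEt.topology Z)

/-- Sections of sheaves of sets over good objects agree with those of the inverse image. -/
theorem unit_bijective_sets (V : X.ProEt) [IsAffine V.left]
    (hV : ∀ v : V.left, ∃ z : V.left, V.hom z ∈ Set.range i.base ∧ v ⤳ z)
    (hwc : EtPBC.IsWContractible Γ(V.left, ⊤)) (F : Sheaf (Scheme.ProEt.topology X) (Type (u + 1))) :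
    Function.Bijective (((adjT i).unit.app F).hom.app (op V)) := by
  let G := ProEtS.bcP i
  let A := Type (u + 1)
  let J := Scheme.ProEt.topology X
  let K := Scheme.ProEt.topology Z
  haveI := isAffine_bc i V
  let adj' := Functor.sheafPullbackConstruction.sheafAdjunctionContinuous G A J K
  let adj := Functor.sheafAdjunctionContinuous G A J K
  have h1 : Function.Bijective ((adj'.unit.app F).hom.app (op V)) := by
    have hu : (adj'.unit.app F).hom = G.op.lanUnit.app F.obj ≫
        Functor.whiskerLeft G.op (toSheafify K (G.op.lan.obj F.obj)) := by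
      show (sheafToPresheaf J A).map (adj'.unit.app F) = _
      simp only [adj', Functor.sheafPullbackConstruction.sheafAdjunctionContinuous]
      erw [Adjunction.map_restrictFullyFaithful_unit_app]
      simp [Adjunction.comp_unit_app, Functor.lanAdjunction_unit, sheafificationAdjunction_unit_app]
      rfl
    have ha : IsIso ((G.op.lanUnit.app F.obj).app (op V)) :=
      isIso_unit_app_of_closedPoints i V hV hwc F.obj _
        (Functor.isPointwiseLeftKanExtensionOfIsLeftKanExtension _ _)
    have hb := lan_toSheafify_bijective i F (G.obj V) ((wContractible_iff_isWC _).1 (wContractible_bc i V hV hwc))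
    rw [hu]
    exact hb.comp ((isIso_iff_bijective _).1 ha)
  have h2 := adj.unit_leftAdjointUniq_hom_app adj' F
  have h3 : Function.Bijective (((G.sheafPushforwardContinuous A J K).map
      ((adj.leftAdjointUniq adj').hom.app F)).hom.app (op V)) :=
    (isIso_iff_bijective _).1
      (((sheafToPresheaf J A).mapIso ((G.sheafPushforwardContinuous A J K).mapIso
        ((adj.leftAdjointUniq adj').app F))).app (op V)).isIso_hom
  rw [← h2] at h1
  exact (Function.Bijective.of_comp_iff' h3 _).1 h1

/-- A covering by restrictions of good objects. -/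
theorem exists_good_cover (W : Z.ProEt) :
    ∃ (ι : Type u) (V : ι → X.ProEt) (b : ∀ k, (ProEtS.bcP i).obj (V k) ⟶ W),
      Sieve.generate (Presieve.ofArrows (fun k => (ProEtS.bcP i).obj (V k)) b) ∈ Scheme.ProEt.topology Z W ∧
      ∀ k, IsAffine (V k).left ∧ EtPBC.IsWContractible Γ((V k).left, ⊤) ∧
        ∀ v : (V k).left, ∃ z : (V k).left, (V k).hom z ∈ Set.range i.base ∧ v ⤳ z := by
  let J := Scheme.ProEt.topology Z
  choose V O b hVa hwc hV hO hw hs using fun w => exists_good_near i W w
  refine ⟨W.left, V, fun w => b w ≫ openIncl W (O w), ?_, fun w => ⟨hVa w, hwc w, hV w⟩⟩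
  haveI : ∀ w, IsOpenImmersion (openIncl W (O w)).left := fun w => inferInstanceAs (IsOpenImmersion (O w).ι)
  refine J.transitive (Precoverage.generate_mem_toGrothendieck
    (ofArrows_mem_precoverage (fun w => openObj W (O w)) (fun w => openIncl W (O w))
      fun w => ⟨w, ⟨w, hw w⟩, rfl⟩)) _ ?_
  rintro T f ⟨_, c, _, ⟨w⟩, rfl⟩
  rw [Sieve.pullback_comp]
  refine J.pullback_stable c ?_
  haveI : IsAffine (openObj W (O w)).left := hO w
  haveI := hVa w
  haveI := isAffine_bc i (V w)
  refine J.superset_covering ?_ (Et18.mem_topology_of_finite (fun _ : PUnit.{1} => (ProEtS.bcP i).obj (V w))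
    (fun _ => b w) fun x => ⟨⟨⟩, hs w x⟩)
  rintro T' e ⟨_, d, _, ⟨⟩, rfl⟩
  exact ⟨_, d, _, ⟨w⟩, (Category.assoc _ _ _).symm⟩

/-- Inverse images of sheaves of sets along closed immersions commute with limits. -/
theorem pullT_preservesLimits (K : Type (u + 1)) [SmallCategory K] :
    PreservesLimitsOfShape K (pullT i) := by
  refine ⟨fun {D} => ⟨fun {c} hc => ⟨?_⟩⟩⟩
  let t := limit.lift (D ⋙ pullT i) ((pullT i).mapCone c)
  suffices IsIso t from IsLimit.ofPointIso (limit.isLimit _) (i := this)
  have hgood : ∀ (V : X.ProEt), IsAffine V.left → EtPBC.IsWContractible Γ(V.left, ⊤) →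
      (∀ v : V.left, ∃ z : V.left, V.hom z ∈ Set.range i.base ∧ v ⤳ z) →
      Function.Bijective (t.hom.app (op ((ProEtS.bcP i).obj V))) := fun V hV hwc hg => by
    haveI := hV
    let evX := sheafToPresheaf (Scheme.ProEt.topology X) (Type (u + 1)) ⋙ (evaluation _ _).obj (op V)
    let ev := sheafToPresheaf (Scheme.ProEt.topology Z) (Type (u + 1)) ⋙
      (evaluation _ _).obj (op ((ProEtS.bcP i).obj V))
    let τ : evX ⟶ pullT i ⋙ ev :=
      { app := fun F => ((adjT i).unit.app F).hom.app (op V)
        naturality := fun F G φ => congrArg (fun ψ => ψ.hom.app (op V)) ((adjT i).unit.naturality φ) }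
    haveI : ∀ F, IsIso (τ.app F) := fun F => (isIso_iff_bijective _).2 (unit_bijective_sets i V hg hwc F)
    haveI : IsIso τ := NatIso.isIso_of_isIso_app τ
    haveI : PreservesLimit D (pullT i ⋙ ev) := preservesLimit_of_natIso D (asIso τ)
    have h1 : IsLimit (ev.mapCone ((pullT i).mapCone c)) := isLimitOfPreserves (pullT i ⋙ ev) hc
    have h2 : IsLimit (ev.mapCone (limit.cone (D ⋙ pullT i))) := isLimitOfPreserves ev (limit.isLimit _)
    have h3 : ev.map t = (h1.conePointUniqueUpToIso h2).hom := h2.hom_ext fun k => by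
      rw [h1.conePointUniqueUpToIso_hom_comp h2]
      show ev.map t ≫ ev.map (limit.π _ k) = ev.map _
      rw [← ev.map_comp, limit.lift_π]
    have h4 : IsIso (ev.map t) := by rw [h3]; infer_instance
    exact (isIso_iff_bijective _).1 h4
  haveI : Sheaf.IsLocallySurjective t := ⟨fun {W} s => by
    obtain ⟨ι, V, b, hb, hp⟩ := exists_good_cover i W
    refine (Scheme.ProEt.topology Z).superset_covering ?_ hb
    rintro T f ⟨_, c, _, ⟨k⟩, rfl⟩
    exact (Presheaf.imageSieve t.hom s).downward_closed ((hgood _ (hp k).1 (hp k).2.1 (hp k).2.2).2 _) c⟩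
  haveI : Sheaf.IsLocallyInjective t := ⟨fun {W} x y hxy => by
    obtain ⟨ι, V, b, hb, hp⟩ := exists_good_cover i W.unop
    refine (Scheme.ProEt.topology Z).superset_covering ?_ hb
    rintro T f ⟨_, c, _, ⟨k⟩, rfl⟩
    refine (Presheaf.equalizerSieve x y).downward_closed ?_ c
    apply (hgood _ (hp k).1 (hp k).2.1 (hp k).2.2).1
    erw [NatTrans.naturality_apply, NatTrans.naturality_apply]
    exact congrArg _ hxy⟩
  exact (Sheaf.isLocallyBijective_iff_isIso t).1 ⟨inferInstance, inferInstance⟩

/-- The free presheaf on the good objects lying over the sections of `A`. -/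
noncomputable abbrev freePre {T : Type (u + 1)} (V : T → X.ProEt) : X.ProEtᵒᵖ ⥤ Type (u + 1) where
  obj U := Σ t : T, (U.unop ⟶ V t)
  map f := ↾(fun p => ⟨p.1, f.unop ≫ p.2⟩)
  map_id U := by
    ext p
    · rfl
    · exact heq_of_eq (Category.id_comp p.2)
  map_comp f g := by
    ext p
    · rfl
    · exact heq_of_eq (Category.assoc g.unop f.unop p.2)

/-- A compatible family of equivalence relations on a presheaf of sets. -/
structure Cong (P : X.ProEtᵒᵖ ⥤ Type (u + 1)) : Type (u + 1) where
  r : ∀ U, Setoid (P.obj U)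
  map : ∀ {U U'} (f : U ⟶ U') {a b}, (r U).r a b → (r U').r (P.map f a) (P.map f b)

/-- The quotient presheaf. -/
noncomputable def Cong.quot {P : X.ProEtᵒᵖ ⥤ Type (u + 1)} (c : Cong P) : X.ProEtᵒᵖ ⥤ Type (u + 1) where
  obj U := Quotient (c.r U)
  map f := ↾(Quotient.map (P.map f) fun _ _ h => c.map f h)
  map_id U := by ext ⟨a⟩; exact congrArg (Quotient.mk _) (Functor.map_id_apply P U a)
  map_comp f g := by ext ⟨a⟩; exact congrArg (Quotient.mk _) (Functor.map_comp_apply P f g a)

/-- The inverse image of sheaves of sets along a closed immersion is a right adjoint. -/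
theorem isRightAdjoint_pullT : (pullT i).IsRightAdjoint := by
  haveI : PreservesLimitsOfSize.{u + 1, u + 1} (pullT i) := ⟨fun {K} _ => pullT_preservesLimits i K⟩
  refine isRightAdjoint_of_preservesLimits_of_solutionSetCondition _ fun A => ?_
  choose ι V b hb hp using exists_good_cover i
  let T := Σ (W : Z.ProEt) (_ : A.obj.obj (op W)), ι W
  let Vt : T → X.ProEt := fun t => V t.1 t.2.2
  let P := freePre Vt
  let B : Cong P → Sheaf (Scheme.ProEt.topology X) (Type (u + 1)) := fun c =>
    (presheafToSheaf (Scheme.ProEt.topology X) (Type (u + 1))).obj c.quot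
  refine ⟨Σ c : Cong P, (A ⟶ (pullT i).obj (B c)), fun x => B x.1, fun x => x.2, fun F h => ?_⟩
  have hx : ∀ t : T, ∃ x : F.obj.obj (op (Vt t)), ((adjT i).unit.app F).hom.app (op (Vt t)) x =
      ((pullT i).obj F).obj.map (b t.1 t.2.2).op (h.hom.app (op t.1) t.2.1) := fun t =>
    haveI := (hp t.1 t.2.2).1
    (unit_bijective_sets i _ (hp t.1 t.2.2).2.2 (hp t.1 t.2.2).2.1 F).2 _
  choose x hx using hx
  let ψ : P ⟶ F.obj :=
    { app := fun U => ↾(fun p => F.obj.map p.2.op (x p.1))
      naturality := fun U U' f => by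
        ext p
        show F.obj.map (f.unop ≫ p.2).op (x p.1) = F.obj.map f (F.obj.map p.2.op (x p.1))
        rw [← Functor.map_comp_apply]; rfl }
  let c : Cong P :=
    { r := fun U => Setoid.ker (ψ.app U)
      map := fun {U U'} f {a b} hab => by
        show ψ.app U' (P.map f a) = ψ.app U' (P.map f b)
        erw [NatTrans.naturality_apply, NatTrans.naturality_apply]
        exact congrArg _ hab }
  let ψ' : c.quot ⟶ F.obj :=
    { app := fun U => ↾(Quotient.lift (ψ.app U) fun _ _ h => h)
      naturality := fun U U' f => by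
        ext ⟨a⟩
        exact NatTrans.naturality_apply ψ f a }
  have hψ' : ∀ U, Function.Injective (ψ'.app U) := fun U => by
    rintro ⟨a⟩ ⟨a'⟩ h; exact Quotient.sound h
  let J := Scheme.ProEt.topology X
  haveI : Mono ψ' := by
    haveI : ∀ U, Mono (ψ'.app U) := fun U => (CategoryTheory.mono_iff_injective _).2 (hψ' U)
    exact NatTrans.mono_of_mono_app ψ'
  let adjS := sheafificationAdjunction J (Type (u + 1))
  let m : B c ⟶ F := (adjS.homEquiv c.quot F).symm ψ'
  haveI : Mono ((presheafToSheaf J (Type (u + 1))).map ψ') := inferInstance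
  haveI : Mono m := by
    rw [show m = (presheafToSheaf J (Type (u + 1))).map ψ' ≫ adjS.counit.app F from adjS.homEquiv_counit _ _ _]
    infer_instance
  haveI : Mono ((pullT i).map m) := by
    haveI : PreservesFiniteLimits (pullT i) := PreservesLimitsOfSize.preservesFiniteLimits _
    infer_instance
  have hminj : ∀ W, Function.Injective (((pullT i).map m).hom.app W) := fun W =>
    (CategoryTheory.mono_iff_injective _).1
      (inferInstanceAs (Mono (((sheafToPresheaf _ _).map ((pullT i).map m)).app W)))
  obtain ⟨g, hg⟩ := exists_lift_of_local h ((pullT i).map m) hminj fun W s => by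
    refine (Scheme.ProEt.topology Z).superset_covering ?_ (hb W)
    rintro T' f ⟨_, d, _, ⟨k⟩, rfl⟩
    refine (Presheaf.imageSieve _ _).downward_closed ?_ d
    let t : T := ⟨W, s, k⟩
    let q : (B c).obj.obj (op (Vt t)) :=
      (toSheafify J c.quot).app (op (Vt t)) (Quotient.mk _ (⟨t, 𝟙 _⟩ : P.obj (op (Vt t))))
    refine ⟨((adjT i).unit.app (B c)).hom.app (op (Vt t)) q, ?_⟩
    have hq : m.hom.app (op (Vt t)) q = x t := by
      have h1 := (adjS.homEquiv c.quot F).apply_symm_apply ψ'
      rw [Adjunction.homEquiv_unit] at h1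
      have h2 := congrArg (fun φ => φ.app (op (Vt t)) (Quotient.mk _ (⟨t, 𝟙 _⟩ : P.obj (op (Vt t))))) h1
      refine Eq.trans ?_ ((h2).trans (Functor.map_id_apply F.obj (op (Vt t)) (x t)))
      rfl
    have hn := congrArg (fun φ => φ.hom.app (op (Vt t)) q) ((adjT i).unit.naturality m)
    refine Eq.trans hn.symm ?_
    show ((adjT i).unit.app F).hom.app (op (Vt t)) (m.hom.app (op (Vt t)) q) = _
    rw [hq]
    exact hx t
  exact ⟨⟨c, g⟩, m, hg⟩

end Groth.Agent.ProEtWC
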