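import Mathlib
import Groth.Agent.ProEtWC.LiftMod
import Groth.Agent.ProEtWC.Closed
import Groth.Agent.S0679
import Groth.Agent.S0702
import Groth.Agent.HenselLib.WContrCover
import Groth.Agent.HenselLib.WLocCanon

/-!
# w-contractible rings and integral maps which are bijective on spectra
-/

set_option autoImplicit false
set_option linter.all false
set_option synthInstance.maxHeartbeats 400000
set_option maxHeartbeats 4000000

universe u

open TensorProduct Function

namespace Groth.Agent.ProEtWC

open HenselLib in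
theorem wContractible_of_integral_bijective {R R' : Type u} [CommRing R] [CommRing R'] [Algebra R R']
    [Algebra.IsIntegral R R'] (hbij : Bijective (PrimeSpectrum.comap (algebraMap R R')))
    (h : EtPBC.IsWContractible R) : EtPBC.IsWContractible R' := by
  obtain ⟨hl, hext, hsh⟩ := WCtr.isWContractible_iff.1 h
  haveI := hext
  have he : Topology.IsClosedEmbedding (PrimeSpectrum.comap (algebraMap R R')) :=
    Topology.IsClosedEmbedding.of_continuous_injective_isClosedMap (PrimeSpectrum.continuous_comap _) hbij.1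
      (PrimeSpectrum.isClosedMap_comap_of_isIntegral _ (Algebra.IsIntegral.isIntegral (R := R)))
  let e : PrimeSpectrum R' ≃ₜ PrimeSpectrum R := he.isEmbedding.toHomeomorphOfSurjective hbij.2
  let c : _root_.ConnectedComponents (PrimeSpectrum R) ≃ₜ _root_.ConnectedComponents (PrimeSpectrum R') :=
    { toFun := e.symm.continuous.connectedComponentsMap
      invFun := e.continuous.connectedComponentsMap
      left_inv := fun x => by
        obtain ⟨x, rfl⟩ := ConnectedComponents.surjective_coe x
        exact congrArg ConnectedComponents.mk (e.apply_symm_apply x)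
      right_inv := fun x => by
        obtain ⟨x, rfl⟩ := ConnectedComponents.surjective_coe x
        exact congrArg ConnectedComponents.mk (e.symm_apply_apply x)
      continuous_toFun := e.symm.continuous.connectedComponentsMap_continuous
      continuous_invFun := e.continuous.connectedComponentsMap_continuous }
  refine WCtr.isWContractible_iff.2 ⟨(WCtr.isWLocal_of_closedEmbedding hl he).1,
    WCtr.extremallyDisconnected_homeo c, fun M hM => ?_⟩
  let m := M.comap (algebraMap R R')
  haveI : m.IsMaximal := Ideal.isMaximal_comap_of_isIntegral_of_isMaximal (R := R) M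
  haveI : HenselianLocalRing (Localization.AtPrime m) := (hsh m).1
  haveI : IsSepClosed (IsLocalRing.ResidueField (Localization.AtPrime m)) := (hsh m).2
  let S := Algebra.algebraMapSubmonoid R' m.primeCompl
  let T := Localization S
  have hdisj : Disjoint (S : Set R') (M : Set R') := by
    rw [Set.disjoint_left]
    rintro _ ⟨s, hs, rfl⟩ hsM
    exact hs hsM
  let M' : Ideal T := M.map (algebraMap R' T)
  have hM'c : M'.comap (algebraMap R' T) = M :=
    IsLocalization.comap_map_of_isPrime_disjoint S T hM.isPrime hdisj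
  haveI hM'p : M'.IsPrime := IsLocalization.isPrime_of_isPrime_disjoint S T M hM.isPrime hdisj
  haveI : M'.IsMaximal := by
    obtain ⟨N, hN, hle⟩ := Ideal.exists_le_maximal M' hM'p.ne_top
    have hNc : N.comap (algebraMap R' T) = M :=
      (hM.eq_of_le (Ideal.comap_ne_top _ hN.ne_top) (hM'c.ge.trans (Ideal.comap_mono hle))).symm
    have : M' = N := (congrArg (Ideal.map (algebraMap R' T)) hNc.symm).trans (IsLocalization.map_comap S T N)
    exact this ▸ hN
  haveI : Algebra.IsIntegral (Localization.AtPrime m) T :=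
    ⟨isIntegral_localization (M := m.primeCompl) (R := R) (S := R') (Rₘ := Localization.AtPrime m) (Sₘ := T)⟩
  haveI : Algebra.IsIntegral (Localization.AtPrime m) (Localization.AtPrime M') :=
    Algebra.IsIntegral.of_surjective (IsScalarTower.toAlgHom (Localization.AtPrime m) T (Localization.AtPrime M'))
      (LocalInt.surjective_algebraMap_localization (Localization.AtPrime m) M')
  haveI := LocalInt.isLocalHom_of_isIntegral (Localization.AtPrime m) (Localization.AtPrime M')
  refine WLoc.strictlyHenselian_of_equiv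
    (RingEquiv.ofBijective _ (WCtr.localRingHom_bijective_congr (algebraMap R' T) hM'c
      rfl hM'c.symm (WCtr.bijAt_of_isLocalization S
        (⟨M', inferInstance⟩ : PrimeSpectrum T)))).symm ?_
  exact ⟨LocalInt.henselianLocalRing_localization (Localization.AtPrime m) M',
    LocalInt.isSepClosed_residueField (Localization.AtPrime m) (Localization.AtPrime M')⟩

section Lift

variable {R R' B : Type u} [CommRing R] [CommRing R'] [CommRing B] [Algebra R R'] [Algebra R B]
  [Algebra.WeaklyEtale R B]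

/-- Points of weakly étale algebras which agree after an integral extension with bijective spectra agree. -/
theorem algHom_ext_of_integral (hsur : Surjective (PrimeSpectrum.comap (algebraMap R R'))) (t t' : B →ₐ[R] R)
    (h : ∀ b, algebraMap R R' (t b) = algebraMap R R' (t' b)) : t = t' := by
  refine algHom_ext_of_sub_mem_jacobson t t' fun b => ?_
  refine Ideal.mem_sInf.2 ?_
  rintro m ⟨-, hm⟩
  obtain ⟨M, hM⟩ := hsur ⟨m, hm.isPrime⟩
  rw [← show M.asIdeal.comap (algebraMap R R') = m from congrArg PrimeSpectrum.asIdeal hM, Ideal.mem_comap,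
    map_sub, h, sub_self]
  exact M.asIdeal.zero_mem

/-- Points of weakly étale algebras over a w-contractible ring lift along integral extensions with
bijective spectra. -/
theorem exists_lift_of_integral [Algebra.IsIntegral R R']
    (hbij : Bijective (PrimeSpectrum.comap (algebraMap R R'))) (hR : EtPBC.IsWContractible R)
    (φ : B →ₐ[R] R') : ∃ t : B →ₐ[R] R, (Algebra.ofId R R').comp t = φ := by
  let S : Submonoid B := Submonoid.comap φ.toRingHom.toMonoidHom (⊥ : Submonoid R')
  let C := Localization S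
  haveI : Algebra.WeaklyEtale B C := HenselLib.WEtNoeth.weaklyEtale_of_isLocalization S
  haveI : Algebra.WeaklyEtale R C := Algebra.WeaklyEtale.trans R B C
  have hu : ∀ s : S, IsUnit (φ s) := fun s => by
    rw [show φ s = 1 from s.2]; exact isUnit_one
  let φC : C →ₐ[R] R' := IsLocalization.liftAlgHom (M := S) (f := φ) hu
  haveI : Module.FaithfullyFlat R C := by
    refine { submodule_ne_top := ?_ }
    intro m hm htop
    rw [Ideal.smul_top_eq_map, Submodule.restrictScalars_eq_top_iff] at htop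
    obtain ⟨M, hM⟩ := hbij.2 ⟨m, hm.isPrime⟩
    have hle : (m.map (algebraMap R C)).map φC.toRingHom ≤ M.asIdeal := by
      rw [Ideal.map_map, show φC.toRingHom.comp (algebraMap R C) = algebraMap R R' from φC.comp_algebraMap,
        Ideal.map_le_iff_le_comap]
      exact (congrArg PrimeSpectrum.asIdeal hM).ge
    rw [htop, Ideal.map_top, top_le_iff] at hle
    exact M.isPrime.ne_top hle
  obtain ⟨t₀⟩ := hR C inferInstance inferInstance
  let t : B →ₐ[R] R := t₀.comp (IsScalarTower.toAlgHom R B C)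
  refine ⟨t, (algHom_ext_of_sub_mem_jacobson _ _ fun b => ?_).symm⟩
  refine Ideal.mem_sInf.2 ?_
  rintro M ⟨-, hM⟩
  let m := M.comap (algebraMap R R')
  haveI : m.IsMaximal := Ideal.isMaximal_comap_of_isIntegral_of_isMaximal (R := R) M
  let q : Ideal B := m.comap t.toRingHom
  have htsurj : Surjective t := fun r => ⟨algebraMap R B r, t.commutes r⟩
  haveI : q.IsMaximal := Ideal.comap_isMaximal_of_surjective t.toRingHom htsurj
  -- the kernel of `φ` lies in `q`
  have hker : RingHom.ker φ.toRingHom ≤ q := by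
    intro k hk
    by_contra hkq
    obtain ⟨b', n, hn, hb'⟩ := Ideal.IsMaximal.exists_inv ‹q.IsMaximal› hkq
    have hmem : n ∈ S := by
      show φ n = 1
      have h1 := congrArg φ hb'
      rw [map_add, map_mul, show φ k = 0 from hk, mul_zero, zero_add, map_one] at h1
      exact h1
    have h2 : IsUnit (t n) := (IsLocalization.map_units C (⟨n, hmem⟩ : S)).map t₀
    exact ‹m.IsMaximal›.ne_top (Ideal.eq_top_of_isUnit_mem _ (show t n ∈ m from hn) h2)
  letI := φ.toRingHom.toAlgebra
  haveI : IsScalarTower R B R' := IsScalarTower.of_algebraMap_eq fun r => (φ.commutes r).symm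
  haveI : Algebra.IsIntegral B R' := Algebra.IsIntegral.tower_top R
  obtain ⟨M'', -, hM''p, hM''q⟩ := Ideal.exists_ideal_over_prime_of_isIntegral q (⊥ : Ideal R') (by
    rw [← RingHom.ker_eq_comap_bot]; exact hker)
  have hMM : M'' = M := by
    refine congrArg PrimeSpectrum.asIdeal (hbij.1 (a₁ := ⟨M'', hM''p⟩) (a₂ := ⟨M, hM.isPrime⟩) (PrimeSpectrum.ext ?_))
    show M''.comap (algebraMap R R') = m
    rw [IsScalarTower.algebraMap_eq R B R', ← Ideal.comap_comap, hM''q]
    ext r
    show t (algebraMap R B r) ∈ m ↔ r ∈ m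
    rw [t.commutes]
    rfl
  subst hMM
  have hq : b - algebraMap R B (t b) ∈ q := by
    show t (b - algebraMap R B (t b)) ∈ m
    rw [map_sub, t.commutes]
    simp
  rw [← hM''q, Ideal.mem_comap, map_sub] at hq
  rw [← IsScalarTower.algebraMap_apply] at hq
  exact hq

end Lift

section Cover

open HenselLib

/-- There is a w-contractible weakly étale algebra whose closed points cover all primes. -/
theorem exists_wContractible_covering_primes (A : Type u) [CommRing A] :
    ∃ (H : Type u) (_ : CommRing H) (_ : Algebra A H), EtPBC.IsIndEtale A H ∧ EtPBC.IsWContractible H ∧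
      ∀ p : PrimeSpectrum A, ∃ h : PrimeSpectrum H, h.asIdeal.IsMaximal ∧
        PrimeSpectrum.comap (algebraMap A H) h = p := by
  let C₀ := WLoc.WRing (WLoc.canon A)
  obtain ⟨H, _, _, hHff, hHind, hHwc⟩ := WCtr.exists_indEtale_wContractible C₀
  letI : Algebra A H := ((algebraMap C₀ H).comp (algebraMap A C₀)).toAlgebra
  haveI : IsScalarTower A C₀ H := IsScalarTower.of_algebraMap_eq' rfl
  have hHA : EtPBC.IsIndEtale A H := IndEt.trans A C₀ H (WLoc.isIndEtale _) hHind
  have hHall : ∀ p : PrimeSpectrum A, ∃ h : PrimeSpectrum H, h.asIdeal.IsMaximal ∧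
      PrimeSpectrum.comap (algebraMap A H) h = p := by
    intro p
    let z : WLoc.ZT A := WithTopology.toTopology _ p
    let c := WLoc.closedPt (WLoc.canon A) z
    haveI := WLoc.closedPt_isMaximal (WLoc.canon A) z
    haveI := hHff
    obtain ⟨h, hh⟩ := PrimeSpectrum.comap_surjective_of_faithfullyFlat (A := C₀) (B := H) c
    obtain ⟨M, hM, hhM⟩ := Ideal.exists_le_maximal h.asIdeal h.isPrime.ne_top
    refine ⟨⟨M, hM.isPrime⟩, hM, ?_⟩
    have hMc : M.comap (algebraMap C₀ H) = c.asIdeal :=
      (Ideal.IsMaximal.eq_of_le ‹c.asIdeal.IsMaximal› (Ideal.comap_ne_top _ hM.ne_top)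
        ((congrArg PrimeSpectrum.asIdeal hh).ge.trans (Ideal.comap_mono hhM))).symm
    refine Eq.trans ?_ (WLoc.comap_closedPt (WLoc.canon A) z)
    refine PrimeSpectrum.ext ?_
    show M.comap (algebraMap A H) = c.asIdeal.comap (algebraMap A C₀)
    rw [IsScalarTower.algebraMap_eq A C₀ H, ← Ideal.comap_comap, hMc]
  exact ⟨H, inferInstance, inferInstance, hHA, hHwc, hHall⟩

/-- The points of a weakly étale algebra over closed points of a w-contractible ring form a profinite space. -/
theorem compactSpace_t2Space_over_closedPoints {K E : Type u} [CommRing K] [CommRing E] [Algebra K E]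
    [Algebra.WeaklyEtale K E] (hKl : ProEtW.IsWLocal (PrimeSpectrum K)) :
    CompactSpace {e : PrimeSpectrum E // (PrimeSpectrum.comap (algebraMap K E) e).asIdeal.IsMaximal} ∧
      T2Space {e : PrimeSpectrum E // (PrimeSpectrum.comap (algebraMap K E) e).asIdeal.IsMaximal} := by
  haveI := WLoc.t2Space_CP hKl
  haveI := WLoc.totallyDisconnectedSpace_CP hKl
  let J : Ideal K := PrimeSpectrum.vanishingIdeal (ProEtW.closedPoints (PrimeSpectrum K))
  have hJ : PrimeSpectrum.zeroLocus (R := K) J = ProEtW.closedPoints (PrimeSpectrum K) := by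
    rw [PrimeSpectrum.zeroLocus_vanishingIdeal_eq_closure,
      IsClosed.closure_eq (show IsClosed (ProEtW.closedPoints (PrimeSpectrum K)) from hKl.2.1)]
  let φK : PrimeSpectrum (K ⧸ J) ≃ₜ WLoc.CP K :=
    (PrimeSpectrum.isClosedEmbedding_comap_of_surjective _ (Ideal.Quotient.mk J)
      Ideal.Quotient.mk_surjective).isEmbedding.toHomeomorph.trans (Homeomorph.setCongr (by
        rw [range_comap_of_surjective _ _ Ideal.Quotient.mk_surjective, Ideal.mk_ker, hJ]; rfl))
  haveI : T2Space (PrimeSpectrum (K ⧸ J)) := φK.symm.t2Space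
  haveI : TotallyDisconnectedSpace (PrimeSpectrum (K ⧸ J)) :=
    φK.symm.totallyDisconnectedSpace
  let ιE : E →+* (K ⧸ J) ⊗[K] E := (Algebra.TensorProduct.includeRight : E →ₐ[K] (K ⧸ J) ⊗[K] E).toRingHom
  obtain ⟨hc, ht, -⟩ := S0702.result (K ⧸ J) ((K ⧸ J) ⊗[K] E)
    (WCtr.algebraicResidue_of_weaklyEtale (K ⧸ J) ((K ⧸ J) ⊗[K] E))
  haveI := hc
  haveI := ht
  have hs : Surjective ιE := by
    intro z
    induction z using TensorProduct.induction_on with
    | zero => exact ⟨0, map_zero _⟩
    | add z w hz hw =>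
      obtain ⟨a, rfl⟩ := hz
      obtain ⟨b, rfl⟩ := hw
      exact ⟨a + b, map_add _ _ _⟩
    | tmul a b =>
      obtain ⟨a, rfl⟩ := Ideal.Quotient.mk_surjective a
      refine ⟨a • b, ?_⟩
      show (1 : K ⧸ J) ⊗ₜ[K] (a • b) = _
      rw [← TensorProduct.smul_tmul, Algebra.smul_def, mul_one, Ideal.Quotient.algebraMap_eq]
  have he := PrimeSpectrum.isClosedEmbedding_comap_of_surjective _ ιE hs
  let ψ : PrimeSpectrum ((K ⧸ J) ⊗[K] E) ≃ₜ
      {e : PrimeSpectrum E // (PrimeSpectrum.comap (algebraMap K E) e).asIdeal.IsMaximal} :=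
    he.isEmbedding.toHomeomorph.trans (Homeomorph.setCongr (by
      ext e
      constructor
      · rintro ⟨r, rfl⟩
        show (PrimeSpectrum.comap (algebraMap K E) (PrimeSpectrum.comap ιE r)).asIdeal.IsMaximal
        rw [← PrimeSpectrum.isClosed_singleton_iff_isMaximal]
        have h1 : PrimeSpectrum.comap (algebraMap K E) (PrimeSpectrum.comap ιE r) =
            (φK (PrimeSpectrum.comap (algebraMap (K ⧸ J) ((K ⧸ J) ⊗[K] E)) r)).1 := by
          refine PrimeSpectrum.ext (Ideal.ext fun k => ?_)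
          show ιE (algebraMap K E k) ∈ r.asIdeal ↔
            algebraMap (K ⧸ J) ((K ⧸ J) ⊗[K] E) (Ideal.Quotient.mk J k) ∈ r.asIdeal
          rw [show ιE (algebraMap K E k) = algebraMap K _ k from
            (Algebra.TensorProduct.includeRight : E →ₐ[K] (K ⧸ J) ⊗[K] E).commutes k,
            IsScalarTower.algebraMap_apply K (K ⧸ J) ((K ⧸ J) ⊗[K] E)]
          rfl
        rw [h1]
        exact (φK _).2
      · intro hem
        obtain ⟨kb, hkb⟩ : PrimeSpectrum.comap (algebraMap K E) e ∈
            Set.range (PrimeSpectrum.comap (Ideal.Quotient.mk J)) := by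
          rw [range_comap_of_surjective _ _ Ideal.Quotient.mk_surjective, Ideal.mk_ker, hJ]
          exact (PrimeSpectrum.isClosed_singleton_iff_isMaximal _).2 hem
        obtain ⟨r, -, hr⟩ := AlgRes.exists_prime_tensor (A := K) (C := K ⧸ J) (B := E) kb e hkb
        exact ⟨r, hr⟩))
  exact ⟨ψ.compactSpace, ψ.t2Space⟩

/-- Retractions of weakly étale algebras through a closed set of points over all closed points. -/
theorem exists_retraction_through {KD ED : Type u} [CommRing KD] [CommRing ED] [Algebra KD ED]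
    [Algebra.WeaklyEtale KD ED] (hKDwc : EtPBC.IsWContractible KD) (Q : Set (PrimeSpectrum ED))
    (hQc : IsClosed Q)
    (hQex : ∀ M : PrimeSpectrum KD, M.asIdeal.IsMaximal → ∃ q ∈ Q, PrimeSpectrum.comap (algebraMap KD ED) q = M) :
    ∃ τ' : ED →ₐ[KD] KD, ∀ M : PrimeSpectrum KD, M.asIdeal.IsMaximal → PrimeSpectrum.comap τ'.toRingHom M ∈ Q := by
  let a : Ideal ED := PrimeSpectrum.vanishingIdeal Q
  let Sa : Submonoid ED := Submonoid.comap (Ideal.Quotient.mk a).toMonoidHom (⊥ : Submonoid (ED ⧸ a))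
  let C := Localization Sa
  have hSaq : ∀ q ∈ Q, Disjoint (Sa : Set ED) q.asIdeal := fun q hq => by
    rw [Set.disjoint_left]
    intro s hs hsq
    have h1 : s - 1 ∈ q.asIdeal := (PrimeSpectrum.mem_vanishingIdeal _ _).1
      (Ideal.Quotient.eq.1 (show Ideal.Quotient.mk a s = Ideal.Quotient.mk a 1 by
        rw [map_one]; exact hs)) q hq
    exact q.isPrime.ne_top ((Ideal.eq_top_iff_one _).2 (by simpa using sub_mem (show s ∈ q.asIdeal from hsq) h1))
  haveI : Algebra.WeaklyEtale ED C := WEtNoeth.weaklyEtale_of_isLocalization Sa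
  haveI : Algebra.WeaklyEtale KD C := Algebra.WeaklyEtale.trans KD ED C
  haveI : Module.FaithfullyFlat KD C := by
    refine { submodule_ne_top := ?_ }
    intro m hm htop
    rw [Ideal.smul_top_eq_map, Submodule.restrictScalars_eq_top_iff] at htop
    obtain ⟨q, hq, hqm⟩ := hQex ⟨m, hm.isPrime⟩ hm
    have hle : m.map (algebraMap KD C) ≤ q.asIdeal.map (algebraMap ED C) := by
      rw [IsScalarTower.algebraMap_eq KD ED C, ← Ideal.map_map]
      exact Ideal.map_mono (Ideal.map_le_iff_le_comap.2 (congrArg PrimeSpectrum.asIdeal hqm).ge)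
    rw [htop, top_le_iff] at hle
    exact (IsLocalization.isPrime_of_isPrime_disjoint Sa C q.asIdeal q.isPrime (hSaq q hq)).ne_top hle
  obtain ⟨τ⟩ := hKDwc C inferInstance inferInstance
  let τ' : ED →ₐ[KD] KD := τ.comp (IsScalarTower.toAlgHom KD ED C)
  refine ⟨τ', fun M₀ hM₀ => ?_⟩
  haveI := hM₀
  rw [← hQc.closure_eq, ← PrimeSpectrum.zeroLocus_vanishingIdeal_eq_closure]
  intro x hx
  show τ (algebraMap ED C x) ∈ M₀.asIdeal
  by_contra hxM
  obtain ⟨y, n, hn, hy⟩ := Ideal.IsMaximal.exists_inv ‹M₀.asIdeal.IsMaximal› hxM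
  have hS' : (1 : ED) - algebraMap KD ED y * x ∈ Sa := by
    show Ideal.Quotient.mk a ((1 : ED) - algebraMap KD ED y * x) = 1
    rw [map_sub, map_mul, map_one, Ideal.Quotient.eq_zero_iff_mem.2 (show x ∈ a from hx), mul_zero, sub_zero]
  have hu : IsUnit (τ' ((1 : ED) - algebraMap KD ED y * x)) := (IsLocalization.map_units C (⟨_, hS'⟩ : Sa)).map τ
  rw [map_sub, map_one, map_mul, τ'.commutes] at hu
  refine ‹M₀.asIdeal.IsMaximal›.ne_top (Ideal.eq_top_of_isUnit_mem _ ?_ hu)
  have : 1 - algebraMap KD KD y * τ' x = n := by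
    show 1 - y * τ (algebraMap ED C x) = n
    linear_combination -hy
  rw [this]
  exact hn

/-- Retractions through tautological points. -/
theorem exists_retraction_tautological {K E KD ED T : Type u} [CommRing K] [CommRing E] [CommRing KD] [CommRing ED]
    [Algebra K E] [Algebra.WeaklyEtale K E] [Algebra KD ED] [Algebra.WeaklyEtale KD ED] [TopologicalSpace T]
    (hKl : ProEtW.IsWLocal (PrimeSpectrum K)) (hKDwc : EtPBC.IsWContractible KD) (μR : E →+* ED)
    (π : T → {e : PrimeSpectrum E // (PrimeSpectrum.comap (algebraMap K E) e).asIdeal.IsMaximal})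
    (hπ : Continuous π) (tt : PrimeSpectrum KD → T) (httc : Continuous tt)
    (hex : ∀ M : PrimeSpectrum KD, M.asIdeal.IsMaximal → ∃ q : PrimeSpectrum ED,
      PrimeSpectrum.comap (algebraMap KD ED) q = M ∧ PrimeSpectrum.comap μR q = (π (tt M)).1) :
    ∃ τ' : ED →ₐ[KD] KD, ∀ M : PrimeSpectrum KD, M.asIdeal.IsMaximal →
      PrimeSpectrum.comap μR (PrimeSpectrum.comap τ'.toRingHom M) = (π (tt M)).1 := by
  have hKDl := (WCtr.isWContractible_iff.1 hKDwc).1
  haveI := (compactSpace_t2Space_over_closedPoints (E := E) hKl).2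
  have hmaxc : ∀ {R : Type u} [CommRing R], ProEtW.IsWLocal (PrimeSpectrum R) →
      IsClosed {M : PrimeSpectrum R | M.asIdeal.IsMaximal} := fun {R} _ hR => by
    have h1 : {M : PrimeSpectrum R | M.asIdeal.IsMaximal} = ProEtW.closedPoints (PrimeSpectrum R) := by
      ext M; exact (PrimeSpectrum.isClosed_singleton_iff_isMaximal M).symm
    rw [h1]; exact hR.2.1
  let S : Set (PrimeSpectrum ED) :=
    {q | (PrimeSpectrum.comap (algebraMap KD ED) q).asIdeal.IsMaximal ∧
      (PrimeSpectrum.comap (algebraMap K E) (PrimeSpectrum.comap μR q)).asIdeal.IsMaximal}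
  have hSc : IsClosed S := ((hmaxc hKDl).preimage (PrimeSpectrum.continuous_comap (algebraMap KD ED))).inter
    ((hmaxc hKl).preimage ((PrimeSpectrum.continuous_comap (algebraMap K E)).comp
      (PrimeSpectrum.continuous_comap μR)))
  let g : S → {e : PrimeSpectrum E // (PrimeSpectrum.comap (algebraMap K E) e).asIdeal.IsMaximal} :=
    fun q => ⟨PrimeSpectrum.comap μR q.1, q.2.2⟩
  have hgc : Continuous g := ((PrimeSpectrum.continuous_comap μR).comp continuous_subtype_val).subtype_mk _
  let Q : Set (PrimeSpectrum ED) :=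
    Subtype.val '' {q : S | g q = π (tt (PrimeSpectrum.comap (algebraMap KD ED) q.1))}
  have hQc : IsClosed Q := hSc.isClosedEmbedding_subtypeVal.isClosedMap _
    (isClosed_eq hgc (hπ.comp (httc.comp ((PrimeSpectrum.continuous_comap _).comp continuous_subtype_val))))
  obtain ⟨τ', hτ'⟩ := exists_retraction_through hKDwc Q hQc fun M hM => by
    obtain ⟨q, hqM, hqr⟩ := hex M hM
    refine ⟨q, ⟨⟨q, ?_, ?_⟩, ?_, rfl⟩, hqM⟩
    · rw [hqM]; exact hM
    · rw [hqr]; exact (π (tt M)).2
    · refine Subtype.ext ?_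
      show PrimeSpectrum.comap μR q = (π (tt (PrimeSpectrum.comap (algebraMap KD ED) q))).1
      rw [hqM, hqr]
  refine ⟨τ', fun M hM => ?_⟩
  obtain ⟨q, hgq, hqq⟩ := hτ' M hM
  rw [← hqq]
  refine (congrArg Subtype.val hgq).trans ?_
  have hM' : PrimeSpectrum.comap (algebraMap KD ED) (q : PrimeSpectrum ED) = M := by
    rw [hqq]
    refine PrimeSpectrum.ext (Ideal.ext fun x => ?_)
    show τ' (algebraMap KD ED x) ∈ M.asIdeal ↔ x ∈ M.asIdeal
    rw [τ'.commutes]
    rfl
  rw [hM']

/-- A point of the base change over a point with the same residue field. -/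
theorem exists_point_over {A' Rb K KD : Type u} [CommRing A'] [CommRing Rb] [CommRing K] [CommRing KD]
    [Algebra A' Rb] [Algebra A' K] [Algebra A' KD] (μ : K →ₐ[A'] KD) (M : PrimeSpectrum KD)
    (hM : M.asIdeal.IsMaximal) (hμsurj : ∀ x : KD, ∃ y : K, x - μ y ∈ M.asIdeal)
    (r : PrimeSpectrum (K ⊗[A'] Rb))
    (hrk : PrimeSpectrum.comap (algebraMap K (K ⊗[A'] Rb)) r = PrimeSpectrum.comap μ.toRingHom M) :
    ∃ q : PrimeSpectrum (KD ⊗[A'] Rb), PrimeSpectrum.comap (algebraMap KD (KD ⊗[A'] Rb)) q = M ∧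
      PrimeSpectrum.comap (Algebra.TensorProduct.map μ (AlgHom.id A' Rb)).toRingHom q = r := by
  let Ω := r.asIdeal.ResidueField
  have hle : RingHom.ker ((Ideal.Quotient.mk M.asIdeal).comp μ.toRingHom) ≤
      RingHom.ker ((algebraMap (K ⊗[A'] Rb) Ω).comp (algebraMap K (K ⊗[A'] Rb))) := by
    intro x hx
    rw [RingHom.mem_ker, RingHom.comp_apply, Ideal.Quotient.eq_zero_iff_mem] at hx
    rw [RingHom.mem_ker, RingHom.comp_apply, Ideal.algebraMap_residueField_eq_zero]
    exact hrk.ge hx
  have hsur : Surjective ((Ideal.Quotient.mk M.asIdeal).comp μ.toRingHom) := fun x => by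
    obtain ⟨x, rfl⟩ := Ideal.Quotient.mk_surjective x
    obtain ⟨y, hy⟩ := hμsurj x
    exact ⟨y, ((Ideal.Quotient.mk_eq_mk_iff_sub_mem _ _).2 hy).symm⟩
  let σ₀ := RingHom.liftOfSurjective _ hsur ⟨_, hle⟩
  have hσ₀ : ∀ y, σ₀ (Ideal.Quotient.mk M.asIdeal (μ y)) = algebraMap (K ⊗[A'] Rb) Ω (algebraMap K (K ⊗[A'] Rb) y) := fun y =>
    RingHom.liftOfRightInverse_comp_apply _ _ (Function.rightInverse_surjInv hsur) ⟨_, hle⟩ y
  let σ : KD →ₐ[A'] Ω :=
    { σ₀.comp (Ideal.Quotient.mk M.asIdeal) with
      commutes' := fun a => by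
        show σ₀ (Ideal.Quotient.mk M.asIdeal (algebraMap A' KD a)) = _
        rw [← μ.commutes a, hσ₀, ← IsScalarTower.algebraMap_apply A' K (K ⊗[A'] Rb), ← IsScalarTower.algebraMap_apply] }
  let Φ : (KD ⊗[A'] Rb) →ₐ[A'] Ω := Algebra.TensorProduct.lift σ
    ((IsScalarTower.toAlgHom A' (K ⊗[A'] Rb) Ω).comp Algebra.TensorProduct.includeRight) fun _ _ => Commute.all _ _
  let q : PrimeSpectrum (KD ⊗[A'] Rb) := ⟨RingHom.ker Φ.toRingHom, RingHom.ker_isPrime _⟩
  have hqM : PrimeSpectrum.comap (algebraMap KD (KD ⊗[A'] Rb)) q = M := by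
    refine PrimeSpectrum.ext ((hM.eq_of_le ?_ fun x hx => ?_).symm)
    · exact Ideal.comap_ne_top _ q.isPrime.ne_top
    · show Φ (algebraMap KD (KD ⊗[A'] Rb) x) = 0
      simp [Φ, σ, Ideal.Quotient.eq_zero_iff_mem.2 hx]
  have hqr : PrimeSpectrum.comap (Algebra.TensorProduct.map μ (AlgHom.id A' Rb)).toRingHom q = r := by
    have hcomp : Φ.comp (Algebra.TensorProduct.map μ (AlgHom.id A' Rb)) = IsScalarTower.toAlgHom A' (K ⊗[A'] Rb) Ω := by
      refine Algebra.TensorProduct.ext' fun y z => ?_
      simp only [Φ, AlgHom.comp_apply, Algebra.TensorProduct.map_tmul, Algebra.TensorProduct.lift_tmul,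
        AlgHom.id_apply]
      show σ₀ (Ideal.Quotient.mk M.asIdeal (μ y)) * algebraMap (K ⊗[A'] Rb) Ω ((1 : K) ⊗ₜ[A'] z) = algebraMap (K ⊗[A'] Rb) Ω (y ⊗ₜ[A'] z)
      rw [hσ₀, ← map_mul, Algebra.TensorProduct.algebraMap_apply, Algebra.TensorProduct.tmul_mul_tmul]
      simp
    refine PrimeSpectrum.ext (Ideal.ext fun x => ?_)
    show Φ ((Algebra.TensorProduct.map μ (AlgHom.id A' Rb)) x) = 0 ↔ x ∈ r.asIdeal
    rw [← AlgHom.comp_apply, hcomp]
    exact Ideal.algebraMap_residueField_eq_zero
  exact ⟨q, hqM, hqr⟩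

variable (A A' Rb : Type u) [CommRing A] [CommRing A'] [CommRing Rb] [Algebra A A'] [Algebra A' Rb]
  [Algebra.WeaklyEtale A' Rb]

/-- Over an integral universal homeomorphism, weakly étale algebras are covered by base changes of
w-contractible ones. -/
theorem exists_uh_cover
    (hUH : ∀ (B : Type u) [CommRing B] [Algebra A B],
      Bijective (PrimeSpectrum.comap (Algebra.TensorProduct.includeRight : B →ₐ[A] A' ⊗[A] B).toRingHom) ∧
        (Algebra.TensorProduct.includeRight : B →ₐ[A] A' ⊗[A] B).toRingHom.IsIntegral) :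
    ∃ (D : Type u) (_ : CommRing D) (_ : Algebra A D), Algebra.WeaklyEtale A D ∧ EtPBC.IsWContractible D ∧
      ∃ φ : Rb →ₐ[A'] A' ⊗[A] D, Surjective (PrimeSpectrum.comap φ.toRingHom) := by
  classical
  obtain ⟨H, _, _, hHA, hHwc, hHall⟩ := exists_wContractible_covering_primes A
  obtain ⟨hHl, -, hHsh⟩ := WCtr.isWContractible_iff.1 hHwc
  -- its base change
  let K := A' ⊗[A] H
  let incH : H →+* K := (Algebra.TensorProduct.includeRight : H →ₐ[A] K).toRingHom
  obtain ⟨hKbij, hKint⟩ := hUH H
  letI : Algebra H K := incH.toAlgebra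
  haveI : Algebra.IsIntegral H K := ⟨hKint⟩
  have hKwc : EtPBC.IsWContractible K := wContractible_of_integral_bijective hKbij hHwc
  obtain ⟨hKl, -, -⟩ := WCtr.isWContractible_iff.1 hKwc
  let E := K ⊗[A'] Rb
  let T₀ : Type u := {e : PrimeSpectrum E // (PrimeSpectrum.comap (algebraMap K E) e).asIdeal.IsMaximal}
  obtain ⟨hT0c, hT0t⟩ := compactSpace_t2Space_over_closedPoints (E := E) hKl
  haveI : CompactSpace T₀ := hT0c
  haveI : T2Space T₀ := hT0t
  let hpt : T₀ → WLoc.CP H := fun e =>
    ⟨PrimeSpectrum.comap (algebraMap H K) (PrimeSpectrum.comap (algebraMap K E) e.1),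
      (PrimeSpectrum.isClosed_singleton_iff_isMaximal _).2 (by
        haveI := e.2
        exact Ideal.isMaximal_comap_of_isIntegral_of_isMaximal (R := H) _)⟩
  have hptc : Continuous hpt := Continuous.subtype_mk
    ((PrimeSpectrum.continuous_comap _).comp ((PrimeSpectrum.continuous_comap _).comp
      continuous_subtype_val)) _
  have hpts : ∀ w : PrimeSpectrum Rb, ∃ e : T₀,
      PrimeSpectrum.comap (Algebra.TensorProduct.includeRight : Rb →ₐ[A'] E).toRingHom e.1 = w := by
    intro w
    let p' := PrimeSpectrum.comap (algebraMap A' Rb) w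
    obtain ⟨h, hh, hhp⟩ := hHall (PrimeSpectrum.comap (algebraMap A A') p')
    obtain ⟨k, hk1, hk2⟩ := AlgRes.exists_prime_tensor (A := A) (C := A') (B := H) p' h hhp.symm
    haveI := hh
    haveI : k.asIdeal.IsMaximal := by
      refine Ideal.isMaximal_of_isIntegral_of_isMaximal_comap (R := H) k.asIdeal ?_
      rw [show k.asIdeal.comap (algebraMap H K) = h.asIdeal from congrArg PrimeSpectrum.asIdeal hk2]
      exact hh
    obtain ⟨r, hr1, hr2⟩ := AlgRes.exists_prime_tensor (A := A') (C := K) (B := Rb) k w hk1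
    exact ⟨⟨r, by rw [hr1]; infer_instance⟩, hr2⟩
  choose η hη using hpts
  -- the parameter space
  haveI : DiscreteTopology (WithTopology (PrimeSpectrum Rb) ⊥) :=
    discreteTopology_iff_forall_isOpen.2 fun s => (WithTopology.isOpen_iff _).2 trivial
  let T : Type u := StoneCech (WithTopology (PrimeSpectrum Rb) ⊥)
  haveI : ExtremallyDisconnected T := CompactT2.Projective.extremallyDisconnected StoneCech.projective
  let π : T → T₀ := stoneCechExtend (g := fun z => η z.ofTopology) continuous_of_discreteTopology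
  have hπ : Continuous π := continuous_stoneCechExtend _
  have hπη : ∀ w, ∃ t, π t = η w := fun w =>
    ⟨stoneCechUnit (WithTopology.toTopology (⊥ : TopologicalSpace (PrimeSpectrum Rb)) w),
      stoneCechExtend_stoneCechUnit _ _⟩
  let F : WLoc.Fam H T :=
    { p := fun t => (hpt (π t)).1
      clopen := fun f => ((WLoc.isClopen_ZT_basicOpen f).preimage (WLoc.continuous_qpt H hHl)).preimage
        (hptc.comp hπ) }
  let D := WLoc.WRing F
  have hFmax : ∀ t, (F.p t).asIdeal.IsMaximal := fun t =>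
    (PrimeSpectrum.isClosed_singleton_iff_isMaximal _).1 (hpt (π t)).2
  have hDwc : EtPBC.IsWContractible D := by
    refine WCtr.isWContractible_iff.2 ⟨WLoc.isWLocal F,
      WCtr.extremallyDisconnected_homeo (WLoc.componentsHomeo F).symm, fun m hm => ?_⟩
    have hmcl := (WLoc.isClosed_singleton_iff F (P := ⟨m, hm.isPrime⟩)).1
      ((PrimeSpectrum.isClosed_singleton_iff_isMaximal _).2 hm)
    generalize WLoc.pt F ⟨m, hm.isPrime⟩ = t at hmcl
    have hm' : m = (WLoc.closedPt F t).asIdeal := congrArg PrimeSpectrum.asIdeal hmcl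
    subst hm'
    haveI := hFmax t
    exact WLoc.strictlyHenselian_of_equiv (WLoc.closedPtEquiv F t) (hHsh _)
  have hDA : EtPBC.IsIndEtale A D := IndEt.trans A H D hHA (WLoc.isIndEtale F)
  refine ⟨D, inferInstance, inferInstance, IndEt.weaklyEtale A D hDA, hDwc, ?_⟩
  let KD := A' ⊗[A] D
  let incD : D →+* KD := (Algebra.TensorProduct.includeRight : D →ₐ[A] KD).toRingHom
  obtain ⟨hKDbij, hKDint⟩ := hUH D
  letI : Algebra D KD := incD.toAlgebra
  haveI : Algebra.IsIntegral D KD := ⟨hKDint⟩
  have hKDwc : EtPBC.IsWContractible KD := wContractible_of_integral_bijective hKDbij hDwc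
  let μ : K →ₐ[A'] KD := Algebra.TensorProduct.map (AlgHom.id A' A') (IsScalarTower.toAlgHom A H D)
  have hμinc : ∀ h, μ (incH h) = incD (algebraMap H D h) := fun h => by
    show μ ((1 : A') ⊗ₜ[A] h) = (1 : A') ⊗ₜ[A] algebraMap H D h
    exact Algebra.TensorProduct.map_tmul _ _ _ _
  let ED := KD ⊗[A'] Rb
  let μE : E →ₐ[A'] ED := Algebra.TensorProduct.map μ (AlgHom.id A' Rb)
  have hKDclosed : ∀ M : PrimeSpectrum KD, M.asIdeal.IsMaximal →
      PrimeSpectrum.comap incD M = WLoc.closedPt F (WLoc.pt F (PrimeSpectrum.comap incD M)) := fun M hM => by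
    refine (WLoc.isClosed_singleton_iff F).1 ?_
    haveI := hM
    exact (PrimeSpectrum.isClosed_singleton_iff_isMaximal _).2
      (Ideal.isMaximal_comap_of_isIntegral_of_isMaximal (R := D) M.asIdeal)
  have hμsurj : ∀ (M : PrimeSpectrum KD), M.asIdeal.IsMaximal → ∀ x : KD, ∃ y : K, x - μ y ∈ M.asIdeal := by
    intro M hM x
    induction x using TensorProduct.induction_on with
    | zero => exact ⟨0, by simp⟩
    | add x y hx hy =>
      obtain ⟨a, ha⟩ := hx
      obtain ⟨b, hb⟩ := hy
      refine ⟨a + b, ?_⟩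
      rw [map_add, add_sub_add_comm]
      exact add_mem ha hb
    | tmul a d =>
      let t := WLoc.pt F (PrimeSpectrum.comap incD M)
      haveI := hFmax t
      obtain ⟨⟨r, s⟩, hrs⟩ := IsLocalization.surj (F.p t).asIdeal.primeCompl (WLoc.ev F t d)
      obtain ⟨s', n, hn, hs'⟩ := Ideal.IsMaximal.exists_inv ‹(F.p t).asIdeal.IsMaximal› s.2
      refine ⟨a ⊗ₜ[A] (r * s'), ?_⟩
      have hd : d - algebraMap H D (r * s') ∈ (WLoc.closedPt F t).asIdeal := by
        rw [WLoc.mem_closedPt, map_sub, (WLoc.ev F t).commutes]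
        show WLoc.ev F t d - algebraMap H (WLoc.Loc F t) (r * s') ∈ nonunits _
        rw [← IsLocalRing.mem_maximalIdeal, ← IsLocalization.AtPrime.map_eq_maximalIdeal (F.p t).asIdeal (WLoc.Loc F t)]
        have : WLoc.ev F t d - algebraMap H (WLoc.Loc F t) (r * s') =
            WLoc.ev F t d * algebraMap H (WLoc.Loc F t) n := by
          have h1 := congrArg (algebraMap H (WLoc.Loc F t)) hs'
          rw [map_add, map_mul, map_one] at h1
          rw [map_mul, ← hrs]
          linear_combination (-(WLoc.ev F t d)) * h1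
        rw [this]
        exact Ideal.mul_mem_left _ _ (Ideal.mem_map_of_mem _ hn)
      rw [← hKDclosed M hM] at hd
      have : a ⊗ₜ[A] d - μ (a ⊗ₜ[A] (r * s')) = algebraMap A' KD a * incD (d - algebraMap H D (r * s')) := by
        show a ⊗ₜ[A] d - μ (a ⊗ₜ[A] (r * s')) = (a ⊗ₜ[A] (1 : D)) * ((1 : A') ⊗ₜ[A] (d - algebraMap H D (r * s')))
        rw [Algebra.TensorProduct.tmul_mul_tmul, mul_one, one_mul, TensorProduct.tmul_sub]
        exact congrArg (a ⊗ₜ[A] d - ·) (Algebra.TensorProduct.map_tmul _ _ _ _)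
      rw [this]
      exact Ideal.mul_mem_left _ _ hd
  let tt : PrimeSpectrum KD → T := fun M => WLoc.pt F (PrimeSpectrum.comap incD M)
  have httc : Continuous tt := (WLoc.continuous_pt F).comp (PrimeSpectrum.continuous_comap incD)
  obtain ⟨τ', hτ'⟩ := exists_retraction_tautological (K := K) (E := E) (KD := KD) (ED := ED) hKl hKDwc μE.toRingHom π hπ tt httc (by
    intro M hM
    let t := WLoc.pt F (PrimeSpectrum.comap incD M)
    let r := (π t).1
    let k := PrimeSpectrum.comap μ.toRingHom M
    have hkH : k.asIdeal.comap (algebraMap H K) = (F.p t).asIdeal := by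
      have h1 := congrArg PrimeSpectrum.asIdeal (WLoc.comap_closedPt F t)
      rw [← h1, ← hKDclosed M hM]
      ext h
      show μ (incH h) ∈ M.asIdeal ↔ incD (algebraMap H D h) ∈ M.asIdeal
      rw [hμinc]
    have hrk : PrimeSpectrum.comap (algebraMap K E) r = k := by
      refine hKbij.1 (PrimeSpectrum.ext ?_)
      exact hkH.symm
    exact exists_point_over μ M hM (hμsurj M hM) r hrk)
  refine ⟨(τ'.restrictScalars A').comp Algebra.TensorProduct.includeRight, fun w => ?_⟩
  obtain ⟨t, ht⟩ := hπη w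
  obtain ⟨M₀, hM₀⟩ := hKDbij.2 (WLoc.closedPt F t)
  haveI := WLoc.closedPt_isMaximal F t
  haveI : M₀.asIdeal.IsMaximal := by
    refine Ideal.isMaximal_of_isIntegral_of_isMaximal_comap (R := D) M₀.asIdeal ?_
    rw [show M₀.asIdeal.comap (algebraMap D KD) = (WLoc.closedPt F t).asIdeal from
      congrArg PrimeSpectrum.asIdeal hM₀]
    infer_instance
  refine ⟨M₀, ?_⟩
  let q : PrimeSpectrum ED := PrimeSpectrum.comap τ'.toRingHom M₀
  have hq0 : PrimeSpectrum.comap μE.toRingHom q = (η w).1 := by
    refine (hτ' M₀ inferInstance).trans ?_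
    rw [← ht]
    congr 2
    show WLoc.pt F (PrimeSpectrum.comap incD M₀) = t
    rw [show PrimeSpectrum.comap incD M₀ = WLoc.closedPt F t from hM₀, WLoc.pt_closedPt]
  refine Eq.trans ?_ (hη w)
  rw [← hq0]
  refine PrimeSpectrum.ext (Ideal.ext fun x => ?_)
  show τ' (Algebra.TensorProduct.includeRight x) ∈ M₀.asIdeal ↔
    τ' (μE (Algebra.TensorProduct.includeRight x)) ∈ M₀.asIdeal
  rw [show μE (Algebra.TensorProduct.includeRight x) = Algebra.TensorProduct.includeRight x from by
    show μE ((1 : K) ⊗ₜ[A'] x) = (1 : KD) ⊗ₜ[A'] x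
    exact (Algebra.TensorProduct.map_tmul _ _ _ _).trans (by rw [map_one]; rfl)]

end Cover

end Groth.Agent.ProEtWC
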