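import Mathlib
import Groth.Agent.ProEtWC.PullSections
import Groth.Agent.ProEtWC.ExtZeroLimits
import Groth.Agent.ProEtWC.UHRing

/-!
# The small pro-étale site and universal homeomorphisms
-/

set_option autoImplicit false
set_option linter.all false
set_option backward.isDefEq.respectTransparency.types false
set_option backward.isDefEq.respectTransparency false
set_option synthInstance.maxHeartbeats 400000
set_option maxHeartbeats 1000000

universe u

open CategoryTheory Limits AlgebraicGeometry Opposite MorphismProperty TensorProduct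

namespace Groth.Agent.ProEtWC.UH

variable {X Z : Scheme.{u}} (i : Z ⟶ X) [IsIntegralHom i] [UniversallyInjective i] [Surjective i]

section

variable (V : X.ProEt)

/-- The projection from the base change. -/
noncomputable abbrev bcFst : ((ProEtS.bcP i).obj V).left ⟶ V.left := pullback.fst V.hom i

theorem bc_map_fst {V' : X.ProEt} (m : V' ⟶ V) :
    ((ProEtS.bcP i).map m).left ≫ bcFst i V = bcFst i V' ≫ m.left :=
  pullback.lift_fst _ _ _

theorem bijective_bcFst : Function.Bijective (bcFst i V) := by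
  have sq := (IsPullback.of_hasPullback V.hom i).flip
  haveI : UniversallyInjective (bcFst i V) :=
    MorphismProperty.of_isPullback (P := @UniversallyInjective) sq inferInstance
  haveI : Surjective (bcFst i V) := MorphismProperty.of_isPullback (P := @Surjective) sq inferInstance
  exact ⟨(bcFst i V).injective, (bcFst i V).surjective⟩

theorem isAffine_bc [IsAffine V.left] : IsAffine ((ProEtS.bcP i).obj V).left := by
  haveI : IsIntegralHom (bcFst i V) := inferInstanceAs (IsIntegralHom (pullback.fst V.hom i))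
  exact isAffine_of_isAffineHom (bcFst i V)

variable [IsAffine V.left]

theorem integral_bijective_appTop :
    (bcFst i V).appTop.hom.IsIntegral ∧ Function.Bijective (PrimeSpectrum.comap (bcFst i V).appTop.hom) := by
  haveI : IsIntegralHom (bcFst i V) := inferInstanceAs (IsIntegralHom (pullback.fst V.hom i))
  haveI := isAffine_bc i V
  refine ⟨((HasAffineProperty.iff_of_isAffine (P := @IsIntegralHom)).1 ‹IsIntegralHom (bcFst i V)›).2, ?_⟩
  show Function.Bijective (Spec.map (bcFst i V).appTop)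
  have h := Scheme.isoSpec_hom_naturality (bcFst i V)
  have h1 : Function.Bijective ((((ProEtS.bcP i).obj V).left.isoSpec.hom ≫ Spec.map (bcFst i V).appTop)) := by
    rw [h]
    exact (V.left.isoSpec.hom.homeomorph.bijective).comp (bijective_bcFst i V)
  exact (Function.Bijective.of_comp_iff _ ((ProEtS.bcP i).obj V).left.isoSpec.hom.homeomorph.bijective).1 h1

variable (hwc : EtPBC.IsWContractible Γ(V.left, ⊤))

include hwc in
theorem wContractible_bc : EtPBC.IsWContractible Γ(((ProEtS.bcP i).obj V).left, ⊤) := by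
  letI := (bcFst i V).appTop.hom.toAlgebra
  obtain ⟨h1, h2⟩ := integral_bijective_appTop i V
  haveI : Algebra.IsIntegral Γ(V.left, ⊤) Γ(((ProEtS.bcP i).obj V).left, ⊤) := ⟨h1⟩
  exact wContractible_of_integral_bijective h2 hwc

include hwc in
theorem exists_section_lift {Y : X.ProEt} [IsAffine Y.left] (g : Y ⟶ V)
    (σ : (ProEtS.bcP i).obj V ⟶ (ProEtS.bcP i).obj Y) (hσ : σ ≫ (ProEtS.bcP i).map g = 𝟙 _) :
    ∃ t : V ⟶ Y, t ≫ g = 𝟙 V ∧ (ProEtS.bcP i).map t = σ := by
  haveI := weaklyEtale_left g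
  haveI := isAffine_bc i V
  obtain ⟨hint, hbij⟩ := integral_bijective_appTop i V
  letI := g.left.appTop.hom.toAlgebra
  haveI := weaklyEtale_appTop g.left
  let p := bcFst i V
  letI := p.appTop.hom.toAlgebra
  haveI : Algebra.IsIntegral Γ(V.left, ⊤) Γ(((ProEtS.bcP i).obj V).left, ⊤) := ⟨hint⟩
  let q : ((ProEtS.bcP i).obj V).left ⟶ Y.left := σ.left ≫ bcFst i Y
  have hq : q ≫ g.left = p := by
    show (σ.left ≫ bcFst i Y) ≫ g.left = p
    rw [Category.assoc, ← bc_map_fst i V g, ← Category.assoc]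
    have : σ.left ≫ ((ProEtS.bcP i).map g).left = 𝟙 _ := congrArg (fun φ => φ.left) hσ
    rw [this, Category.id_comp]
  let φ : Γ(Y.left, ⊤) →ₐ[Γ(V.left, ⊤)] Γ(((ProEtS.bcP i).obj V).left, ⊤) :=
    { q.appTop.hom with
      commutes' := fun x => by
        have h1 : (g.left.appTop ≫ q.appTop) = p.appTop := by rw [← Scheme.Hom.comp_appTop, hq]
        exact ConcreteCategory.congr_hom h1 x }
  obtain ⟨t, ht⟩ := exists_lift_of_integral hbij hwc φ
  let r : V.left ⟶ Y.left := V.left.isoSpec.hom ≫ Spec.map (CommRingCat.ofHom t.toRingHom) ≫ Y.left.isoSpec.inv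
  have hr : r ≫ g.left = 𝟙 _ := by
    show (V.left.isoSpec.hom ≫ Spec.map _ ≫ Y.left.isoSpec.inv) ≫ g.left = _
    rw [Category.assoc, Category.assoc, ← Scheme.isoSpec_inv_naturality, ← Spec.map_comp_assoc]
    have h1 : g.left.appTop ≫ CommRingCat.ofHom t.toRingHom = 𝟙 _ :=
      CommRingCat.hom_ext (RingHom.ext t.commutes)
    rw [h1, Spec.map_id, Category.id_comp, Iso.hom_inv_id]
  let t' : V ⟶ Y := MorphismProperty.Over.homMk r (by
    have hw : g.left ≫ V.hom = Y.hom := CategoryTheory.Over.w g.hom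
    rw [← hw, ← Category.assoc, hr, Category.id_comp]) trivial
  refine ⟨t', (Scheme.ProEt.forget X ⋙ CategoryTheory.Over.forget X).map_injective hr, ?_⟩
  have hpr : p ≫ r = q := by
    show p ≫ V.left.isoSpec.hom ≫ Spec.map _ ≫ Y.left.isoSpec.inv = q
    rw [← Category.assoc p, ← Scheme.isoSpec_hom_naturality, Category.assoc, ← Spec.map_comp_assoc]
    have h1 : CommRingCat.ofHom t.toRingHom ≫ p.appTop = q.appTop := CommRingCat.hom_ext (RingHom.ext fun y => by
      exact DFunLike.congr_fun ht y)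
    rw [h1, ← Category.assoc, Scheme.isoSpec_hom_naturality, Category.assoc, Iso.hom_inv_id, Category.comp_id]
  refine (Scheme.ProEt.forget Z ⋙ CategoryTheory.Over.forget Z).map_injective (pullback.hom_ext ?_ ?_)
  · exact (bc_map_fst i Y t').trans hpr
  · exact (pullback.lift_snd _ _ _).trans (CategoryTheory.Over.w σ.hom).symm

include hwc in
/-- Morphisms from the closed part lift. -/
theorem exists_hom_lift {V' : X.ProEt} (h : (ProEtS.bcP i).obj V ⟶ (ProEtS.bcP i).obj V') :
    ∃ m : V ⟶ V', (ProEtS.bcP i).map m = h := by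
  let G := ProEtS.bcP i
  haveI := isAffine_bc i V
  let P : X.ProEt := Limits.prod V V'
  let h₂ : G.obj V ⟶ G.obj P := prod.lift (𝟙 _) h ≫ inv (prodComparison G V V')
  have h₂f : h₂ ≫ G.map prod.fst = 𝟙 _ := by
    show (prod.lift (𝟙 _) h ≫ inv (prodComparison G V V')) ≫ G.map prod.fst = _
    rw [Category.assoc, inv_prodComparison_map_fst, prod.lift_fst]
  have h₂s : h₂ ≫ G.map prod.snd = h := by
    show (prod.lift (𝟙 _) h ≫ inv (prodComparison G V V')) ≫ G.map prod.snd = _
    rw [Category.assoc, inv_prodComparison_map_snd, prod.lift_snd]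
  let E := P.left.affineCover
  let O : E.I₀ → X.ProEt := fun a => Scheme.ProEt.mk (E.f a ≫ P.hom)
  let w : ∀ a, O a ⟶ P := fun a => MorphismProperty.Over.homMk (E.f a) rfl trivial
  haveI : ∀ a, IsOpenImmersion (G.map (w a)).left := fun a => by
    haveI : IsOpenImmersion (w a).left := inferInstanceAs (IsOpenImmersion (E.f a))
    have : (G.map (w a)).left = pullback.map (O a).hom i P.hom i (w a).left (𝟙 _) (𝟙 _)
        (by rw [Category.comp_id]; exact (CategoryTheory.Over.w (w a).hom).symm) (by simp) :=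
      pullback.hom_ext
        ((bc_map_fst i P (w a)).trans (pullback.lift_fst _ _ _).symm)
        ((pullback.lift_snd _ _ _).trans ((pullback.lift_snd _ _ _).trans (Category.comp_id _)).symm)
    rw [this]
    infer_instance
  have hcov : ∀ x : (G.obj P).left, ∃ a, x ∈ Set.range (G.map (w a)).left := fun x => by
    obtain ⟨a, y, hy⟩ : ∃ a y, E.f a y = bcFst i P x := ⟨_, E.covers _⟩
    obtain ⟨x', hx'⟩ := (bijective_bcFst i (O a)).2 y
    refine ⟨a, x', (bijective_bcFst i P).1 ?_⟩
    rw [← Scheme.Hom.comp_apply, bc_map_fst]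
    show E.f a (bcFst i (O a) x') = _
    rw [hx', hy]
  have hS : Sieve.generate (Presieve.ofArrows (fun a => G.obj (O a)) (fun a => G.map (w a))) ∈
      Scheme.ProEt.topology Z (G.obj P) :=
    Precoverage.generate_mem_toGrothendieck (ofArrows_mem_precoverage _ _ hcov)
  obtain ⟨n, W, -, hdisj, hWcov, hW⟩ := clopenRefined_of_wContractible (wContractible_bc i V hwc) _
    ((Scheme.ProEt.topology Z).pullback_stable h₂ hS)
  choose T c b hb hcb using fun k => hW k
  have hb' : ∀ k, ∃ (a : E.I₀) (c' : openObj (G.obj V) (W k) ⟶ G.obj (O a)),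
      c' ≫ G.map (w a) = openIncl (G.obj V) (W k) ≫ h₂ := fun k => by
    obtain ⟨T₁, c₁, b₁, ⟨a⟩, h₁⟩ := hW k
    exact ⟨a, c₁, h₁⟩
  choose a q hq using hb'
  let d₀ : (∐ fun k => (O (a k)).left) ⟶ P.left := Sigma.desc fun k => E.f (a k)
  haveI : WeaklyEtale d₀ := IsZariskiLocalAtSource.sigmaDesc fun k => inferInstanceAs (WeaklyEtale (E.f (a k)))
  let Y : X.ProEt := Scheme.ProEt.mk (d₀ ≫ P.hom)
  haveI : ∀ k, IsAffine (O (a k)).left := fun k => inferInstanceAs (IsAffine (E.X (a k)))
  haveI : IsAffine Y.left := inferInstanceAs (IsAffine (∐ fun k => (O (a k)).left))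
  let d : Y ⟶ P := MorphismProperty.Over.homMk d₀ rfl trivial
  let ι : ∀ k, O (a k) ⟶ Y := fun k => MorphismProperty.Over.homMk (Sigma.ι (fun k => (O (a k)).left) k) (by
    show Sigma.ι (fun k => (O (a k)).left) k ≫ d₀ ≫ P.hom = E.f (a k) ≫ P.hom
    rw [Sigma.ι_desc_assoc]) trivial
  have hιd : ∀ k, ι k ≫ d = w (a k) := fun k =>
    (Scheme.ProEt.forget X ⋙ CategoryTheory.Over.forget X).map_injective (Sigma.ι_desc _ _)
  haveI : ∀ k, IsOpenImmersion (openIncl (G.obj V) (W k)).left :=
    fun k => inferInstanceAs (IsOpenImmersion (W k).ι)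
  obtain ⟨hc⟩ := nonempty_isColimit_cofan (fun k => openObj (G.obj V) (W k)) (fun k => openIncl (G.obj V) (W k))
    (fun x => by
      obtain ⟨k, hk⟩ := Set.mem_iUnion.1 (hWcov.ge (Set.mem_univ x))
      exact ⟨k, ⟨x, hk⟩, rfl⟩)
    (fun k l hkl => by
      refine Set.disjoint_left.2 ?_
      rintro _ ⟨y, rfl⟩ ⟨z, hz⟩
      exact Set.disjoint_left.1 (hdisj hkl) y.2 (by
        show y.1 ∈ (W l : Set _)
        rw [show y.1 = z.1 from hz.symm]
        exact z.2))
  let σ : G.obj V ⟶ G.obj Y := Cofan.IsColimit.desc hc fun k => q k ≫ G.map (ι k)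
  have hσd : σ ≫ G.map d = h₂ := Cofan.IsColimit.hom_ext hc _ _ fun k => by
    show openIncl (G.obj V) (W k) ≫ σ ≫ _ = openIncl (G.obj V) (W k) ≫ h₂
    rw [← Category.assoc]
    erw [Cofan.IsColimit.fac hc]
    rw [Category.assoc, ← Functor.map_comp, hιd, hq]
  obtain ⟨t, -, ht⟩ := exists_section_lift i V hwc (d ≫ prod.fst) σ (by
    rw [Functor.map_comp, ← Category.assoc]
    erw [hσd]
    exact h₂f)
  exact ⟨t ≫ d ≫ prod.snd, by rw [Functor.map_comp, Functor.map_comp, ht, ← Category.assoc]; erw [hσd]; exact h₂s⟩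

include hwc in
/-- Lifts are unique. -/
theorem hom_ext_of_bc {V' : X.ProEt} (m m' : V ⟶ V') (h : (ProEtS.bcP i).map m = (ProEtS.bcP i).map m') :
    m = m' := by
  let G := ProEtS.bcP i
  haveI := isAffine_bc i V
  let e := equalizer.ι m m'
  obtain ⟨k, hk⟩ : ∃ k : G.obj V ⟶ G.obj (equalizer m m'), k ≫ G.map e = 𝟙 _ := by
    let hf := isLimitOfHasEqualizerOfPreservesLimit G m m'
    exact ⟨Fork.IsLimit.lift hf (𝟙 _) (by rw [Category.id_comp, Category.id_comp]; exact h),
      Fork.IsLimit.lift_ι' hf _ _⟩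
  let E := (equalizer m m').left.affineCover
  let u : ((ProEtS.bcP i).obj V).left ⟶ (equalizer m m').left := k.left ≫ bcFst i (equalizer m m')
  have hu : u ≫ e.left = bcFst i V := by
    show (k.left ≫ bcFst i (equalizer m m')) ≫ e.left = _
    rw [Category.assoc, ← bc_map_fst i V e, ← Category.assoc]
    have : k.left ≫ ((ProEtS.bcP i).map e).left = 𝟙 _ := congrArg (fun φ => φ.left) hk
    rw [this, Category.id_comp]
  obtain ⟨s, hs⟩ := (isCompact_range u.continuous).elim_finite_subcover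
    (fun a => Set.range (E.f a)) (fun a => (E.f a).isOpenEmbedding.isOpen_range)
    (fun x _ => Set.mem_iUnion.2 ⟨_, E.covers x⟩)
  let d₀ : (∐ fun a : s => E.X a) ⟶ (equalizer m m').left := Sigma.desc fun a : s => E.f a
  haveI : WeaklyEtale d₀ := IsZariskiLocalAtSource.sigmaDesc fun a => inferInstanceAs (WeaklyEtale (E.f a.1))
  let T : X.ProEt := Scheme.ProEt.mk (d₀ ≫ (equalizer m m').hom)
  haveI : ∀ a : s, IsAffine (E.X a) := fun a => inferInstanceAs (IsAffine ((equalizer m m').left.affineCover.X a))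
  haveI : IsAffine T.left := inferInstanceAs (IsAffine (∐ fun a : s => E.X a))
  let d : T ⟶ equalizer m m' := MorphismProperty.Over.homMk d₀ rfl trivial
  haveI := weaklyEtale_left (d ≫ e)
  have hsurj : Function.Surjective (d ≫ e).left := fun v => by
    obtain ⟨x, hx⟩ := (bijective_bcFst i V).2 v
    obtain ⟨a, ha, y, hy⟩ := Set.mem_iUnion₂.1 (hs ⟨x, rfl⟩)
    obtain ⟨y', -, hy'⟩ := Flat.generalizingMap (d ≫ e).left
      (a := Sigma.ι (fun a : s => E.X a) ⟨a, ha⟩ y) (b := v) (by
        show v ⤳ e.left (d₀ (Sigma.ι (fun a : s => E.X a) ⟨a, ha⟩ y))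
        rw [← Scheme.Hom.comp_apply (Sigma.ι (fun a : s => E.X a) ⟨a, ha⟩) d₀, Sigma.ι_desc, hy,
          ← Scheme.Hom.comp_apply, hu, hx])
    exact ⟨y', hy'⟩
  obtain ⟨τ, hτ⟩ := exists_section hwc (d ≫ e) hsurj
  calc m = (τ ≫ d ≫ e) ≫ m := by rw [hτ, Category.id_comp]
    _ = (τ ≫ d ≫ e) ≫ m' := by simp only [Category.assoc]; erw [equalizer.condition m m']
    _ = m' := by rw [hτ, Category.id_comp]

include hwc in
/-- The left Kan extension along base change at the closed part is the value. -/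
theorem isIso_unit_app {A : Type*} [Category A] (F : X.ProEtᵒᵖ ⥤ A)
    {L : Z.ProEtᵒᵖ ⥤ A} (η : F ⟶ (ProEtS.bcP i).op ⋙ L)
    (hL : (Functor.LeftExtension.mk L η).IsPointwiseLeftKanExtension) : IsIso (η.app (op V)) := by
  let G := ProEtS.bcP i
  let t : CostructuredArrow G.op (op (G.obj V)) := CostructuredArrow.mk (Y := op V) (𝟙 _)
  have htm : ∀ j : CostructuredArrow G.op (op (G.obj V)),
      ∃ m : V ⟶ j.left.unop, G.map m = j.hom.unop := fun j => exists_hom_lift i V hwc j.hom.unop
  choose m hm using htm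
  have ht : IsTerminal t := IsTerminal.ofUniqueHom
    (fun j => CostructuredArrow.homMk (m j).op (by
      show (G.map (m j)).op ≫ 𝟙 _ = j.hom
      rw [Category.comp_id, hm]
      rfl))
    (fun j f => by
      refine CostructuredArrow.hom_ext _ _ (Quiver.Hom.unop_inj (hom_ext_of_bc i V hwc _ _ ?_))
      show G.map f.left.unop = G.map (m j)
      rw [hm]
      have := congrArg Quiver.Hom.unop (CostructuredArrow.w f)
      simpa [t] using this)
  have h1 : IsColimit (coconeOfDiagramTerminal ht (CostructuredArrow.proj G.op (op (G.obj V)) ⋙ F)) :=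
    colimitOfDiagramTerminal ht _
  let e := h1.coconePointUniqueUpToIso (hL (op (G.obj V)))
  have h3 := h1.comp_coconePointUniqueUpToIso_hom (hL (op (G.obj V))) t
  have h4 : (coconeOfDiagramTerminal ht (CostructuredArrow.proj G.op (op (G.obj V)) ⋙ F)).ι.app t = 𝟙 _ := by
    show (CostructuredArrow.proj G.op (op (G.obj V)) ⋙ F).map (ht.from t) = _
    rw [ht.hom_ext (ht.from t) (𝟙 t)]
    exact CategoryTheory.Functor.map_id _ _
  rw [h4] at h3
  erw [Category.id_comp] at h3
  have h5 : e.hom = η.app (op V) := by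
    refine h3.trans ?_
    show η.app (op V) ≫ L.map (𝟙 _) = _
    rw [L.map_id]
    exact Category.comp_id _
  rw [← h5]
  exact inferInstanceAs (IsIso e.hom)

end

variable [ProEtS.PCont i]

/-- On an affine weakly contractible object, sections of a sheaf and of its
inverse image to `Z` agree. -/
theorem unit_bijective (V : X.ProEt) [IsAffine V.left]
    (hwc : EtPBC.IsWContractible Γ(V.left, ⊤)) (F : ProEtS.AbP X) :
    Function.Bijective (((ProEtS.pullPushAdjP i).unit.app F).hom.app (op V)) := by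
  let G := ProEtS.bcP i
  let A := AddCommGrpCat.{u + 1}
  let J := Scheme.ProEt.topology X
  let K := Scheme.ProEt.topology Z
  haveI := isAffine_bc i V
  let adj' := Functor.sheafPullbackConstruction.sheafAdjunctionContinuous G A J K
  let adj := Functor.sheafAdjunctionContinuous G A J K
  have h1 : Function.Bijective ((adj'.unit.app F).hom.app (op V)) := by
    have hu : (adj'.unit.app F).hom = G.op.lanUnit.app F.obj ≫
        Functor.whiskerLeft G.op (toSheafify K (G.op.lan.obj F.obj)) := by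
      show (sheafToPresheaf J A).map (adj'.unit.app F) = _
      simp only [adj', Functor.sheafPullbackConstruction.sheafAdjunctionContinuous]
      erw [Adjunction.map_restrictFullyFaithful_unit_app]
      simp [Adjunction.comp_unit_app, Functor.lanAdjunction_unit, sheafificationAdjunction_unit_app]
      rfl
    have ha : IsIso ((G.op.lanUnit.app F.obj).app (op V)) :=
      isIso_unit_app i V hwc F.obj _
        (Functor.isPointwiseLeftKanExtensionOfIsLeftKanExtension _ _)
    have hb := toSheafify_bijective_ab (G.op.lan.obj F.obj) (G.obj V)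
      ((wContractible_iff_isWC _).1 (wContractible_bc i V hwc))
      (fun n Q g hc => lan_bijective_disjoint_ab i F Q g hc)
    rw [hu]
    exact hb.comp ((ConcreteCategory.isIso_iff_bijective _).1 ha)
  have h2 := adj.unit_leftAdjointUniq_hom_app adj' F
  have h3 : Function.Bijective (((G.sheafPushforwardContinuous A J K).map
      ((adj.leftAdjointUniq adj').hom.app F)).hom.app (op V)) :=
    (ConcreteCategory.isIso_iff_bijective _).1
      (((sheafToPresheaf J A).mapIso ((G.sheafPushforwardContinuous A J K).mapIso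
        ((adj.leftAdjointUniq adj').app F))).app (op V)).isIso_hom
  rw [← h2] at h1
  exact (Function.Bijective.of_comp_iff' h3 _).1 h1

omit [ProEtS.PCont i] in
/-- Near every point, an object over the source is covered by base changes. -/
theorem exists_good_near (W : Z.ProEt) (w : W.left) :
    ∃ (V : X.ProEt) (O : W.left.Opens) (b : (ProEtS.bcP i).obj V ⟶ openObj W O),
      IsAffine V.left ∧ EtPBC.IsWContractible Γ(V.left, ⊤) ∧
      IsAffineOpen O ∧ w ∈ O ∧ Function.Surjective b.left := by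
  obtain ⟨U, hU, hwU, -⟩ := exists_isAffineOpen_mem_and_subset (X := X) (x := i (W.hom w)) (U := ⊤) trivial
  let ZU : Z.Opens := i ⁻¹ᵁ U
  have hZU : IsAffineOpen ZU := hU.preimage i
  obtain ⟨O, hO, hwO, hle⟩ := exists_isAffineOpen_mem_and_subset (X := W.left) (x := w)
    (U := W.hom ⁻¹ᵁ ZU) hwU
  let π : Γ(X, U) ⟶ Γ(Z, ZU) := i.app U
  have hπ : Spec.map π ≫ hU.fromSpec = hZU.fromSpec ≫ i := by
    show Spec.map (i.app U) ≫ _ = _
    rw [← i.appLE_eq_app]
    exact hU.SpecMap_appLE_fromSpec i hZU le_rfl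
  let α : Γ(Z, ZU) ⟶ Γ(W.left, O) := W.hom.appLE ZU O hle
  have hα : Spec.map α ≫ hZU.fromSpec = hO.fromSpec ≫ W.hom := hZU.SpecMap_appLE_fromSpec W.hom hO hle
  letI := α.hom.toAlgebra
  haveI : Algebra.WeaklyEtale Γ(Z, ZU) Γ(W.left, O) := by
    rw [← SchMor12.weaklyEtale_SpecMap_iff]
    show WeaklyEtale (Spec.map α)
    exact MorphismProperty.of_postcomp (W := @WeaklyEtale) (W' := @WeaklyEtale) (Spec.map α) hZU.fromSpec
      (inferInstanceAs (WeaklyEtale hZU.fromSpec))
      (show WeaklyEtale (Spec.map α ≫ hZU.fromSpec) by rw [hα]; infer_instance)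
  letI := π.hom.toAlgebra
  have sq : IsPullback hZU.fromSpec (Spec.map π) i hU.fromSpec := by
    refine (IsOpenImmersion.isPullback (Spec.map π) hZU.fromSpec hU.fromSpec i hπ.symm ?_).flip
    apply TopologicalSpace.Opens.ext
    show i ⁻¹' (Set.range hU.fromSpec) = (Set.range hZU.fromSpec)
    rw [hU.range_fromSpec, hZU.range_fromSpec]
    rfl
  haveI : IsIntegralHom (Spec.map π) := MorphismProperty.of_isPullback (P := @IsIntegralHom) sq inferInstance
  haveI : UniversallyInjective (Spec.map π) :=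
    MorphismProperty.of_isPullback (P := @UniversallyInjective) sq inferInstance
  haveI : Surjective (Spec.map π) := MorphismProperty.of_isPullback (P := @Surjective) sq inferInstance
  have hUH : ∀ (B : Type u) [CommRing B] [Algebra Γ(X, U) B],
      Function.Bijective (PrimeSpectrum.comap
        (Algebra.TensorProduct.includeRight : B →ₐ[Γ(X, U)] Γ(Z, ZU) ⊗[Γ(X, U)] B).toRingHom) ∧
        (Algebra.TensorProduct.includeRight : B →ₐ[Γ(X, U)] Γ(Z, ZU) ⊗[Γ(X, U)] B).toRingHom.IsIntegral := by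
    intro B _ _
    let f₁ := Spec.map (CommRingCat.ofHom (algebraMap Γ(X, U) Γ(Z, ZU)))
    let f₂ := Spec.map (CommRingCat.ofHom (algebraMap Γ(X, U) B))
    haveI : IsIntegralHom f₁ := ‹IsIntegralHom (Spec.map π)›
    haveI : UniversallyInjective f₁ := ‹UniversallyInjective (Spec.map π)›
    haveI : Surjective f₁ := ‹Surjective (Spec.map π)›
    have h := pullbackSpecIso_inv_snd Γ(X, U) Γ(Z, ZU) B
    have sq' := IsPullback.of_hasPullback f₁ f₂
    haveI : IsIntegralHom (pullback.snd f₁ f₂) := MorphismProperty.of_isPullback (P := @IsIntegralHom) sq' inferInstance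
    haveI : UniversallyInjective (pullback.snd f₁ f₂) :=
      MorphismProperty.of_isPullback (P := @UniversallyInjective) sq' inferInstance
    haveI : Surjective (pullback.snd f₁ f₂) := MorphismProperty.of_isPullback (P := @Surjective) sq' inferInstance
    refine ⟨?_, ?_⟩
    · have hsnd : Function.Bijective (pullback.snd f₁ f₂) :=
        ⟨(pullback.snd f₁ f₂).injective, (pullback.snd f₁ f₂).surjective⟩
      have key : Function.Bijective ((pullbackSpecIso Γ(X, U) Γ(Z, ZU) B).inv ≫ pullback.snd f₁ f₂) := by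
        show Function.Bijective ((pullback.snd f₁ f₂) ∘ (pullbackSpecIso Γ(X, U) Γ(Z, ZU) B).inv)
        exact hsnd.comp (pullbackSpecIso Γ(X, U) Γ(Z, ZU) B).inv.homeomorph.bijective
      rw [h] at key
      exact key
    · have h' : IsIntegralHom ((pullbackSpecIso Γ(X, U) Γ(Z, ZU) B).inv ≫ pullback.snd f₁ f₂) := inferInstance
      rw [h] at h'
      exact IsIntegralHom.SpecMap_iff.1 h'
  obtain ⟨D, _, _, hDwe, hDwc, φ, hφs⟩ := exists_uh_cover Γ(X, U) Γ(Z, ZU) Γ(W.left, O) hUH
  let η : Γ(X, U) ⟶ CommRingCat.of D := CommRingCat.ofHom (algebraMap Γ(X, U) D)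
  haveI : WeaklyEtale (Spec.map η) := (SchMor12.weaklyEtale_SpecMap_iff Γ(X, U) D).2 hDwe
  let V : X.ProEt := Scheme.ProEt.mk (Spec.map η ≫ hU.fromSpec)
  have hVa : IsAffine V.left := inferInstanceAs (IsAffine (Spec (CommRingCat.of D)))
  haveI := hVa
  let P := ((ProEtS.bcP i).obj V).left
  let χ : P ⟶ Spec (CommRingCat.of D) := bcFst i V
  have hχ : χ ≫ Spec.map η ≫ hU.fromSpec = ((ProEtS.bcP i).obj V).hom ≫ i := pullback.condition
  have hrange : Set.range ((ProEtS.bcP i).obj V).hom ⊆ Set.range hZU.fromSpec := by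
    rintro _ ⟨y, rfl⟩
    rw [hZU.range_fromSpec]
    show i (((ProEtS.bcP i).obj V).hom y) ∈ (U : Set X)
    have h3 : i (((ProEtS.bcP i).obj V).hom y) = (χ ≫ Spec.map η ≫ hU.fromSpec) y :=
      (congrArg (fun φ => φ y) hχ).symm
    rw [h3, ← hU.range_fromSpec]
    exact ⟨_, rfl⟩
  let s := IsOpenImmersion.lift hZU.fromSpec ((ProEtS.bcP i).obj V).hom hrange
  have hs : χ ≫ Spec.map η = s ≫ Spec.map π := by
    rw [← cancel_mono hU.fromSpec, Category.assoc, hχ, Category.assoc, hπ, IsOpenImmersion.lift_fac_assoc]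
  let β : Γ(W.left, O) ⟶ CommRingCat.of (Γ(Z, ZU) ⊗[Γ(X, U)] D) := CommRingCat.ofHom φ.toRingHom
  let lft : P ⟶ pullback (Spec.map (CommRingCat.ofHom (algebraMap Γ(X, U) Γ(Z, ZU))))
      (Spec.map (CommRingCat.ofHom (algebraMap Γ(X, U) D))) := pullback.lift s χ hs.symm
  let m : P ⟶ Spec (CommRingCat.of (Γ(Z, ZU) ⊗[Γ(X, U)] D)) :=
    lft ≫ (pullbackSpecIso Γ(X, U) Γ(Z, ZU) D).hom
  let incl : CommRingCat.of D ⟶ CommRingCat.of (Γ(Z, ZU) ⊗[Γ(X, U)] D) :=
    CommRingCat.ofHom (Algebra.TensorProduct.includeRight : D →ₐ[Γ(X, U)] Γ(Z, ZU) ⊗[Γ(X, U)] D).toRingHom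
  have hmD : m ≫ Spec.map incl = χ := by
    show (lft ≫ (pullbackSpecIso Γ(X, U) Γ(Z, ZU) D).hom) ≫ _ = _
    rw [Category.assoc]
    exact (congrArg (lft ≫ ·) (pullbackSpecIso_hom_snd _ _ _)).trans (pullback.lift_snd _ _ _)
  have hmA : m ≫ Spec.map β ≫ Spec.map α = s := by
    rw [← Spec.map_comp]
    have h1 : α ≫ β = CommRingCat.ofHom (algebraMap Γ(Z, ZU) (Γ(Z, ZU) ⊗[Γ(X, U)] D)) :=
      CommRingCat.hom_ext (RingHom.ext φ.commutes)
    rw [h1]
    show (lft ≫ (pullbackSpecIso Γ(X, U) Γ(Z, ZU) D).hom) ≫ _ = _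
    rw [Category.assoc]
    exact (congrArg (lft ≫ ·) (pullbackSpecIso_hom_fst' _ _ _)).trans (pullback.lift_fst _ _ _)
  let q₀ : Spec (CommRingCat.of (Γ(Z, ZU) ⊗[Γ(X, U)] D)) ⟶ O.toScheme := Spec.map β ≫ hO.isoSpec.inv
  have hb : (m ≫ q₀) ≫ O.ι ≫ W.hom = ((ProEtS.bcP i).obj V).hom := by
    show (m ≫ Spec.map β ≫ hO.isoSpec.inv) ≫ O.ι ≫ W.hom = _
    simp only [Category.assoc]
    rw [hO.isoSpec_inv_ι_assoc, ← hα, reassoc_of% hmA]
    exact IsOpenImmersion.lift_fac _ _ _
  refine ⟨V, O, MorphismProperty.Over.homMk (m ≫ q₀) hb trivial, hVa, ?_, hO, hwO, fun y => ?_⟩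
  · exact wContractible_of_ringEquiv (Scheme.ΓSpecIso (CommRingCat.of D)).symm.commRingCatIsoToRingEquiv hDwc
  · obtain ⟨p, hp⟩ := hφs (hO.isoSpec.hom y)
    obtain ⟨x, hx⟩ := (bijective_bcFst i V).2 (Spec.map incl p)
    have hmx : m x = p := by
      refine (hUH D).1.1 ?_
      show Spec.map incl (m x) = Spec.map incl p
      rw [← Scheme.Hom.comp_apply, hmD]
      exact hx
    refine ⟨x, ?_⟩
    show q₀ (m x) = y
    rw [hmx]
    show hO.isoSpec.inv (Spec.map β p) = y
    rw [show Spec.map β p = hO.isoSpec.hom y from hp, ← Scheme.Hom.comp_apply, Iso.hom_inv_id]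
    rfl

/-- Morphisms of sheaves on the closed subscheme may be tested on base changes. -/
theorem isIso_of_bc {F G : ProEtS.AbP Z} (φ : F ⟶ G)
    (h : ∀ (V : X.ProEt), IsAffine V.left → EtPBC.IsWContractible Γ(V.left, ⊤) →
      Function.Bijective (φ.hom.app (op ((ProEtS.bcP i).obj V)))) : IsIso φ := by
  let J := Scheme.ProEt.topology Z
  have hcov : ∀ W : Z.ProEt, ∃ (ι : Type u) (V : ι → X.ProEt) (b : ∀ k, (ProEtS.bcP i).obj (V k) ⟶ W),
      Sieve.generate (Presieve.ofArrows (fun k => (ProEtS.bcP i).obj (V k)) b) ∈ J W ∧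
      ∀ k, Function.Bijective (φ.hom.app (op ((ProEtS.bcP i).obj (V k)))) := by
    intro W
    choose V O b hVa hwc hO hw hs using fun w => exists_good_near i W w
    refine ⟨W.left, V, fun w => b w ≫ openIncl W (O w), ?_, fun w => h (V w) (hVa w) (hwc w)⟩
    haveI : ∀ w, IsOpenImmersion (openIncl W (O w)).left := fun w => inferInstanceAs (IsOpenImmersion (O w).ι)
    refine J.transitive (Precoverage.generate_mem_toGrothendieck
      (ofArrows_mem_precoverage (fun w => openObj W (O w)) (fun w => openIncl W (O w))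
        fun w => ⟨w, ⟨w, hw w⟩, rfl⟩)) _ ?_
    rintro T f ⟨_, c, _, ⟨w⟩, rfl⟩
    rw [Sieve.pullback_comp]
    refine J.pullback_stable c ?_
    haveI : IsAffine (openObj W (O w)).left := hO w
    haveI := hVa w
    haveI := isAffine_bc i (V w)
    refine J.superset_covering ?_ (Et18.mem_topology_of_finite (fun _ : PUnit.{1} => (ProEtS.bcP i).obj (V w))
      (fun _ => b w) fun x => ⟨⟨⟩, hs w x⟩)
    rintro T' e ⟨_, d, _, ⟨⟩, rfl⟩
    exact ⟨_, d, _, ⟨w⟩, (Category.assoc _ _ _).symm⟩
  haveI : Sheaf.IsLocallySurjective φ := ⟨fun {W} s => by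
    obtain ⟨ι, V, b, hb, hbij⟩ := hcov W
    refine J.superset_covering ?_ hb
    rintro T f ⟨_, c, _, ⟨k⟩, rfl⟩
    exact (Presheaf.imageSieve φ.hom s).downward_closed ((hbij k).2 _) c⟩
  haveI : Sheaf.IsLocallyInjective φ := ⟨fun {W} x y hxy => by
    obtain ⟨ι, V, b, hb, hbij⟩ := hcov W.unop
    refine J.superset_covering ?_ hb
    rintro T f ⟨_, c, _, ⟨k⟩, rfl⟩
    refine (Presheaf.equalizerSieve x y).downward_closed ?_ c
    apply (hbij k).1
    show φ.hom.app _ (F.obj.map (b k).op x) = φ.hom.app _ (F.obj.map (b k).op y)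
    erw [NatTrans.naturality_apply, NatTrans.naturality_apply]
    exact congrArg _ hxy⟩
  haveI : Epi φ := (Sheaf.isLocallySurjective_iff_epi' (J := Scheme.ProEt.topology Z) AddCommGrpCat.{u + 1} φ).1 ‹_›
  haveI : Mono φ := Sheaf.mono_of_injective φ ((Sheaf.isLocallyInjective_iff_injective φ).1 ‹_›)
  exact isIso_of_mono_of_epi φ

/-- The counit is an isomorphism. -/
theorem isIso_counit (F : ProEtS.AbP Z) : IsIso ((ProEtS.pullPushAdjP i).counit.app F) := by
  refine isIso_of_bc i _ fun V hV hwc => ?_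
  haveI := hV
  have hu := unit_bijective i V hwc ((ProEtS.pushP i).obj F)
  have htri := (ProEtS.pullPushAdjP i).right_triangle_components F
  have h1 : ∀ x, ((ProEtS.pullPushAdjP i).counit.app F).hom.app (op ((ProEtS.bcP i).obj V))
      (((ProEtS.pullPushAdjP i).unit.app ((ProEtS.pushP i).obj F)).hom.app (op V) x) = x :=
    fun x => congrArg (fun φ => φ.hom.app (op V) x) htri
  constructor
  · intro a b hab
    obtain ⟨x, rfl⟩ := hu.2 a
    obtain ⟨y, rfl⟩ := hu.2 b
    rw [h1, h1] at hab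
    rw [hab]
  · exact fun x => ⟨_, h1 x⟩

theorem pushP_isEquivalence : (ProEtS.pushP i).IsEquivalence := by
  haveI : ∀ F, IsIso ((ProEtS.pullPushAdjP i).unit.app F) := fun F =>
    isIso_of_wc _ fun V hV hwc => by haveI := hV; exact unit_bijective i V hwc F
  haveI : ∀ F, IsIso ((ProEtS.pullPushAdjP i).counit.app F) := isIso_counit i
  exact (ProEtS.pullPushAdjP i).toEquivalence.isEquivalence_inverse

end Groth.Agent.ProEtWC.UH
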